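import Cfsg.Agent.Lib.ExtraTypeMax.Setting

/-!
The two eigenspaces of a singular element: the induced action on the residual space and the scalar lemma.
-/

set_option autoImplicit false
set_option linter.unusedSectionVars false

namespace CfsgLib.ExtraTypeMax

open Matrix CfsgLib.GeomClasses

variable {ι : Type} [Fintype ι] [DecidableEq ι] {F : Type*} [Field F]

/-- The projection on the fixed space of an involution. -/
noncomputable def pr (A : GL ι F) : Matrix ι ι F := (2 : F)⁻¹ • (1 + mt A)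

variable {V : Type*} [AddCommGroup V] [Module (ZMod 2) V]

/-- The restriction of the quadratic space to a non-degenerate subspace. -/
def QS.restrict (S : QS V) (W : Submodule (ZMod 2) V) (h : ∀ x ∈ W, (∀ y ∈ W, S.B x y = 0) → x = 0) : QS W where
  Q x := S.Q x
  B := S.B.compl₁₂ W.subtype W.subtype
  Q_add x y := S.Q_add x y
  nondeg x hx := Subtype.ext (h x x.2 fun y hy => hx ⟨y, hy⟩)

@[simp] theorem QS.restrict_B (S : QS V) {W : Submodule (ZMod 2) V} {h} (x y : W) :
    (S.restrict W h).B x y = S.B (x : V) (y : V) := rfl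

@[simp] theorem QS.restrict_Q (S : QS V) {W : Submodule (ZMod 2) V} {h} (x : W) :
    (S.restrict W h).Q x = S.Q (x : V) := rfl

theorem QS.restrict_pair (S : QS V) [FiniteDimensional (ZMod 2) V] {W : Submodule (ZMod 2) V} {h} (c d x : W) :
    (((S.restrict W h).pair c d x : W) : V) = S.pair c d (x : V) := by
  simp [QS.pair_apply, QS.tv_apply]

/-- A singular vector with a chosen partner and a chosen lift. -/
structure Blk (S : QS V) (r : V → GL ι F) (a b : V) (A : GL ι F) : Prop where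
  singular : S.Q a = 0
  partner : S.B a b = 1
  lift : PM A (r a)

theorem Blk.neg {S : QS V} {r : V → GL ι F} {a b : V} {A : GL ι F} (H : Blk S r a b A) : Blk S r a b (-A) :=
  ⟨H.singular, H.partner, (PM.neg_self A).trans H.lift⟩

/-- The residual space of a singular vector. -/
abbrev wsub (S : QS V) (a b : V) : Submodule (ZMod 2) V := S.lperp [a, b]

/-- The map induced on the residual space on the fixed space of the involution. -/
def IndA (S : QS V) (r : V → GL ι F) (a b : V) (A g : GL ι F) (θ : wsub S a b → wsub S a b) : Prop :=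
  ∀ c : wsub S a b, ∃ x, mt (g * r (c : V) * g⁻¹) * pr A = mt (sgn x * r (θ c).1) * pr A

/-- The residual space is preserved. -/
def NormA (S : QS V) (r : V → GL ι F) (a b : V) (A g : GL ι F) : Prop :=
  ∀ c : wsub S a b, ∃ d : wsub S a b, ∃ x, mt (g * r (c : V) * g⁻¹) * pr A = mt (sgn x * r (d : V)) * pr A

namespace Ext

variable [FiniteDimensional (ZMod 2) V] {S : QS V} {f : (ι → F) → (ι → F) → F} {r : V → GL ι F}
  {G : Subgroup (GL ι F)} (E : Ext S f r G) {a b : V} {A : GL ι F} (H : Blk S r a b A)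
include E H

theorem a_ne : a ≠ 0 := fun e => by simpa [e] using H.partner

theorem A_sq : A * A = 1 := by
  rcases H.lift with e | e <;> rw [e] <;> simp [E.r_sq, H.singular]

theorem A_iso : Symp.IsIsometry f A := by
  rcases H.lift with rfl | rfl
  · exact E.r_iso a
  · intro u v
    rw [Units.val_neg, Matrix.neg_mulVec, Matrix.neg_mulVec, ← neg_one_smul F (mt (r a) *ᵥ u),
      ← neg_one_smul F (mt (r a) *ᵥ v), E.bil.smul_left, E.bil.smul_right, E.r_iso a u v]
    ring

theorem A_mem : A ∈ E.R := ⟨a, H.lift⟩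

theorem A_mt : mt A * mt A = 1 := congrArg Units.val (E.A_sq H)

theorem pr_mul_A : pr A * mt A = pr A := by
  rw [pr, smul_mul_assoc, add_mul, one_mul, E.A_mt H, add_comm]

theorem A_mul_pr : mt A * pr A = pr A := by
  rw [pr, mul_smul_comm, mul_add, mul_one, E.A_mt H, add_comm]

theorem pr_idem : pr A * pr A = pr A := by
  nth_rw 2 [pr]
  rw [mul_smul_comm, mul_add, mul_one, E.pr_mul_A H, ← two_smul F, smul_smul, inv_mul_cancel₀ E.two, one_smul]

theorem pr_neg : pr (-A) = 1 - pr A := by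
  rw [pr, pr, mt_neg, eq_sub_iff_add_eq, ← smul_add, add_add_add_comm, neg_add_cancel, add_zero, ← two_smul F,
    smul_smul, inv_mul_cancel₀ E.two, one_smul]

theorem pr_mul_neg : pr A * pr (-A) = 0 := by rw [E.pr_neg H, mul_sub, mul_one, E.pr_idem H, sub_self]

theorem neg_mul_pr : pr (-A) * pr A = 0 := by rw [E.pr_neg H, sub_mul, one_mul, E.pr_idem H, sub_self]

theorem commute_pr {g : GL ι F} (hg : g * A = A * g) : mt g * pr A = pr A * mt g := by
  rw [pr, mul_smul_comm, smul_mul_assoc, mul_add, add_mul, mul_one, one_mul, ← Units.val_mul, hg, Units.val_mul]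

theorem r_b_pr : mt (r b) * pr A = pr (-A) * mt (r b) := by
  have h : r b * A = -(A * r b) := by
    rcases H.lift with e | e <;> rw [e] <;> simp [E.r_comm1 (show S.B b a = 1 by rw [S.B_comm]; exact H.partner)]
  have h' : mt (r b) * mt A = -(mt A * mt (r b)) := congrArg Units.val h
  rw [pr, pr, mt_neg, mul_smul_comm, smul_mul_assoc, mul_add, add_mul, mul_one, one_mul, h', neg_mul]

theorem pr_ne_zero : pr A ≠ 0 := fun e => by
  have h : pr (-A) = 1 := by rw [E.pr_neg H, e, sub_zero]
  have h1 := E.r_b_pr H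
  rw [e, mul_zero, h, one_mul] at h1
  have := E.nonempty
  exact (r b).isUnit.ne_zero h1.symm

theorem A_ne_neg_one : A ≠ -1 := fun e => E.pr_ne_zero H (by rw [pr, e, Units.val_neg, Units.val_one, add_neg_cancel, smul_zero])

/-- Two matrices agreeing on both eigenspaces are equal. -/
theorem ext_pr {m m' : Matrix ι ι F} (h1 : m * pr A = m' * pr A) (h2 : m * pr (-A) = m' * pr (-A)) : m = m' := by
  calc m = m * pr A + m * pr (-A) := by rw [← mul_add, E.pr_neg H, add_sub_cancel, mul_one]
    _ = m' * pr A + m' * pr (-A) := by rw [h1, h2]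
    _ = m' := by rw [← mul_add, E.pr_neg H, add_sub_cancel, mul_one]

theorem w_perp (c : wsub S a b) : S.B a (c : V) = 0 ∧ S.B b (c : V) = 0 :=
  ⟨S.mem_lperp.1 c.2 a (by simp), S.mem_lperp.1 c.2 b (by simp)⟩

theorem w_commute (c : wsub S a b) : r (c : V) * A = A * r (c : V) := by
  have h := E.r_comm0 (show S.B (c : V) a = 0 by rw [S.B_comm]; exact (E.w_perp H c).1)
  rcases H.lift with e | e <;> rw [e] <;> simp [h]

theorem w_pr (c : wsub S a b) : mt (r (c : V)) * pr A = pr A * mt (r (c : V)) := E.commute_pr H (E.w_commute H c)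

theorem sgn_w_commute (x : ZMod 2) (c : wsub S a b) : (sgn x * r (c : V)) * A = A * (sgn x * r (c : V)) := by
  rw [mul_assoc, E.w_commute H c, ← mul_assoc, ← mul_assoc, sgn_mul_comm]

theorem w_decomp (v : V) : ∃ w : wsub S a b, v = (w : V) + (S.B v b • a + S.B v a • b) := by
  refine ⟨⟨v + (S.B v b • a + S.B v a • b), S.mem_lperp.2 fun y hy => ?_⟩, ?_⟩
  · simp only [List.mem_cons, List.not_mem_nil, or_false] at hy
    rcases hy with hy | hy <;> rw [hy] <;>
      simp [S.B_self, H.partner, S.B_comm b a, S.B_comm v, CharTwo.add_self_eq_zero]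
  · show v = v + (S.B v b • a + S.B v a • b) + (S.B v b • a + S.B v a • b)
    rw [add_assoc, v_add_self, add_zero]

theorem w_nondeg : ∀ x ∈ wsub S a b, (∀ y ∈ wsub S a b, S.B x y = 0) → x = 0 := by
  refine fun x hx h => S.nondeg x fun y => ?_
  obtain ⟨w, hw⟩ := E.w_decomp H y
  rw [hw, map_add, map_add, map_smul, map_smul, h w w.2, S.B_comm x a, (E.w_perp H ⟨x, hx⟩).1, S.B_comm x b,
    (E.w_perp H ⟨x, hx⟩).2]
  simp

/-- The residual quadratic space. -/
abbrev SW : QS (wsub S a b) := S.restrict (wsub S a b) (E.w_nondeg H)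

theorem six_le : 6 ≤ Module.finrank (ZMod 2) (wsub S a b) := by
  show 6 ≤ Module.finrank (ZMod 2) (S.lperp [a, b])
  have := S.finrank_lperp [a, b]
  have := E.eight
  simp only [List.length_cons, List.length_nil] at *
  omega

theorem wr_inj {c d : wsub S a b} {x y : ZMod 2}
    (h : mt (sgn x * r (c : V)) * pr A = mt (sgn y * r (d : V)) * pr A) : c = d ∧ x = y := by
  have key : ∀ {g h : GL ι F}, mt g * pr A = mt h * pr A → g * A = A * g → h * A = A * h →
      mt (g⁻¹ * h) * pr A = pr A := fun {g h} e _ _ => by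
    rw [Units.val_mul, mul_assoc, ← e, ← mul_assoc, ← Units.val_mul, inv_mul_cancel, Units.val_one, one_mul]
  have hcd : c = d := by
    by_contra hne
    have hne' : (c : V) + d ≠ 0 := fun e => hne (Subtype.ext (v_add_eq_zero.1 e))
    obtain ⟨e, he⟩ := (E.SW H).exists_B_one (x := c + d) fun h0 => hne' (congrArg Subtype.val h0)
    have he' : S.B (e : V) c + S.B (e : V) d = 1 := by
      rw [QS.restrict_B, Submodule.coe_add, map_add, LinearMap.add_apply, S.B_comm _ (e : V),
        S.B_comm (d : V) (e : V)] at he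
      exact he
    have hconj := congrArg (fun m => mt (r (e : V)) * m * mt (r (e : V))⁻¹) h
    have hrot : ∀ (u : ZMod 2) (w : wsub S a b),
        mt (r (e : V)) * (mt (sgn u * r (w : V)) * pr A) * mt (r (e : V))⁻¹ =
          mt (sgn (S.B (e : V) w)) * (mt (sgn u * r (w : V)) * pr A) := fun u w => by
      have hp : pr A * mt (r (e : V))⁻¹ = mt (r (e : V))⁻¹ * pr A := by
        refine (E.commute_pr H ?_).symm
        exact (Commute.inv_left (show Commute (r (e : V)) A from E.w_commute H e)).eq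
      calc _ = mt (r (e : V) * (sgn u * r (w : V)) * (r (e : V))⁻¹) * pr A := by
            simp only [Units.val_mul, mul_assoc, hp]
        _ = _ := by
            rw [show r (e : V) * (sgn u * r (w : V)) * (r (e : V))⁻¹ = (r (e : V) * sgn u) * (r (w : V) * (r (e : V))⁻¹) by
              group, ← sgn_mul_comm, mul_assoc, ← mul_assoc (r (e : V)), E.r_conj, ← mul_assoc,
              sgn_mul_comm u (sgn _), mul_assoc, Units.val_mul, mul_assoc]
    rw [hrot, hrot, h] at hconj
    have hneg : mt (sgn y * r (d : V)) * pr A = -(mt (sgn y * r (d : V)) * pr A) := by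
      rcases z2 (S.B (e : V) c) with k | k <;> rcases z2 (S.B (e : V) d) with k' | k' <;> rw [k, k'] at he' hconj
      · exact absurd he' (by decide)
      · simpa using hconj
      · simpa using hconj.symm
      · exact absurd he' (by decide)
    have h3 : (2 : F) • (mt (sgn y * r (d : V)) * pr A) = 0 := by
      rw [two_smul]; exact add_eq_zero_iff_eq_neg.2 hneg
    exact E.pr_ne_zero H (((sgn y * r (d : V)).isUnit.mul_right_eq_zero).1 ((smul_eq_zero.1 h3).resolve_left E.two))
  refine ⟨hcd, ?_⟩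
  subst hcd
  by_contra hne
  rcases z2 x with rfl | rfl <;> rcases z2 y with rfl | rfl <;> simp at hne h <;>
  · rw [← sub_eq_zero] at h
    simp only [sub_neg_eq_add, ← neg_add', neg_eq_zero, ← two_smul F, smul_eq_zero, E.two, false_or] at h
    exact E.pr_ne_zero H (((r (c : V)).isUnit.mul_right_eq_zero).1 h)

theorem inda_unique {g : GL ι F} {θ θ' : wsub S a b → wsub S a b} (h : IndA S r a b A g θ)
    (h' : IndA S r a b A g θ') (c : wsub S a b) : θ c = θ' c := by
  obtain ⟨x, hx⟩ := h c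
  obtain ⟨x', hx'⟩ := h' c
  exact (E.wr_inj H (hx.symm.trans hx')).1

theorem inda_one : IndA S r a b A 1 id := fun c => ⟨0, by simp⟩

theorem inda_mul {g h : GL ι F} (hg : g * A = A * g) {θ φ : wsub S a b → wsub S a b} (hθ : IndA S r a b A g θ)
    (hφ : IndA S r a b A h φ) : IndA S r a b A (g * h) (θ ∘ φ) := fun c => by
  obtain ⟨x, hx⟩ := hφ c
  obtain ⟨y, hy⟩ := hθ (φ c)
  refine ⟨x + y, ?_⟩
  have hg' : mt g⁻¹ * pr A = pr A * mt g⁻¹ := E.commute_pr H ((Commute.inv_left (show Commute g A from hg)).eq)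
  calc mt (g * h * r (c : V) * (g * h)⁻¹) * pr A = mt g * (mt (h * r (c : V) * h⁻¹) * pr A) * mt g⁻¹ := by
        simp only [_root_.mul_inv_rev, Units.val_mul, mul_assoc, hg']
    _ = mt g * (mt (sgn x * r ((φ c).1)) * pr A) * mt g⁻¹ := by rw [hx]
    _ = mt (sgn x) * (mt (g * r ((φ c).1) * g⁻¹) * pr A) := by
        have : mt g * mt (sgn x) = mt (sgn x) * mt g := congrArg Units.val (sgn_mul_comm x g).symm
        simp only [Units.val_mul, ← mul_assoc, this]
        simp only [mul_assoc, hg']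
    _ = mt (sgn x) * (mt (sgn y * r ((θ (φ c)).1)) * pr A) := by rw [hy]
    _ = _ := by
        rw [sgn_add]
        simp only [Units.val_mul, mul_assoc, Function.comp_apply]

theorem norma_equiv {g : GL ι F} (hg : g * A = A * g) (h : NormA S r a b A g) :
    ∃ θ : wsub S a b ≃ₗ[ZMod 2] wsub S a b, IndA S r a b A g θ ∧ (E.SW H).Iso θ := by
  choose d x hx using h
  have hg' : mt g⁻¹ * pr A = pr A * mt g⁻¹ := E.commute_pr H ((Commute.inv_left (show Commute g A from hg)).eq)
  have hmul : ∀ {u v : GL ι F} (_ : u * A = A * u) (_ : v * A = A * v) {p q : GL ι F},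
      mt (g * u * g⁻¹) * pr A = mt p * pr A → mt (g * v * g⁻¹) * pr A = mt q * pr A → p * A = A * p →
      q * A = A * q → mt (g * (u * v) * g⁻¹) * pr A = mt (p * q) * pr A := by
    intro u v _ hv p q hp hq _ hqA
    rw [show g * (u * v) * g⁻¹ = g * u * g⁻¹ * (g * v * g⁻¹) by group, Units.val_mul, mul_assoc, hq,
      E.commute_pr H hqA, ← mul_assoc, hp, mul_assoc, ← E.commute_pr H hqA, ← mul_assoc, Units.val_mul]
  have hadd : ∀ c c', d (c + c') = d c + d c' := fun c c' => by
    obtain ⟨t, ht⟩ := pm_iff.1 (E.r_add (c : V) c')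
    obtain ⟨t', ht'⟩ := pm_iff.1 (E.r_add ((d c).1) ((d c').1))
    have h1 := hmul (E.w_commute H c) (E.w_commute H c') (hx c) (hx c') (E.sgn_w_commute H _ _) (E.sgn_w_commute H _ _)
    rw [ht, ← mul_assoc g, ← sgn_mul_comm t g, mul_assoc (sgn t), mul_assoc (sgn t), Units.val_mul, mul_assoc,
      ← Submodule.coe_add, hx (c + c')] at h1
    have e : sgn (x c) * r ((d c).1) * (sgn (x c') * r ((d c').1)) = sgn (x c + x c' + t') * r ((d c + d c' : wsub S a b) : V) := by
      rw [Submodule.coe_add, sgn_add, sgn_add, mul_assoc (sgn (x c) * sgn (x c')), ← ht', mul_assoc (sgn (x c)),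
        ← mul_assoc (r ((d c).1)), ← sgn_mul_comm, mul_assoc, mul_assoc]
    rw [e, ← mul_assoc, ← Units.val_mul, ← mul_assoc, ← sgn_add] at h1
    exact (E.wr_inj H h1).1
  have hinj : ∀ c, d c = 0 → c = 0 := fun c hc => by
    have h1 := hx c
    rw [hc, ZeroMemClass.coe_zero, E.r_zero, mul_one] at h1
    have h2 := congrArg (fun m => mt g⁻¹ * m * mt g) h1
    have hs : mt g⁻¹ * (mt (sgn (x c)) * pr A) * mt g = mt (sgn (x c) : GL ι F) * pr A := by
      rw [← mul_assoc, show mt g⁻¹ * mt (sgn (x c) : GL ι F) = mt (sgn (x c) : GL ι F) * mt g⁻¹ from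
        congrArg Units.val (sgn_mul_comm (x c) g⁻¹).symm, mul_assoc, mul_assoc, ← mul_assoc (mt g⁻¹), hg', mul_assoc,
        ← Units.val_mul, inv_mul_cancel, Units.val_one, mul_one]
    have hl : mt g⁻¹ * (mt (g * r (c : V) * g⁻¹) * pr A) * mt g = mt (r (c : V)) * pr A := by
      rw [← mul_assoc, ← Units.val_mul, show g⁻¹ * (g * r (c : V) * g⁻¹) = r (c : V) * g⁻¹ by group, Units.val_mul,
        mul_assoc, mul_assoc, ← mul_assoc (mt g⁻¹), hg', mul_assoc, ← Units.val_mul, inv_mul_cancel, Units.val_one,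
        mul_one]
    simp only [hs, hl] at h2
    refine (E.wr_inj H (x := 0) (y := x c) (c := c) (d := 0) ?_).1
    simpa [E.r_zero] using h2
  let θ0 : wsub S a b →ₗ[ZMod 2] wsub S a b := AddMonoidHom.toZModLinearMap 2 (AddMonoidHom.mk' d hadd)
  have hbij : Function.Bijective θ0 :=
    ⟨(injective_iff_map_eq_zero θ0).2 hinj, LinearMap.injective_iff_surjective.1 ((injective_iff_map_eq_zero θ0).2 hinj)⟩
  refine ⟨LinearEquiv.ofBijective θ0 hbij, fun c => ⟨x c, hx c⟩, fun c => ?_⟩
  show S.Q ((d c).1) = S.Q (c : V)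
  have h1 := hmul (E.w_commute H c) (E.w_commute H c) (hx c) (hx c) (E.sgn_w_commute H _ _) (E.sgn_w_commute H _ _)
  rw [E.r_sq, ← sgn_mul_comm, mul_inv_cancel_right] at h1
  have e : sgn (x c) * r ((d c).1) * (sgn (x c) * r ((d c).1)) = sgn (S.Q ((d c).1)) := by
    rw [mul_assoc, ← mul_assoc (r ((d c).1)), ← sgn_mul_comm, mul_assoc, E.r_sq, ← mul_assoc, sgn_sq, one_mul]
  rw [e] at h1
  exact ((E.wr_inj H (c := 0) (d := 0) (by simpa [E.r_zero] using h1)).2).symm

/-- A matrix commuting with the residual group on one eigenspace is scalar there. -/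
theorem sc_pr {m : Matrix ι ι F} (hA : m * mt A = mt A * m)
    (hc : ∀ c : wsub S a b, m * mt (r (c : V)) * pr A = mt (r (c : V)) * m * pr A) :
    ∃ α : F, m * pr A = α • pr A := by
  set B := r b with hB
  have hBsq : ∃ s, B * B = sgn s := ⟨_, E.r_sq b⟩
  obtain ⟨s, hs⟩ := hBsq
  set m0 := m * pr A with hm0
  set M := m0 + mt B * m0 * mt B⁻¹ with hM
  have hmA : ∀ {n : Matrix ι ι F}, n * mt A = mt A * n → n * pr A = pr A * n := fun {n} hn => by
    rw [pr, mul_smul_comm, smul_mul_assoc, mul_add, add_mul, mul_one, one_mul, hn]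
  have h0A : m0 * mt A = mt A * m0 := by rw [hm0, mul_assoc, E.pr_mul_A H, ← mul_assoc, ← hA, mul_assoc, E.A_mul_pr H]
  have hanti : B * A = -(A * B) := by
    rcases H.lift with e | e <;> rw [hB, e] <;> simp [E.r_comm1 (show S.B b a = 1 by rw [S.B_comm]; exact H.partner)]
  have hMA : M * mt A = mt A * M := by
    have h1 : mt B⁻¹ * mt A = -(mt A * mt B⁻¹) := by
      have h2 : B⁻¹ * A = -(A * B⁻¹) := by
        calc B⁻¹ * A = B⁻¹ * (A * B) * B⁻¹ := by group
          _ = B⁻¹ * (-(B * A)) * B⁻¹ := by rw [hanti, neg_neg]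
          _ = _ := by simp
      exact congrArg Units.val h2
    have h2 : mt B * mt A = -(mt A * mt B) := congrArg Units.val hanti
    rw [hM, add_mul, mul_add, h0A]
    congr 1
    rw [mul_assoc, h1, mul_neg, mul_assoc (mt B) m0, ← mul_assoc m0, h0A, ← mul_assoc (mt B), ← mul_assoc (mt B),
      h2, neg_mul, neg_mul, neg_neg]
    simp only [mul_assoc]
  have hMB : M * mt B = mt B * M := by
    have e1 : mt B * (mt B * m0 * mt B⁻¹) = m0 * mt B := by
      rw [← mul_assoc, ← mul_assoc, ← Units.val_mul B B, hs]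
      have hsm : mt (sgn s : GL ι F) * m0 = m0 * mt (sgn s : GL ι F) := by
        rcases z2 s with rfl | rfl <;> simp
      rw [hsm, mul_assoc, ← Units.val_mul, ← hs, mul_inv_cancel_right]
    rw [hM, add_mul, mul_add, e1, mul_assoc (mt B * m0) (mt B⁻¹), ← Units.val_mul, inv_mul_cancel, Units.val_one, mul_one, add_comm]
  have hMc : ∀ c : wsub S a b, M * mt (r (c : V)) = mt (r (c : V)) * M := fun c => by
    have h1 : m0 * mt (r (c : V)) = mt (r (c : V)) * m0 := by
      rw [hm0, mul_assoc, ← E.w_pr H c, ← mul_assoc, hc c, mul_assoc]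
    have hcb : B * r (c : V) = r (c : V) * B := E.r_comm0 (E.w_perp H c).2
    have h2 : mt B * mt (r (c : V)) = mt (r (c : V)) * mt B := congrArg Units.val hcb
    have h3 : mt B⁻¹ * mt (r (c : V)) = mt (r (c : V)) * mt B⁻¹ :=
      congrArg Units.val ((show Commute B (r (c : V)) from hcb).inv_left.eq)
    rw [hM, add_mul, mul_add, h1]
    congr 1
    rw [mul_assoc, h3, ← mul_assoc, mul_assoc (mt B) m0, h1, ← mul_assoc, h2]
    simp only [mul_assoc]
  obtain ⟨α, hα⟩ := E.abs M fun v => by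
    obtain ⟨w, hw⟩ := E.w_decomp H v
    have hz : ∀ (u : V) (t : ZMod 2), M * mt (r u) = mt (r u) * M → M * mt (r (t • u)) = mt (r (t • u)) * M := by
      intro u t h
      rcases z2 t with rfl | rfl
      · simp [E.r_zero]
      · simpa using h
    have hadd : ∀ u u', M * mt (r u) = mt (r u) * M → M * mt (r u') = mt (r u') * M →
        M * mt (r (u + u')) = mt (r (u + u')) * M := by
      intro u u' h h'
      obtain ⟨x, hx⟩ := pm_iff.1 (E.r_add u u').symm
      rw [hx, Units.val_mul, Units.val_mul]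
      have hsm : M * mt (sgn x : GL ι F) = mt (sgn x : GL ι F) * M := by rcases z2 x with rfl | rfl <;> simp
      rw [← mul_assoc, hsm, mul_assoc, ← mul_assoc M, h, mul_assoc, h', ← mul_assoc, ← mul_assoc, ← mul_assoc]
    rw [hw]
    refine hadd _ _ (hMc w) (hadd _ _ (hz _ _ ?_) (hz _ _ hMB))
    rcases H.lift with e | e
    · rwa [← e]
    · rw [e, mt_neg, mul_neg, neg_mul, neg_inj] at hMA; exact hMA
  refine ⟨α, ?_⟩
  have h1 : mt B⁻¹ * pr A = pr (-A) * mt B⁻¹ := by
    have h := E.r_b_pr H.neg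
    rw [neg_neg, ← hB] at h
    calc mt B⁻¹ * pr A = mt B⁻¹ * (pr A * mt B) * mt B⁻¹ := by
          rw [mul_assoc, mul_assoc, ← Units.val_mul, mul_inv_cancel, Units.val_one, mul_one]
      _ = _ := by
          rw [← h, ← mul_assoc, ← Units.val_mul, inv_mul_cancel, Units.val_one, one_mul]
  have h2 := congrArg (· * pr A) hα
  simp only [hM, add_mul] at h2
  rw [smul_mul_assoc, one_mul, mul_assoc (mt B * m0), h1] at h2
  rw [show mt B * m0 * (pr (-A) * mt B⁻¹) = mt B * (m * (pr A * pr (-A))) * mt B⁻¹ by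
      simp only [hm0, mul_assoc], E.pr_mul_neg H, mul_zero, mul_zero, zero_mul, add_zero, hm0, mul_assoc,
    E.pr_idem H] at h2
  exact h2

theorem sq_one {g : GL ι F} (hg : Symp.IsIsometry f g) {α : F} (h : mt g * pr A = α • pr A) : α * α = 1 := by
  obtain ⟨u, hu⟩ : ∃ u, pr A *ᵥ u ≠ 0 := by
    by_contra hc
    push Not at hc
    exact E.pr_ne_zero H (Matrix.ext_of_mulVec_single fun i => by rw [hc, Matrix.zero_mulVec])
  obtain ⟨v, hv⟩ := (E.nondeg _ hu).2
  have hAu : mt A *ᵥ (pr A *ᵥ u) = pr A *ᵥ u := by rw [Matrix.mulVec_mulVec, E.A_mul_pr H]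
  have hAn : mt A *ᵥ (pr (-A) *ᵥ v) = (-1 : F) • (pr (-A) *ᵥ v) := by
    have := E.A_mul_pr H.neg
    rw [mt_neg, neg_mul] at this
    rw [Matrix.mulVec_mulVec, neg_one_smul, ← Matrix.neg_mulVec]
    congr 1
    conv_rhs => rw [← this, neg_neg]
  have h0 : f (pr A *ᵥ u) (pr (-A) *ᵥ v) = 0 := by
    have h1 := E.A_iso H (pr A *ᵥ u) (pr (-A) *ᵥ v)
    rw [hAu, hAn, E.bil.smul_right] at h1
    have : (2 : F) * f (pr A *ᵥ u) (pr (-A) *ᵥ v) = 0 := by linear_combination -h1
    exact (mul_eq_zero.1 this).resolve_left E.two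
  have hv' : f (pr A *ᵥ u) (pr A *ᵥ v) = f (pr A *ᵥ u) v := by
    have e : v = pr A *ᵥ v + pr (-A) *ᵥ v := by
      rw [← Matrix.add_mulVec, E.pr_neg H, add_sub_cancel, Matrix.one_mulVec]
    conv_rhs => rw [e, E.bil.add_right, h0, add_zero]
  have h2 := hg (pr A *ᵥ u) (pr A *ᵥ v)
  rw [Matrix.mulVec_mulVec, Matrix.mulVec_mulVec, h, Matrix.smul_mulVec, Matrix.smul_mulVec, E.bil.smul_left,
    E.bil.smul_right, hv', ← mul_assoc] at h2
  exact mul_right_cancel₀ hv (h2.trans (one_mul _).symm)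

theorem eq_sgn_of_scalar {g : GL ι F} (hg : Symp.IsIsometry f g) {α : F} (h : mt g * pr A = α • pr A) :
    ∃ x, mt g * pr A = mt (sgn x : GL ι F) * pr A := by
  rcases mul_self_eq_one_iff.1 (E.sq_one H hg h) with rfl | rfl
  · exact ⟨0, by rw [h, one_smul]; simp⟩
  · exact ⟨1, by rw [h, neg_one_smul]; simp⟩

/-- An element inducing the identity is a lift of the residual group on the eigenspace. -/
theorem of_inda_id {g : GL ι F} (hg : g * A = A * g) (hiso : Symp.IsIsometry f g) (h : IndA S r a b A g id) :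
    ∃ (e : wsub S a b) (x : ZMod 2), mt g * pr A = mt (sgn x * r (e : V)) * pr A ∧
      ∀ c : wsub S a b, mt (g * r (c : V) * g⁻¹) * pr A = mt (sgn (S.B (e : V) c) * r (c : V)) * pr A := by
  choose φ hφ using h
  have hg' : mt g⁻¹ * pr A = pr A * mt g⁻¹ := E.commute_pr H ((Commute.inv_left (show Commute g A from hg)).eq)
  have hadd : ∀ c c', φ (c + c') = φ c + φ c' := fun c c' => by
    obtain ⟨t, ht⟩ := pm_iff.1 (E.r_add (c : V) c')
    have h1 : mt (g * (r (c : V) * r (c' : V)) * g⁻¹) * pr A =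
        mt (sgn (φ c + φ c') * (r (c : V) * r (c' : V))) * pr A := by
      rw [show g * (r (c : V) * r (c' : V)) * g⁻¹ = g * r (c : V) * g⁻¹ * (g * r (c' : V) * g⁻¹) by group,
        Units.val_mul, mul_assoc, hφ c', E.commute_pr H (E.sgn_w_commute H _ _), ← mul_assoc, hφ c, mul_assoc,
        ← E.commute_pr H (E.sgn_w_commute H _ _), ← mul_assoc, ← Units.val_mul]
      congr 2
      show sgn (φ c) * r (c : V) * (sgn (φ c') * r (c' : V)) = _
      rw [sgn_add, mul_assoc (sgn (φ c) : GL ι F), ← mul_assoc (r (c : V)), ← sgn_mul_comm, mul_assoc, mul_assoc]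
    rw [ht, ← mul_assoc g, ← sgn_mul_comm t g, mul_assoc (sgn t), mul_assoc (sgn t), Units.val_mul, mul_assoc,
      ← Submodule.coe_add, hφ (c + c'), ← mul_assoc, ← Units.val_mul, ← mul_assoc, ← sgn_add, ← mul_assoc,
      ← sgn_add] at h1
    have := (E.wr_inj H h1).2
    rw [add_comm t] at this
    exact add_right_cancel this
  obtain ⟨e, he⟩ := (E.SW H).repr ⊤ (AddMonoidHom.toZModLinearMap 2
    (AddMonoidHom.mk' (fun x : (⊤ : Submodule (ZMod 2) (wsub S a b)) => φ x) fun c c' => hadd c c'))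
  have hB : ∀ c : wsub S a b, φ c = S.B (e : V) c := fun c => by rw [S.B_comm]; exact he ⟨c, trivial⟩
  set m := (r (e : V))⁻¹ * g with hm
  have hmA : m * A = A * m :=
    ((show Commute (r (e : V)) A from E.w_commute H e).inv_left.mul_left hg).eq
  obtain ⟨α, hα⟩ := E.sc_pr H (m := mt m) (congrArg Units.val hmA) fun c => by
    have h1 : mt g * mt (r (c : V)) * pr A = mt (sgn (φ c) * r (c : V) * g) * pr A := by
      have h2 : mt (g * r (c : V) * g⁻¹) * (mt g * pr A) = mt (sgn (φ c) * r (c : V)) * (mt g * pr A) := by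
        rw [E.commute_pr H hg, ← mul_assoc, hφ c, id, mul_assoc]
      rw [← mul_assoc, ← mul_assoc, ← Units.val_mul, ← Units.val_mul, inv_mul_cancel_right] at h2
      rwa [Units.val_mul g] at h2
    rw [hm, Units.val_mul, mul_assoc (mt (r (e : V))⁻¹), mul_assoc (mt (r (e : V))⁻¹), h1, ← mul_assoc,
      hB c, ← E.r_conj, ← Units.val_mul, ← Units.val_mul, ← Units.val_mul]
    congr 2
    group
  obtain ⟨x, hx⟩ := E.eq_sgn_of_scalar H (Symp.isometry_mul (mem_mul_iso (E.r_iso e)) hiso) hα
  refine ⟨e, x, ?_, fun c => by rw [hφ c, hB c]; rfl⟩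
  rw [sgn_mul_comm, Units.val_mul, mul_assoc, ← hx, Units.val_mul, ← mul_assoc, ← mul_assoc, ← Units.val_mul,
    mul_inv_cancel, Units.val_one, one_mul]

end Ext

end CfsgLib.ExtraTypeMax
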