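import Cfsg.Agent.Lib.ExtraTypeMax.Setting
import Cfsg.Agent.Lib.Structure.SymplecticTypeExpFour
import Cfsg.Prelude.Def_GeometricClasses

/-!
The quadratic space of an absolutely irreducible symplectic-type 2-group of exponent four.
-/

set_option autoImplicit false
set_option linter.unusedSectionVars false

namespace CfsgLib.ExtraTypeMax

open Matrix CfsgLib.GeomClasses

open scoped commutatorElement

variable {ι : Type} [Fintype ι] [DecidableEq ι] {F : Type*} [Field F]

theorem center_scalar {R : Subgroup (GL ι F)}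
    (hirr : Cfsg.Geo.ActsAbsolutelyIrreducibly (Cfsg.Geo.matrixSet R)) {g : R} (hg : g ∈ Subgroup.center R) :
    ∃ c : F, mt (g : GL ι F) = c • 1 := by
  refine hirr.2 _ ?_
  rintro _ ⟨x, hx, rfl⟩
  exact (congrArg (fun u : R => mt (u : GL ι F)) (Subgroup.mem_center_iff.1 hg ⟨x, hx⟩)).symm

theorem sgn_inj' [Nonempty ι] (h2 : (2 : F) ≠ 0) {x y : ZMod 2} (h : (sgn x : GL ι F) = sgn y) : x = y := by
  have hne : (1 : GL ι F) ≠ -1 := fun e => by
    have i := Classical.arbitrary ι
    have h := congrArg (fun M : Matrix ι ι F => M i i) (congrArg Units.val e)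
    simp only [Units.val_neg, Units.val_one, Matrix.neg_apply, Matrix.one_apply_eq] at h
    exact h2 (by linear_combination h)
  rcases z2 x with rfl | rfl <;> rcases z2 y with rfl | rfl <;> simp at h ⊢
  · exact hne h
  · exact hne h.symm

theorem conj_eq {g h : GL ι F} (e : PM g h) (Y : Matrix ι ι F) : mt g * Y * mt g⁻¹ = mt h * Y * mt h⁻¹ := by
  rcases e with rfl | rfl
  · rfl
  · simp [inv_neg]

open Classical in
theorem sum_sign {V : Type*} [AddCommGroup V] [Module (ZMod 2) V] [Fintype V] (h2 : (2 : F) ≠ 0) (S : QS V)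
    (a : V) : (∑ x : V, if S.B a x = 0 then (1 : F) else -1) = if a = 0 then (Fintype.card V : F) else 0 := by
  split_ifs with h
  · subst h; simp
  · have : FiniteDimensional (ZMod 2) V := Module.Finite.of_finite
    obtain ⟨y, hy⟩ := S.exists_B_one h
    have e : (∑ x : V, if S.B a x = 0 then (1 : F) else -1) = -∑ x : V, if S.B a x = 0 then (1 : F) else -1 := by
      conv_lhs => rw [← Equiv.sum_comp (Equiv.addLeft y)]
      rw [← Finset.sum_neg_distrib]
      refine Finset.sum_congr rfl fun x _ => ?_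
      rw [Equiv.coe_addLeft, map_add, hy]
      rcases z2 (S.B a x) with k | k <;> simp [k, CharTwo.add_self_eq_zero]
    exact (mul_eq_zero.1 (show (2 : F) * _ = 0 by rw [two_mul]; exact add_eq_zero_iff_eq_neg.2 e)).resolve_left h2

/-- The squares and the commutators are signs. -/
theorem signs_of_symplecticType [Finite F] [Nonempty ι] {R : Subgroup (GL ι F)}
    (hs : Cfsg.Geo.IsSymplecticTypeGroup 2 R)
    (hirr : Cfsg.Geo.ActsAbsolutelyIrreducibly (Cfsg.Geo.matrixSet R)) :
    (∀ a ∈ R, ∀ b ∈ R, ∃ x, a * b = sgn x * (b * a)) ∧ ∀ a ∈ R, ∃ x, a * a = sgn x := by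
  have hexp : ∀ q : R, q ^ 4 = 1 := fun q => by
    have := Monoid.pow_exponent_eq_one q
    rw [hs.exponent_eq] at this
    exact this
  have hprops := CfsgLib.SymplecticFour.commutator_props R hs.pGroup hs.cyclic_of_characteristic hexp
  have key : ∀ g : R, g ∈ Subgroup.center R → g * g = 1 → ∃ x, (g : GL ι F) = sgn x := by
    intro g hg hg2
    obtain ⟨c, hc⟩ := center_scalar hirr hg
    have h := congrArg (fun u : R => mt (u : GL ι F)) hg2
    simp only [Subgroup.coe_mul, Units.val_mul, Subgroup.coe_one, Units.val_one, hc, smul_mul_smul_comm, one_mul] at h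
    have i := Classical.arbitrary ι
    have hc2 : c * c = 1 := by simpa using congrArg (fun M : Matrix ι ι F => M i i) h
    rcases mul_self_eq_one_iff.1 hc2 with rfl | rfl
    · exact ⟨0, Units.ext (by rw [hc, one_smul, sgn_zero, Units.val_one])⟩
    · exact ⟨1, Units.ext (by rw [hc, neg_one_smul, sgn_one, Units.val_neg, Units.val_one])⟩
  refine ⟨fun a ha b hb => ?_, fun a ha => ?_⟩
  · obtain ⟨h1, h2⟩ := hprops ⟨a, ha⟩ ⟨b, hb⟩
    obtain ⟨x, hx⟩ := key _ h1 (by rw [← pow_two]; exact h2)
    refine ⟨x, ?_⟩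
    rw [← hx]
    simp only [commutatorElement_def, Subgroup.coe_mul, Subgroup.coe_inv]
    group
  · have hcen : (⟨a, ha⟩ : R) ^ 2 ∈ Subgroup.center R := by
      rw [Subgroup.mem_center_iff]
      intro x
      refine (commutatorElement_eq_one_iff_mul_comm.mp ?_).symm
      rw [CfsgLib.SymplecticFour.commutator_sq_left (hprops _ x).1, (hprops _ x).2]
    obtain ⟨x, hx⟩ := key _ hcen (by rw [← pow_add, hexp])
    exact ⟨x, by simpa [pow_two] using hx⟩

/-- The quadratic space and the lifts. -/
theorem build [Fintype F] {R : Subgroup (GL ι F)} {k : ℕ} (h2 : (2 : F) ≠ 0) (hι : 2 ≤ Fintype.card ι)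
    (h13 : 13 ≤ Fintype.card ι) (hs : Cfsg.Geo.IsSymplecticTypeGroup 2 R)
    (hirr : Cfsg.Geo.ActsAbsolutelyIrreducibly (Cfsg.Geo.matrixSet R))
    (hcard : Nat.card R = 2 ^ (1 + 2 * k)) (hZ : Nat.card (Subgroup.center R) = 2)
    (f : (ι → F) → (ι → F) → F) (hbil : Cfsg.Geo.IsBilinearForm f) (hnd : Cfsg.Geo.IsNondegenerateForm f)
    (hiso : ∀ g ∈ R, Symp.IsIsometry f g) {G : Subgroup (GL ι F)} (gIso : ∀ g ∈ G, Symp.IsIsometry f g)
    (sqG : ∀ g, Symp.IsIsometry f g → g * g ∈ G) :
    ∃ (S : QS (Fin (2 * k) → ZMod 2)) (r : (Fin (2 * k) → ZMod 2) → GL ι F) (E : Ext S f r G),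
      E.R = R ∧ Fintype.card ι = 2 ^ k := by
  classical
  have : Nonempty ι := Fintype.card_pos_iff.1 (by omega)
  have : Finite R := Nat.finite_of_card_ne_zero (by rw [hcard]; positivity)
  obtain ⟨hcomm, hsq⟩ := signs_of_symplecticType hs hirr
  have hneg : (-1 : GL ι F) ∈ R ∧ ∀ g : R, g ∈ Subgroup.center R ↔ ∃ x, (g : GL ι F) = sgn x := by
    have hdir : ∀ g : R, (∃ x, (g : GL ι F) = sgn x) → g ∈ Subgroup.center R := fun g ⟨x, hx⟩ =>
      Subgroup.mem_center_iff.2 fun y => Subtype.ext (by
        rw [Subgroup.coe_mul, Subgroup.coe_mul, hx, sgn_mul_comm])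
    obtain ⟨g, hg, hg1⟩ := (Subgroup.ne_bot_iff_exists_ne_one (H := Subgroup.center R)).1
      (fun e => by rw [e, Subgroup.card_bot] at hZ; omega) |> fun ⟨⟨g, hg⟩, h⟩ =>
        (⟨g, hg, fun e => h (Subtype.ext e)⟩ : ∃ g, g ∈ Subgroup.center R ∧ g ≠ 1)
    obtain ⟨c, hc⟩ := center_scalar hirr hg
    have hg2 : g * g = 1 := by
      have := pow_card_eq_one' (x := (⟨g, hg⟩ : Subgroup.center R))
      rw [hZ, pow_two] at this
      exact congrArg Subtype.val this
    have h := congrArg (fun u : R => mt (u : GL ι F)) hg2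
    simp only [Subgroup.coe_mul, Units.val_mul, Subgroup.coe_one, Units.val_one, hc, smul_mul_smul_comm, one_mul] at h
    have hc2 : c * c = 1 := by
      simpa using congrArg (fun M : Matrix ι ι F => M (Classical.arbitrary ι) (Classical.arbitrary ι)) h
    have hgm : (g : GL ι F) = -1 := by
      rcases mul_self_eq_one_iff.1 hc2 with rfl | rfl
      · exact absurd (Subtype.ext (Units.ext (by rw [hc, one_smul]; rfl))) hg1
      · exact Units.ext (by rw [hc, neg_one_smul]; rfl)
    refine ⟨hgm ▸ g.2, fun z => ⟨fun hz => ?_, hdir z⟩⟩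
    by_cases h1 : z = 1
    · exact ⟨0, by simp [h1]⟩
    refine ⟨1, ?_⟩
    have hset : ({⟨1, one_mem _⟩, ⟨g, hg⟩} : Finset (Subgroup.center R)) = Finset.univ := by
      refine Finset.eq_univ_of_card _ ?_
      rw [Finset.card_pair (fun e => hg1 (congrArg Subtype.val e).symm), ← Nat.card_eq_fintype_card, hZ]
    have := Finset.mem_univ (⟨z, hz⟩ : Subgroup.center R)
    rw [← hset, Finset.mem_insert, Finset.mem_singleton] at this
    rcases this with e | e
    · exact absurd (congrArg Subtype.val e) h1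
    · rw [show z = g from congrArg Subtype.val e, hgm, sgn_one]
  obtain ⟨hm1, hcen⟩ := hneg
  have hsgnR : ∀ x, (sgn x : GL ι F) ∈ R := fun x => by
    rcases z2 x with rfl | rfl <;> simp [R.one_mem, hm1]
  -- the quotient as a vector space
  let Rq := R ⧸ Subgroup.center R
  have hq2 : ∀ q : Rq, q * q = 1 := fun q => by
    obtain ⟨x, rfl⟩ := QuotientGroup.mk_surjective q
    rw [← QuotientGroup.mk_mul, QuotientGroup.eq_one_iff, hcen]
    exact hsq x x.2
  let _ : CommGroup Rq :=
    { (inferInstance : Group Rq) with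
      mul_comm := fun a b => by
        have hinv : ∀ q : Rq, q⁻¹ = q := fun q => inv_eq_of_mul_eq_one_right (hq2 q)
        conv_lhs => rw [← hinv (a * b), _root_.mul_inv_rev, hinv, hinv] }
  let _ : Module (ZMod 2) (Additive Rq) := AddCommGroup.zmodModule fun q => by
    rw [two_nsmul]; exact hq2 q.toMul
  have : Finite (Additive Rq) := inferInstanceAs (Finite Rq)
  have : Module.Finite (ZMod 2) (Additive Rq) := Module.Finite.of_finite
  have hdim : Module.finrank (ZMod 2) (Additive Rq) = 2 * k := by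
    have h1 := Module.natCard_eq_pow_finrank (K := ZMod 2) (V := Additive Rq)
    have h3 := Subgroup.card_eq_card_quotient_mul_card_subgroup (Subgroup.center R)
    rw [hcard, hZ, Nat.card_congr (Additive.ofMul (α := Rq))] at h3
    rw [h1, Nat.card_zmod, add_comm 1, pow_succ] at h3
    exact (Nat.pow_right_injective le_rfl (Nat.eq_of_mul_eq_mul_right two_pos h3)).symm
  let e : (Fin (2 * k) → ZMod 2) ≃ₗ[ZMod 2] Additive Rq := (Module.finBasisOfFinrankEq _ _ hdim).equivFun.symm
  let V := Fin (2 * k) → ZMod 2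
  let r : V → GL ι F := fun v => if v = 0 then 1 else (((e v).toMul).out : R)
  have hrR : ∀ v, r v ∈ R := fun v => by
    simp only [r]; split_ifs <;> simp [R.one_mem]
  have hrq : ∀ v, ((⟨r v, hrR v⟩ : R) : Rq) = (e v).toMul := fun v => by
    rcases eq_or_ne v 0 with rfl | h
    · rw [show (⟨r 0, hrR 0⟩ : R) = 1 from Subtype.ext (if_pos rfl), QuotientGroup.mk_one, map_zero]; rfl
    · rw [show (⟨r v, hrR v⟩ : R) = (e v).toMul.out from Subtype.ext (if_neg h)]
      exact Quotient.out_eq _
  have hpm : ∀ (g : R) v, (g : Rq) = (e v).toMul → PM (g : GL ι F) (r v) := fun g v h => by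
    rw [← hrq v, QuotientGroup.eq] at h
    obtain ⟨x, hx⟩ := (hcen _).1 h
    rw [pm_iff]
    refine ⟨x, ?_⟩
    simp only [Subgroup.coe_mul, Subgroup.coe_inv] at hx
    have h1 : r v = (g : GL ι F) * sgn x := by rw [← hx, mul_inv_cancel_left]
    rw [h1, ← sgn_mul_comm x (g : GL ι F), ← mul_assoc, sgn_sq, one_mul]
  have hmemR : ∀ g ∈ R, ∃ v, PM g (r v) := fun g hg =>
    ⟨e.symm (Additive.ofMul ((⟨g, hg⟩ : R) : Rq)), hpm ⟨g, hg⟩ _ (by rw [LinearEquiv.apply_symm_apply]; rfl)⟩
  have r_add : ∀ a b, PM (r a * r b) (r (a + b)) := fun a b =>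
    hpm (⟨r a, hrR a⟩ * ⟨r b, hrR b⟩) (a + b) (by rw [QuotientGroup.mk_mul, hrq, hrq, map_add]; rfl)
  choose q hqs using fun v : V => hsq (r v) (hrR v)
  choose β hβ using fun a b : V => hcomm (r a) (hrR a) (r b) (hrR b)
  have sinj := fun {x y : ZMod 2} => sgn_inj' (ι := ι) h2 (x := x) (y := y)
  have hβadd : ∀ a b c, β a (b + c) = β a b + β a c := fun a b c => by
    obtain ⟨x, hx⟩ := pm_iff.1 (r_add b c).symm
    have h1 := hβ a (b + c)
    rw [hx] at h1
    have h3 : r a * (sgn x * (r b * r c)) = sgn (β a b + β a c) * (sgn x * (r b * r c) * r a) := by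
      rw [← mul_assoc (r a) (sgn x), ← sgn_mul_comm x (r a), mul_assoc, ← mul_assoc (r a) (r b), hβ a b,
        mul_assoc (sgn (β a b)), mul_assoc (r b), hβ a c, ← mul_assoc (r b), ← sgn_mul_comm (β a c) (r b), sgn_add]
      simp only [mul_assoc]
      rw [← mul_assoc (sgn x), ← mul_assoc (sgn x), sgn_mul_comm x (sgn (β a b)), mul_assoc, mul_assoc,
        ← mul_assoc (sgn x) (sgn (β a c)), sgn_mul_comm x (sgn (β a c)), mul_assoc]
    rw [h1] at h3
    exact sinj (mul_right_cancel h3)
  have hβsymm : ∀ a b, β a b = β b a := fun a b => by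
    have h1 := hβ a b
    rw [hβ b a, ← mul_assoc, ← sgn_add, right_eq_mul, ← sgn_zero] at h1
    have h0 := sinj h1
    rwa [add_eq_zero_iff_eq_neg, CharTwo.neg_eq] at h0
  have hqadd : ∀ a b, q (a + b) = q a + q b + β a b := fun a b => by
    obtain ⟨x, hx⟩ := pm_iff.1 (r_add a b).symm
    have h1 := hqs (a + b)
    have e0 : r a * r b * (r a * r b) = sgn (q (a + b)) := by
      rw [← h1, hx, show sgn x * (r a * r b) * (sgn x * (r a * r b)) =
        sgn x * ((r a * r b) * sgn x) * (r a * r b) by simp only [mul_assoc], ← sgn_mul_comm x (r a * r b),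
        ← mul_assoc (sgn x) (sgn x), sgn_sq, one_mul]
    have h3 : r a * r b * (r a * r b) = sgn (q a + q b + β a b) := by
      have e1 : r a * r b * (r a * r b) = r a * (r b * r a) * r b := by simp only [mul_assoc]
      rw [e1, hβ b a, ← mul_assoc (r a), ← sgn_mul_comm (β b a) (r a), mul_assoc (sgn (β b a)), ← mul_assoc (r a),
        hqs a, mul_assoc, mul_assoc, hqs b, ← sgn_add, ← sgn_add, hβsymm b a]
      congr 1
      ring
    exact sinj (e0.symm.trans h3)
  let B : V →ₗ[ZMod 2] V →ₗ[ZMod 2] ZMod 2 := AddMonoidHom.toZModLinearMap 2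
    (AddMonoidHom.mk' (fun a => AddMonoidHom.toZModLinearMap 2 (AddMonoidHom.mk' (β a) (hβadd a)))
      fun a b => LinearMap.ext fun c => by
        show β (a + b) c = β a c + β b c
        rw [hβsymm, hβadd, hβsymm c a, hβsymm c b])
  let S : QS V :=
    { Q := q
      B := B
      Q_add := hqadd
      nondeg := fun a ha => by
        have hc : (⟨r a, hrR a⟩ : R) ∈ Subgroup.center R := by
          rw [Subgroup.mem_center_iff]
          rintro ⟨g, hg⟩
          obtain ⟨v, hv⟩ := hmemR g hg
          obtain ⟨x, rfl⟩ := pm_iff.1 hv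
          refine Subtype.ext ?_
          show sgn x * r v * r a = r a * (sgn x * r v)
          have h := hβ a v
          rw [show β a v = 0 from ha v, sgn_zero, one_mul] at h
          rw [mul_assoc, ← h, ← mul_assoc, ← mul_assoc, sgn_mul_comm]
        have h0 : e a = 0 := by
          have := hrq a
          rw [(QuotientGroup.eq_one_iff _).2 hc] at this
          exact Additive.toMul.injective this.symm
        exact (LinearEquiv.map_eq_zero_iff e).1 h0 }
  -- the dimension
  have hrcomm : ∀ a b, r a * r b = sgn (S.B a b) * (r b * r a) := hβ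
  have hrconj : ∀ a b, r a * r b * (r a)⁻¹ = sgn (S.B a b) * r b := fun a b => by
    rw [hrcomm, mul_assoc, mul_inv_cancel_right]
  have hV : (Fintype.card V : F) ≠ 0 := by
    simp only [V, Fintype.card_pi, ZMod.card, Finset.prod_const, Finset.card_univ, Fintype.card_fin]
    push_cast
    exact pow_ne_zero _ h2
  have hmt : ∀ x, mt (sgn x : GL ι F) = (if x = 0 then (1 : F) else -1) • (1 : Matrix ι ι F) := fun x => by
    rcases z2 x with rfl | rfl <;> simp
  let bfun : V → Matrix ι ι F := fun a => mt (r a)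
  have hli : LinearIndependent F bfun := by
    rw [Fintype.linearIndependent_iff]
    intro c hc y
    have key : ∀ a, ∑ x, (c x * ((if S.B a y = 0 then 1 else -1) * if S.B a x = 0 then 1 else -1)) • mt (r x) = 0 := by
      intro a
      have h := congrArg (fun M => (if S.B a y = 0 then (1 : F) else -1) • (mt (r a) * M * mt (r a)⁻¹)) hc
      simp only [mul_zero, zero_mul, smul_zero, Finset.mul_sum, Finset.sum_mul, Finset.smul_sum] at h
      refine (Finset.sum_congr rfl fun x _ => ?_).trans h
      show _ = _ • (mt (r a) * (c x • mt (r x)) * mt (r a)⁻¹)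
      rw [mul_smul_comm, smul_mul_assoc, ← Units.val_mul, ← Units.val_mul, hrconj, Units.val_mul, hmt,
        smul_mul_assoc, one_mul, smul_smul, smul_smul]
      congr 1
      ring
    have h := Finset.sum_congr rfl (fun a (_ : a ∈ (Finset.univ : Finset V)) => key a)
    rw [Finset.sum_comm, Finset.sum_const_zero] at h
    simp only [← Finset.sum_smul, ← Finset.mul_sum] at h
    have hδ : ∀ x, (∑ a, (if S.B a y = 0 then (1 : F) else -1) * if S.B a x = 0 then 1 else -1) =
        if y + x = 0 then (Fintype.card V : F) else 0 := fun x => by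
      refine Eq.trans ?_ ((sum_sign h2 S (y + x)).trans (by congr))
      refine Finset.sum_congr rfl fun a _ => ?_
      rw [S.B_comm (y + x), map_add]
      rcases z2 (S.B a y) with k1 | k1 <;> rcases z2 (S.B a x) with k2 | k2 <;>
        simp [k1, k2, CharTwo.add_self_eq_zero]
    simp only [hδ] at h
    rw [Finset.sum_eq_single y (fun x _ hx => by
      rw [if_neg (fun e => hx (v_add_eq_zero.1 e).symm), mul_zero, zero_smul]) (by simp), if_pos (v_add_self y)] at h
    exact (mul_eq_zero.1 ((smul_eq_zero.1 h).resolve_right (r y).isUnit.ne_zero)).resolve_right hV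
  have hspan : Submodule.span F (Set.range bfun) = ⊤ := by
    refine eq_top_iff.2 fun M _ => ?_
    have hT : ∀ x, ∃ c : F, (∑ a, mt (r a) * (M * mt (r x)) * mt (r a)⁻¹) = c • 1 := fun x => by
      refine hirr.2 _ ?_
      rintro _ ⟨g, hg, rfl⟩
      obtain ⟨v, hv⟩ := hmemR g hg
      set T := ∑ a, mt (r a) * (M * mt (r x)) * mt (r a)⁻¹ with hT
      have e1 : mt g * T * mt g⁻¹ = T := by
        rw [conj_eq hv]
        rw [hT, Finset.mul_sum, Finset.sum_mul]
        conv_rhs => rw [← Equiv.sum_comp (Equiv.addLeft v)]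
        refine Finset.sum_congr rfl fun a _ => ?_
        rw [Equiv.coe_addLeft, ← conj_eq (r_add v a), _root_.mul_inv_rev, Units.val_mul, Units.val_mul]
        simp only [mul_assoc]
      calc T * mt g = (mt g * T * mt g⁻¹) * mt g := by rw [e1]
        _ = mt g * T := by rw [mul_assoc _ (mt g⁻¹), ← Units.val_mul, inv_mul_cancel, Units.val_one, mul_one]
    choose c hc using hT
    have hsum : ∑ x, c x • mt (r x)⁻¹ = (Fintype.card V : F) • M := by
      have e1 : ∀ x, c x • mt (r x)⁻¹ = ∑ a, (if S.B a x = 0 then (1 : F) else -1) • (mt (r a) * M * mt (r a)⁻¹) := by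
        intro x
        rw [← one_mul (mt (r x)⁻¹), ← smul_mul_assoc, ← hc x, Finset.sum_mul]
        refine Finset.sum_congr rfl fun a _ => ?_
        have h : r x * (r a)⁻¹ * (r x)⁻¹ = sgn (S.B a x) * (r a)⁻¹ := by
          calc r x * (r a)⁻¹ * (r x)⁻¹ = (r x * r a * (r x)⁻¹)⁻¹ := by group
            _ = _ := by rw [hrconj, _root_.mul_inv_rev, inv_eq_of_mul_eq_one_right (sgn_sq _), ← sgn_mul_comm,
                S.B_comm]
        have h' := congrArg Units.val h
        rw [Units.val_mul, Units.val_mul, Units.val_mul, hmt, smul_mul_assoc, one_mul] at h'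
        simp only [mul_assoc] at h' ⊢
        rw [h', mul_smul_comm, mul_smul_comm]
      rw [Finset.sum_congr rfl fun x _ => e1 x, Finset.sum_comm]
      simp only [← Finset.sum_smul, sum_sign h2 S]
      rw [Finset.sum_eq_single 0 (fun a _ ha => by rw [if_neg ha, zero_smul]) (by simp), if_pos rfl]
      simp [r]
    have hMmem : (Fintype.card V : F) • M ∈ Submodule.span F (Set.range bfun) := by
      rw [← hsum]
      refine Submodule.sum_mem _ fun x _ => Submodule.smul_mem _ _ ?_
      obtain ⟨s, hs'⟩ := pm_iff.1 (hpm (⟨r x, hrR x⟩⁻¹ : R) x (by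
        rw [QuotientGroup.mk_inv, hrq]
        exact inv_eq_of_mul_eq_one_right (hq2 _)))
      rw [show mt (r x)⁻¹ = mt (sgn s * r x) from congrArg Units.val hs', Units.val_mul, hmt, smul_mul_assoc, one_mul]
      exact Submodule.smul_mem _ _ (Submodule.subset_span ⟨x, rfl⟩)
    have := Submodule.smul_mem _ (Fintype.card V : F)⁻¹ hMmem
    rwa [smul_smul, inv_mul_cancel₀ hV, one_smul] at this
  have hn2 : Fintype.card ι ^ 2 = 2 ^ (2 * k) := by
    have h := Module.finrank_eq_card_basis (Module.Basis.mk hli hspan.ge)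
    rw [Module.finrank_matrix, Module.finrank_self, mul_one] at h
    rw [pow_two, h]
    simp [V, Fintype.card_pi]
  have hnk : Fintype.card ι = 2 ^ k := Nat.pow_left_injective two_ne_zero (hn2.trans (by show _ = (2 ^ k) ^ 2; rw [← pow_mul, mul_comm]))
  have hk : 4 ≤ k := by
    by_contra hc
    have : 2 ^ k ≤ 2 ^ 3 := Nat.pow_le_pow_right two_pos (by omega)
    omega
  have E : Ext S f r G :=
    { two := h2, bil := hbil, nondeg := hnd, gIso := gIso, sqG := sqG, r_add := r_add, r_zero := if_pos rfl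
      r_sq := hqs
      r_comm := hrcomm
      r_iso := fun a => hiso _ (hrR a)
      irred := fun W hW => hirr.1 W fun s hs' => by
        obtain ⟨g, hg, rfl⟩ := hs'
        rintro _ ⟨x, hx, rfl⟩
        obtain ⟨v, hv⟩ := hmemR g hg
        rw [Matrix.toLin'_apply]
        rcases hv with rfl | rfl
        · exact hW v x hx
        · show mt (-r v) *ᵥ x ∈ W
          rw [mt_neg, Matrix.neg_mulVec]; exact W.neg_mem (hW v x hx)
      abs := fun m hm => hirr.2 m fun s hs' => by
        obtain ⟨g, hg, rfl⟩ := hs'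
        obtain ⟨v, hv⟩ := hmemR g hg
        rcases hv with rfl | rfl
        · exact hm v
        · show m * mt (-r v) = mt (-r v) * m
          rw [mt_neg, mul_neg, neg_mul, hm]
      eight := by rw [Module.finrank_fin_fun]; omega
      card := by rw [Module.finrank_fin_fun]; exact hn2 }
  refine ⟨S, r, E, ?_, hnk⟩
  ext g
  constructor
  · rintro ⟨a, ha⟩
    obtain ⟨x, rfl⟩ := pm_iff.1 ha
    exact R.mul_mem (hsgnR x) (hrR a)
  · exact hmemR g

end CfsgLib.ExtraTypeMax
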