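import Cfsg.Agent.Lib.ExtraTypeMax.Split

/-!
An element centralizing a singular vector outside the normalizer gives the split gate of that vector.
-/

set_option autoImplicit false
set_option linter.unusedSectionVars false

namespace CfsgLib.ExtraTypeMax

open Matrix CfsgLib.GeomClasses

variable {ι : Type} [Fintype ι] [DecidableEq ι] {F : Type*} [Field F]
  {V : Type*} [AddCommGroup V] [Module (ZMod 2) V]

theorem kpart_conj {X : Subgroup (GL ι F)} {A γ k : GL ι F} (hγX : γ ∈ X) (hγ : γ * A = A * γ)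
    (hk : k ∈ kpart X A) : γ * k * γ⁻¹ ∈ kpart X A := by
  refine ⟨X.mul_mem (X.mul_mem hγX hk.1) (X.inv_mem hγX),
    (((show Commute γ A from hγ).mul_left hk.2.1).mul_left (show Commute γ A from hγ).inv_left).eq, ?_⟩
  have hpr : ∀ {g : GL ι F}, g * A = A * g → mt g * pr (-A) = pr (-A) * mt g := fun {g} hg => by
    rw [pr, mt_neg, mul_smul_comm, smul_mul_assoc, mul_add, add_mul, mul_one, one_mul, mul_neg, neg_mul,
      ← Units.val_mul, hg, Units.val_mul]
  rw [Units.val_mul, Units.val_mul, mul_assoc, hpr ((show Commute γ A from hγ).inv_left).eq, ← mul_assoc,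
    mul_assoc (mt γ), hk.2.2, hpr hγ, mul_assoc, ← Units.val_mul, mul_inv_cancel, Units.val_one, mul_one]

theorem comm_neg {g A : GL ι F} (h : g * A = A * g) : g * -A = -A * g := by rw [mul_neg, neg_mul, h]

namespace Ext

variable [FiniteDimensional (ZMod 2) V] [Fintype F] {S : QS V} {f : (ι → F) → (ι → F) → F} {r : V → GL ι F}
  {G : Subgroup (GL ι F)} (E : Ext S f r G) {a b : V} {A : GL ι F} (H : Blk S r a b A)
  {X : Subgroup (GL ι F)} (hMX : E.M ≤ X) (hXG : X ≤ G)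
include E H hMX hXG

theorem conj_of_eq {g u h : GL ι F} (hg : g * A = A * g) (hu : u * A = A * u) (hh : h * A = A * h)
    (e : mt g * pr A = mt u * pr A) : mt (g * h * g⁻¹) * pr A = mt (u * h * u⁻¹) * pr A := by
  have hp := fun {x : GL ι F} (hx : x * A = A * x) => E.commute_pr H hx
  have hg' := hp ((show Commute g A from hg).inv_left).eq
  have hu' := hp ((show Commute u A from hu).inv_left).eq
  have einv : mt g⁻¹ * pr A = mt u⁻¹ * pr A := by
    calc mt g⁻¹ * pr A = mt g⁻¹ * (mt u * pr A) * mt u⁻¹ := by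
          rw [mul_assoc, mul_assoc (mt u), ← hu', ← mul_assoc (mt u), ← Units.val_mul, mul_inv_cancel, Units.val_one,
            one_mul]
      _ = _ := by
          rw [← e, ← mul_assoc, ← Units.val_mul, inv_mul_cancel, Units.val_one, one_mul, hu']
  simp only [Units.val_mul, mul_assoc]
  rw [hg', ← mul_assoc (mt h), hp hh, mul_assoc, ← mul_assoc (mt g), e, mul_assoc, ← mul_assoc (pr A), ← hp hh,
    mul_assoc, ← hg', einv]

theorem inda_inv {g : GL ι F} (hg : g * A = A * g) {θ : wsub S a b ≃ₗ[ZMod 2] wsub S a b}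
    (h : IndA S r a b A g θ) : IndA S r a b A g⁻¹ θ.symm := by
  intro c
  obtain ⟨x, hx⟩ := h (θ.symm c)
  rw [LinearEquiv.apply_symm_apply] at hx
  have h1 := E.conjP H hMX hXG ((show Commute g A from hg).inv_left).eq hx
  rw [show g⁻¹ * (g * r (θ.symm c : V) * g⁻¹) * g⁻¹⁻¹ = r (θ.symm c : V) by group,
    show g⁻¹ * (sgn x * r (c : V)) * g⁻¹⁻¹ = sgn x * (g⁻¹ * r (c : V) * g⁻¹⁻¹) by
      rw [← mul_assoc, ← mul_assoc, ← sgn_mul_comm]; group, Units.val_mul (sgn x), mul_assoc (mt (sgn x))] at h1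
  refine ⟨x, ?_⟩
  rw [Units.val_mul (sgn x), mul_assoc (mt (sgn x)), h1, ← mul_assoc, ← Units.val_mul, sgn_sq, Units.val_one, one_mul]

theorem inda_gp {c d : wsub S a b} {C D : GL ι F} (hc : S.Q (c : V) = 1) (hd : S.Q (d : V) = 1)
    (hC : PM C (r (c : V))) (hD : PM D (r (d : V))) : IndA S r a b A (gp C D) ((E.SW H).pair c d) := by
  intro w
  obtain ⟨x, hx⟩ := pm_iff.1 (E.gp_conj hc hd hC hD (w : V))
  exact ⟨x, by rw [hx, QS.restrict_pair]⟩

theorem inda_r (e : wsub S a b) (x : ZMod 2) : IndA S r a b A (sgn x * r (e : V)) id := fun c => by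
  refine ⟨S.B (e : V) c, ?_⟩
  rw [show sgn x * r (e : V) * r (c : V) * (sgn x * r (e : V))⁻¹ =
    sgn x * (r (e : V) * r (c : V) * (r (e : V))⁻¹) * (sgn x)⁻¹ by group, sgn_mul_comm, mul_inv_cancel_right,
    E.r_conj]
  rfl

theorem inda_mul_equiv {g h : GL ι F} (hg : g * A = A * g) {θ φ : wsub S a b ≃ₗ[ZMod 2] wsub S a b}
    (hθ : IndA S r a b A g θ) (hφ : IndA S r a b A h φ) : IndA S r a b A (g * h) ⇑(θ * φ) :=
  fun c => E.inda_mul H hg (θ := fun v => θ v) (φ := fun v => φ v) hθ hφ c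

set_option maxHeartbeats 1000000 in
/-- The split gate on the residual space. -/
theorem gate_of_big (hbig : E.Big H (X := X)) (c d : wsub S a b) (hc : S.Q (c : V) = 1) (hd : S.Q (d : V) = 1)
    {C D : GL ι F} (hC : PM C (r (c : V))) (hD : PM D (r (d : V))) :
    InX X (mt (gp C D) * pr A + pr (-A)) := by
  have : Finite (wsub S a b) := Module.finite_of_finite (ZMod 2)
  let N0 : Submonoid (wsub S a b ≃ₗ[ZMod 2] wsub S a b) :=
    { carrier := {θ | (E.SW H).Iso θ ∧ ∃ k ∈ kpart X A, IndA S r a b A k θ}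
      one_mem' := ⟨fun _ => rfl, 1, (kpart X A).one_mem, E.inda_one H⟩
      mul_mem' := fun {θ φ} ⟨h1, k, hk, hkθ⟩ ⟨h2, k', hk', hkφ⟩ =>
        ⟨fun x => (h1 (φ x)).trans (h2 x), k * k', (kpart X A).mul_mem hk hk', E.inda_mul_equiv H hMX hXG hk.2.1 hkθ hkφ⟩ }
  let N : Subgroup (wsub S a b ≃ₗ[ZMod 2] wsub S a b) :=
    { N0 with
      inv_mem' := fun {θ} hθ => by
        have : Finite (wsub S a b ≃ₗ[ZMod 2] wsub S a b) :=
          Finite.of_injective (fun θ => (θ : wsub S a b → wsub S a b)) DFunLike.coe_injective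
        have h1 : θ⁻¹ = θ ^ (orderOf θ - 1) := inv_eq_of_mul_eq_one_right (by
          rw [← pow_succ', Nat.sub_add_cancel (orderOf_pos θ), pow_orderOf_eq_one])
        show θ⁻¹ ∈ N0
        rw [h1]
        exact N0.pow_mem hθ _ }
  have hne : N ≠ ⊥ := fun e => by
    obtain ⟨k, hk, hkn, hkR⟩ := hbig
    obtain ⟨θ, hθ, hθi⟩ := E.norma_equiv H hk.2.1 hkn
    have h1 : θ = 1 := by
      have : θ ∈ N := ⟨hθi, k, hk, hθ⟩
      rwa [e, Subgroup.mem_bot] at this
    subst h1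
    obtain ⟨e', x, he', -⟩ := E.of_inda_id H hk.2.1 (E.gIso _ (hXG hk.1)) hθ
    exact hkR ⟨hk, e', x, he'⟩
  have hmem := (E.SW H).normalized_contains (E.six_le H) N (fun θ hθ => hθ.1) (fun c d hc hd θ hθ => by
    obtain ⟨hi, k, hk, hkθ⟩ := hθ
    rw [QS.restrict_Q] at hc hd
    set g := gp (r (c : V)) (r (d : V))
    have hgA := E.gp_comm_A H hMX hXG hc hd (PM.refl (r (c : V))) (PM.refl (r (d : V)))
    have hgi := E.inda_gp H hMX hXG hc hd (PM.refl (r (c : V))) (PM.refl (r (d : V)))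
    refine ⟨fun x => ?_, g * k * g⁻¹, kpart_conj (hMX (E.gp_mem_M hc hd (PM.refl _) (PM.refl _))) hgA hk,
      E.inda_mul_equiv H hMX hXG ((show Commute g A from hgA).mul_left hk.2.1).eq
        (E.inda_mul_equiv H hMX hXG hgA hgi hkθ) (E.inda_inv H hMX hXG hgA hgi)⟩
    have h1 := (E.SW H).iso_pair (c := c) (d := d) hc hd
    rw [QS.pair_inv]
    exact (h1 _).trans ((hi _).trans ((E.SW H).iso_pair (c := d) (d := c) hd hc x))) hne
    (c := c) (d := d) hc hd
  obtain ⟨-, k, hk, hkθ⟩ := hmem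
  set g := gp C D with hg
  have hgA := E.gp_comm_A H hMX hXG hc hd hC hD
  have hgA' : g⁻¹ * A = A * g⁻¹ := ((show Commute g A from hgA).inv_left).eq
  have hy : IndA S r a b A (g⁻¹ * k) id := fun w => by
    obtain ⟨x, hx⟩ := E.inda_mul H hgA' (E.inda_inv H hMX hXG hgA (E.inda_gp H hMX hXG hc hd hC hD)) hkθ w
    exact ⟨x, by simpa using hx⟩
  have hyA : (g⁻¹ * k) * A = A * (g⁻¹ * k) := ((show Commute g⁻¹ A from hgA').mul_left hk.2.1).eq
  obtain ⟨e, x, he, -⟩ := E.of_inda_id H hyA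
    (Symp.isometry_mul (mem_mul_iso (E.gp_iso hc hd hC hD)) (E.gIso _ (hXG hk.1))) hy
  obtain ⟨ρ, hρ, hρP⟩ := E.pi_mem H hMX hXG e x
  refine ⟨k * ρ⁻¹, X.mul_mem hk.1 (X.inv_mem hρ.1), E.ext_pr H ?_ ?_⟩
  · rw [add_mul, mul_assoc (mt g), E.pr_idem H, E.neg_mul_pr H, add_zero]
    have h1 : k * ρ⁻¹ = g * ((g⁻¹ * k) * ρ⁻¹) := by group
    rw [h1, Units.val_mul g, mul_assoc]
    congr 1
    have hρ' : mt ρ⁻¹ * pr A = pr A * mt ρ⁻¹ := E.commute_pr H ((show Commute ρ A from hρ.2.1).inv_left).eq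
    rw [Units.val_mul, mul_assoc, hρ', ← mul_assoc, he, ← hρP, mul_assoc, ← hρ', ← mul_assoc, ← Units.val_mul,
      mul_inv_cancel, Units.val_one, one_mul]
  · rw [add_mul, mul_assoc (mt g), E.pr_mul_neg H, mul_zero, zero_add, E.pr_idem H.neg,
      Units.val_mul, mul_assoc, ((kpart X A).inv_mem hρ).2.2, hk.2.2]

set_option maxHeartbeats 1000000 in
/-- Without residual splitting, both eigenspaces see one induced map. -/
theorem exists_joint_map {x : GL ι F} (hx : x ∈ X) (hxA : x * A = A * x)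
    (hA : ¬ E.Big H (X := X)) (hnA : ¬ E.Big H.neg (X := X)) :
    ∃ α : wsub S a b ≃ₗ[ZMod 2] wsub S a b, IndA S r a b A x α ∧ IndA S r a b (-A) x α := by
  have hle := E.kpart_le H hMX hXG hA
  have hle' := E.kpart_le H.neg hMX hXG hnA
  have hxnA := comm_neg hxA
  obtain ⟨α, hα, hαi⟩ := E.norma_equiv H hxA (E.norma_of_conj H hMX hXG hxA fun k hk => hle (kpart_conj hx hxA hk.1))
  obtain ⟨β, hβ, hβi⟩ := E.norma_equiv H.neg hxnA
    (E.norma_of_conj H.neg hMX hXG hxnA fun k hk => hle' (kpart_conj hx hxnA hk.1))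
  have hcomm : ∀ c d, (E.SW H).Q c = 1 → (E.SW H).Q d = 1 →
      (E.SW H).pair (α c) (α d) = (E.SW H).pair (β c) (β d) := by
    intro c d hc hd
    rw [QS.restrict_Q] at hc hd
    set g := gp (r (c : V)) (r (d : V)) with hg
    have hgA := E.gp_comm_A H hMX hXG hc hd (PM.refl (r (c : V))) (PM.refl (r (d : V)))
    have hαc : S.Q ((α c : wsub S a b) : V) = 1 := (hαi c).trans hc
    have hαd : S.Q ((α d : wsub S a b) : V) = 1 := (hαi d).trans hd
    set g' := gp (r ((α c : wsub S a b) : V)) (r ((α d : wsub S a b) : V)) with hg'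
    have hg'A := E.gp_comm_A H hMX hXG hαc hαd (PM.refl _) (PM.refl _)
    have hg'inv : g'⁻¹ * A = A * g'⁻¹ := ((show Commute g' A from hg'A).inv_left).eq
    set y := x * g * x⁻¹ with hy
    have hyA : y * A = A * y :=
      (((show Commute x A from hxA).mul_left hgA).mul_left (show Commute x A from hxA).inv_left).eq
    have hzA : (g'⁻¹ * y) * A = A * (g'⁻¹ * y) := ((show Commute g'⁻¹ A from hg'inv).mul_left hyA).eq
    have hy1 : IndA S r a b A (g'⁻¹ * y) id := fun w => by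
      obtain ⟨t, ht⟩ := E.inda_mul H hg'inv
        (E.inda_inv H hMX hXG hg'A (E.inda_gp H hMX hXG hαc hαd (PM.refl _) (PM.refl _)))
        (E.inda_mul H ((show Commute x A from hxA).mul_left hgA).eq
          (E.inda_mul H hxA hα (E.inda_gp H hMX hXG hc hd (PM.refl _) (PM.refl _)))
          (E.inda_inv H hMX hXG hxA hα)) w
      refine ⟨t, ?_⟩
      have e : ((E.SW H).pair (α c) (α d)).symm (α ((E.SW H).pair c d (α.symm w))) = w := by
        rw [LinearEquiv.symm_apply_eq, ← (E.SW H).conj_pair hαi c d]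
        rfl
      simpa only [Function.comp_apply, e, id_eq] using ht
    obtain ⟨e, t, he, -⟩ := E.of_inda_id H hzA (E.gIso _ (G.mul_mem (G.inv_mem
      (E.gp_mem_G hαc hαd (PM.refl _) (PM.refl _))) (G.mul_mem (G.mul_mem (hXG hx)
      (E.gp_mem_G hc hd (PM.refl _) (PM.refl _))) (G.inv_mem (hXG hx))))) hy1
    set z1 : GL ι F := sgn t * r (e : V) with hz1
    have hz1A : z1 * A = A * z1 := E.sgn_w_commute H t e
    set z2 := z1⁻¹ * (g'⁻¹ * y) with hz2
    have hz2A : z2 * A = A * z2 := ((show Commute z1 A from hz1A).inv_left.mul_left hzA).eq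
    have hz2K : z2 ∈ kpart X (-A) := by
      refine ⟨X.mul_mem (X.inv_mem (hMX (E.R_le_M (E.R.mul_mem (E.sgn_mem_R t) (E.r_mem_R _)))))
        (X.mul_mem (X.inv_mem (hMX (E.gp_mem_M hαc hαd (PM.refl _) (PM.refl _))))
          (X.mul_mem (X.mul_mem hx (hMX (E.gp_mem_M hc hd (PM.refl _) (PM.refl _)))) (X.inv_mem hx))),
        comm_neg hz2A, ?_⟩
      rw [neg_neg, hz2, Units.val_mul, mul_assoc, he, ← mul_assoc, ← Units.val_mul, inv_mul_cancel, Units.val_one,
        one_mul]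
    have hz1inv : IndA S r a b (-A) z1⁻¹ ⇑(1 : wsub S a b ≃ₗ[ZMod 2] wsub S a b) :=
      E.inda_inv H.neg hMX hXG (comm_neg hz1A) (θ := LinearEquiv.refl _ _) (E.inda_r H.neg hMX hXG e t)
    have hnA' : ∀ {g : GL ι F}, g * A = A * g → g * -A = -A * g := fun h => comm_neg h
    have hy2 : IndA S r a b (-A) y ⇑(β * (E.SW H).pair c d * β⁻¹) :=
      E.inda_mul_equiv H.neg hMX hXG (hnA' ((show Commute x A from hxA).mul_left hgA).eq)
        (E.inda_mul_equiv H.neg hMX hXG hxnA hβ (E.inda_gp H.neg hMX hXG hc hd (PM.refl _) (PM.refl _)))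
        (E.inda_inv H.neg hMX hXG hxnA hβ)
    have hg2 : IndA S r a b (-A) g'⁻¹ ⇑((E.SW H).pair (α c) (α d))⁻¹ :=
      E.inda_inv H.neg hMX hXG (hnA' hg'A) (E.inda_gp H.neg hMX hXG hαc hαd (PM.refl _) (PM.refl _))
    have hind : IndA S r a b (-A) z2 ⇑(((E.SW H).pair (α c) (α d))⁻¹ * (β * (E.SW H).pair c d * β⁻¹)) := by
      have := E.inda_mul_equiv H.neg hMX hXG (hnA' ((show Commute z1 A from hz1A).inv_left).eq) hz1inv
        (E.inda_mul_equiv H.neg hMX hXG (hnA' hg'inv) hg2 hy2)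
      rwa [one_mul] at this
    obtain ⟨-, e', t', he'⟩ := hle' hz2K
    have hid : IndA S r a b (-A) z2 id := fun w => by
      obtain ⟨u, hu⟩ := E.inda_r H.neg hMX hXG e' t' w
      exact ⟨u, (E.conj_of_eq H.neg hMX hXG (hnA' hz2A) (E.sgn_w_commute H.neg t' e') (E.w_commute H.neg w) he').trans hu⟩
    have h1 : ((E.SW H).pair (α c) (α d))⁻¹ * (β * (E.SW H).pair c d * β⁻¹) = 1 :=
      LinearEquiv.ext fun w => E.inda_unique H.neg hind hid w
    rw [inv_mul_eq_one] at h1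
    rw [h1]
    exact (E.SW H).conj_pair hβi c d
  have hγ : β⁻¹ * α = 1 := by
    refine (E.SW H).eq_one_of_commute (E.six_le H) (fun w => ?_) fun c d hc hd => ?_
    · have := hβi (β⁻¹ (α w))
      change (E.SW H).Q (β (β.symm (α w))) = _ at this
      rw [LinearEquiv.apply_symm_apply] at this
      exact this.symm.trans (hαi w)
    · have h1 := hcomm c d hc hd
      rw [← (E.SW H).conj_pair hαi, ← (E.SW H).conj_pair hβi] at h1
      calc β⁻¹ * α * (E.SW H).pair c d = β⁻¹ * (α * (E.SW H).pair c d * α⁻¹) * α := by group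
        _ = _ := by rw [h1]; group
  have hαβ : α = β := (inv_mul_eq_one.1 hγ).symm
  subst hαβ
  exact ⟨α, hα, hβ⟩
set_option maxHeartbeats 1000000 in
/-- An element inducing one map on both eigenspaces normalizes the group. -/
theorem mem_M_of_joint {x : GL ι F} (hx : x ∈ X) (hxA : x * A = A * x) {α : wsub S a b ≃ₗ[ZMod 2] wsub S a b}
    (hα : IndA S r a b A x α) (hβ : IndA S r a b (-A) x α) : x ∈ E.M := by
  refine ⟨?_, hXG hx⟩
  have hmix : ∀ {g : GL ι F}, g * A = A * g → ∀ (d : wsub S a b) (s1 s2 : ZMod 2),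
      mt g * pr A = mt (sgn s1 * r (d : V)) * pr A → mt g * pr (-A) = mt (sgn s2 * r (d : V)) * pr (-A) →
      ∃ δ : ZMod 2, (δ = 0 ∧ g = sgn s1 * r (d : V)) ∨ (δ = 1 ∧ g = sgn s1 * r (d : V) * A) := by
    intro g _ d s1 s2 h1 h2
    by_cases hs : s1 = s2
    · exact ⟨0, Or.inl ⟨rfl, Units.ext (E.ext_pr H h1 (hs ▸ h2))⟩⟩
    · refine ⟨1, Or.inr ⟨rfl, Units.ext (E.ext_pr H ?_ ?_)⟩⟩
      · rw [Units.val_mul (sgn s1 * r (d : V)), mul_assoc, E.A_mul_pr H]; exact h1
      · have hAn : mt A * pr (-A) = -pr (-A) := by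
          have := E.A_mul_pr H.neg
          rw [mt_neg, neg_mul] at this
          exact neg_eq_iff_eq_neg.1 this
        rw [Units.val_mul (sgn s1 * r (d : V)), mul_assoc, hAn, h2]
        rcases z2 s1 with rfl | rfl <;> rcases z2 s2 with rfl | rfl <;> simp at hs ⊢
  have hcR : ∀ c : wsub S a b, ∃ δ : ZMod 2, ∃ s : ZMod 2,
      (δ = 0 ∧ x * r (c : V) * x⁻¹ = sgn s * r ((α c : wsub S a b) : V)) ∨
      (δ = 1 ∧ x * r (c : V) * x⁻¹ = sgn s * r ((α c : wsub S a b) : V) * A) := fun c => by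
    obtain ⟨s1, h1⟩ := hα c
    obtain ⟨s2, h2⟩ := hβ c
    obtain ⟨δ, hδ⟩ := hmix ((((show Commute x A from hxA).mul_left (E.w_commute H c)).mul_left
      (show Commute x A from hxA).inv_left).eq) (α c) s1 s2 h1 h2
    exact ⟨δ, s1, hδ⟩
  set y := x * r b * x⁻¹ with hy
  have hbA : r b * A = -(A * r b) := by
    rcases H.lift with e | e <;> rw [e] <;> simp [E.r_comm1 (show S.B b a = 1 by rw [S.B_comm]; exact H.partner)]
  have hyA : y * A = -(A * y) := by
    rw [hy]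
    calc x * r b * x⁻¹ * A = x * r b * (x⁻¹ * A) := mul_assoc _ _ _
      _ = x * (r b * A) * x⁻¹ := by rw [((show Commute x A from hxA).inv_left).eq]; group
      _ = -(x * A * r b * x⁻¹) := by rw [hbA]; simp [mul_assoc]
      _ = _ := by rw [hxA]; simp [mul_assoc]
  set m0 := y * (r b)⁻¹ with hm0
  have hm0A : m0 * A = A * m0 := by
    have h1 : (r b)⁻¹ * A = -(A * (r b)⁻¹) := by
      calc (r b)⁻¹ * A = (r b)⁻¹ * (A * r b) * (r b)⁻¹ := by group
        _ = (r b)⁻¹ * -(r b * A) * (r b)⁻¹ := by rw [hbA, neg_neg]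
        _ = _ := by simp
    rw [hm0, mul_assoc, h1, mul_neg, ← mul_assoc, hyA, neg_mul, neg_neg, mul_assoc]
  have hδ : ∀ c : wsub S a b, ∃ δ : ZMod 2, m0 * r (c : V) * m0⁻¹ = sgn δ * r (c : V) := fun c => by
    obtain ⟨δ, s, h⟩ := hcR (α.symm c)
    rw [LinearEquiv.apply_symm_apply] at h
    set w := x * r (α.symm c : V) * x⁻¹ with hw
    have hbw : y * w = w * y := by
      have h1 : r b * r (α.symm c : V) = r (α.symm c : V) * r b := E.r_comm0 (E.w_perp H (α.symm c)).2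
      rw [hy, hw]
      calc x * r b * x⁻¹ * (x * r (α.symm c : V) * x⁻¹) = x * (r b * r (α.symm c : V)) * x⁻¹ := by group
        _ = _ := by rw [h1]; group
    have hrb : (r b)⁻¹ * r (c : V) = r (c : V) * (r b)⁻¹ :=
      (show Commute (r b) (r (c : V)) from E.r_comm0 (E.w_perp H c).2).inv_left.eq
    refine ⟨δ, ?_⟩
    rw [hm0, _root_.mul_inv_rev, inv_inv,
      show y * (r b)⁻¹ * r (c : V) * (r b * y⁻¹) = y * ((r b)⁻¹ * r (c : V)) * (r b * y⁻¹) by group, hrb,
      show y * (r (c : V) * (r b)⁻¹) * (r b * y⁻¹) = y * r (c : V) * y⁻¹ by group]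
    rcases h with ⟨rfl, e⟩ | ⟨rfl, e⟩
    · have hc : r (c : V) = sgn s * w := by rw [e, ← mul_assoc, sgn_sq, one_mul]
      rw [sgn_zero, one_mul, hc, ← mul_assoc y, ← sgn_mul_comm, mul_assoc (sgn s), hbw]
      group
    · have hc : r (c : V) = sgn s * (w * A) := by
        rw [e, mul_assoc (sgn s * r (c : V)), E.A_sq H, mul_one, ← mul_assoc, sgn_sq, one_mul]
      rw [sgn_one, hc, ← mul_assoc y, ← sgn_mul_comm, mul_assoc (sgn s), ← mul_assoc y, hbw, mul_assoc w, hyA]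
      simp [mul_assoc]
  choose δ hδ' using hδ
  have hy' : m0 ∈ G := G.mul_mem (G.mul_mem (G.mul_mem (hXG hx) (E.R_le (E.r_mem_R b))) (G.inv_mem (hXG hx)))
    (G.inv_mem (E.R_le (E.r_mem_R b)))
  obtain ⟨e1, t1, he1, hf1⟩ := E.of_inda_id H hm0A (E.gIso _ hy') fun c => ⟨δ c, by rw [hδ']; rfl⟩
  obtain ⟨e2, t2, he2, hf2⟩ := E.of_inda_id H.neg (comm_neg hm0A) (E.gIso _ hy')
    fun c => ⟨δ c, by rw [hδ']; rfl⟩
  have he : e1 = e2 := by
    refine (v_add_eq_zero).1 ((E.SW H).nondeg _ fun c => ?_)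
    have h1 := hf1 c
    have h2 := hf2 c
    rw [hδ'] at h1 h2
    rw [map_add, LinearMap.add_apply, QS.restrict_B, QS.restrict_B, ← (E.wr_inj H h1).2, ← (E.wr_inj H.neg h2).2,
      CharTwo.add_self_eq_zero]
  subst he
  have hyR : y ∈ E.R := by
    have h1 : m0 ∈ E.R := by
      obtain ⟨-, ⟨-, h⟩ | ⟨-, h⟩⟩ := hmix hm0A e1 t1 t2 he1 he2 <;> rw [h]
      · exact E.R.mul_mem (E.sgn_mem_R _) (E.r_mem_R _)
      · exact E.R.mul_mem (E.R.mul_mem (E.sgn_mem_R _) (E.r_mem_R _)) (E.A_mem H)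
    have := E.R.mul_mem h1 (E.r_mem_R b)
    rwa [hm0, inv_mul_cancel_right] at this
  have hall : ∀ v, ∃ w, PM (x * r v * x⁻¹) (r w) := fun v => by
    refine E.mem_R.1 ?_
    have hadd : ∀ u u', x * r u * x⁻¹ ∈ E.R → x * r u' * x⁻¹ ∈ E.R → x * r (u + u') * x⁻¹ ∈ E.R := by
      intro u u' h h'
      obtain ⟨t, ht⟩ := pm_iff.1 (E.r_add u u').symm
      rw [ht, show x * (sgn t * (r u * r u')) * x⁻¹ = x * sgn t * x⁻¹ * ((x * r u * x⁻¹) * (x * r u' * x⁻¹)) by group,
        ← sgn_mul_comm, mul_inv_cancel_right]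
      exact E.R.mul_mem (E.sgn_mem_R t) (E.R.mul_mem h h')
    have hsm : ∀ u (s : ZMod 2), x * r u * x⁻¹ ∈ E.R → x * r (s • u) * x⁻¹ ∈ E.R := by
      intro u s h
      rcases z2 s with rfl | rfl
      · rw [zero_smul, E.r_zero, mul_one, mul_inv_cancel]; exact E.R.one_mem
      · rwa [one_smul]
    obtain ⟨w, hw⟩ := E.w_decomp H v
    rw [hw]
    refine hadd _ _ ?_ (hadd _ _ (hsm _ _ ?_) (hsm _ _ hyR))
    · obtain ⟨-, s, ⟨-, h⟩ | ⟨-, h⟩⟩ := hcR w <;> rw [h]
      · exact E.R.mul_mem (E.sgn_mem_R _) (E.r_mem_R _)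
      · exact E.R.mul_mem (E.R.mul_mem (E.sgn_mem_R _) (E.r_mem_R _)) (E.A_mem H)
    · rcases H.lift with e | e
      · rw [← e, hxA, mul_inv_cancel_right]; exact E.A_mem H
      · rw [show r a = -A by rw [e, neg_neg], comm_neg hxA, mul_inv_cancel_right]
        exact E.A_mem H.neg
  choose θ hθ using hall
  refine E.mem_norm_of_ind hθ ?_
  have : Finite V := Module.finite_of_finite (ZMod 2)
  refine Finite.injective_iff_surjective.1 fun u v huv => E.r_inj ?_
  have := (((hθ u).trans (huv ▸ PM.refl _)).trans (hθ v).symm).conj x⁻¹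
  simpa [mul_assoc] using this

/-- A residual splitting on one of the two eigenspaces. -/
theorem big_of_not_mem {x : GL ι F} (hx : x ∈ X) (hxA : x * A = A * x) (hxM : x ∉ E.M) :
    E.Big H (X := X) ∨ E.Big H.neg (X := X) := by
  by_contra hno
  push Not at hno
  obtain ⟨α, hα, hβ⟩ := E.exists_joint_map H hMX hXG hx hxA hno.1 hno.2
  exact hxM (E.mem_M_of_joint H hMX hXG hx hxA hα hβ)

end Ext

namespace Ext

variable [FiniteDimensional (ZMod 2) V] [Fintype F] {S : QS V} {f : (ι → F) → (ι → F) → F} {r : V → GL ι F}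
  {G : Subgroup (GL ι F)} (E : Ext S f r G) {X : Subgroup (GL ι F)} (hMX : E.M ≤ X) (hXG : X ≤ G)
include E hMX hXG

/-- An element outside the normalizer centralizing a singular vector gives its split gate. -/
theorem gateOne {a : V} (hQ : S.Q a = 0) (ha : a ≠ 0) {x : GL ι F} (hx : x ∈ X) (hxa : x * r a = r a * x)
    (hxM : x ∉ E.M) : GateOne S r X a := by
  obtain ⟨b, hb⟩ := S.exists_B_one ha
  have H0 : Blk S r a b (r a) := ⟨hQ, hb, PM.refl _⟩
  have main : ∀ {A : GL ι F} (H : Blk S r a b A), E.Big H (X := X) → ∀ (c d : wsub S a b),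
      S.Q (c : V) = 1 → S.Q (d : V) = 1 → ∀ C D, PM C (r (c : V)) → PM D (r (d : V)) →
      InX X (mt (gp C D) * pr A + pr (-A)) ∧ InX X (mt (gp C D) * pr (-A) + pr A) := by
    intro A H hbig c d hc hd C D hC hD
    have h := E.gate_of_big H hMX hXG hbig c d hc hd hC hD
    refine ⟨h, ?_⟩
    obtain ⟨k, hk, hkm⟩ := h
    have hgA := E.gp_comm_A H hMX hXG hc hd hC hD
    refine ⟨gp C D * k⁻¹, X.mul_mem (hMX (E.gp_mem_M hc hd hC hD)) (X.inv_mem hk), ?_⟩
    have e : (mt (gp C D) * pr (-A) + pr A) * mt k = mt (gp C D) := by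
      rw [hkm, add_mul, mul_add, mul_add, mul_assoc, mul_assoc, ← mul_assoc (pr (-A)) (mt _),
        ← E.commute_pr H.neg (comm_neg hgA), mul_assoc (mt (gp C D)), E.neg_mul_pr H, mul_zero, mul_zero,
        zero_add, E.pr_idem H.neg, ← mul_assoc (pr A), ← E.commute_pr H hgA, mul_assoc, E.pr_idem H, E.pr_mul_neg H,
        add_zero, ← mul_add, E.pr_neg H, sub_add_cancel, mul_one]
    rw [Units.val_mul]
    conv_lhs => rw [← e]
    rw [mul_assoc, ← Units.val_mul, mul_inv_cancel, Units.val_one, mul_one]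
  intro A hA c d hc hd hac had C D hC hD
  have H : Blk S r a b A := ⟨hQ, hb, hA⟩
  have hproj : ∀ {c : V} {C : GL ι F}, S.Q c = 1 → S.B a c = 0 → PM C (r c) →
      ∃ (c' : wsub S a b) (C' : GL ι F), S.Q (c' : V) = 1 ∧ PM C' (r (c' : V)) ∧ mt C * pr A = mt C' * pr A := by
    intro c C hc hac hC
    refine ⟨⟨c + S.B b c • a, S.mem_lperp.2 fun y hy => ?_⟩, if S.B b c = 0 then C else C * A, ?_, ?_, ?_⟩
    · simp only [List.mem_cons, List.not_mem_nil, or_false] at hy
      rcases hy with hy | hy <;> rw [hy] <;>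
        simp [hac, S.B_self, S.B_comm b a, hb, CharTwo.add_self_eq_zero]
    · show S.Q (c + S.B b c • a) = 1
      rw [S.Q_add, S.Q_smul, hQ, map_smul, smul_eq_mul, S.B_comm c a, hac, hc]; simp
    · show PM _ (r (c + S.B b c • a))
      rcases z2 (S.B b c) with k | k <;> rw [k]
      · simpa using hC
      · rw [if_neg one_ne_zero, one_smul]; exact (hC.mul hA).trans (E.r_add _ _)
    · rcases z2 (S.B b c) with k | k <;> rw [k]
      · simp
      · rw [if_neg one_ne_zero, Units.val_mul, mul_assoc, E.A_mul_pr H]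
  obtain ⟨c', C', hc', hC', eC⟩ := hproj hc hac hC
  obtain ⟨d', D', hd', hD', eD⟩ := hproj hd had hD
  have hgp : mt (gp C D) * pr A = mt (gp C' D') * pr A := by
    obtain ⟨hC2, -⟩ := E.lift_facts hc hC
    obtain ⟨hD2, -⟩ := E.lift_facts hd hD
    obtain ⟨hC2', -⟩ := E.lift_facts hc' hC'
    obtain ⟨hD2', -⟩ := E.lift_facts hd' hD'
    have hdA : D' * A = A * D' := by
      rcases hD' with e | e <;> rw [e] <;> simp [E.w_commute H d']
    have hp : mt D' * pr A = pr A * mt D' := E.commute_pr H hdA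
    rw [mt_gp E.two hC2 hD2, mt_gp E.two hC2' hD2', pmat, pmat, smul_mul_assoc, smul_mul_assoc, mul_assoc,
      mul_assoc, add_mul 1 (mt D), eD, ← add_mul 1 (mt D')]
    congr 1
    have hq : (1 + mt D') * pr A = pr A * (1 + mt D') := by rw [add_mul, mul_add, one_mul, mul_one, hp]
    rw [hq, ← mul_assoc, ← mul_assoc, add_mul 1 (mt C), eC, ← add_mul 1 (mt C')]
  rw [hgp]
  rcases E.big_of_not_mem H0 hMX hXG hx hxa hxM with h0 | h0
  · rcases hA with e | e <;> subst e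
    · exact (main H0 h0 c' d' hc' hd' C' D' hC' hD').1
    · rw [neg_neg]; exact (main H0 h0 c' d' hc' hd' C' D' hC' hD').2
  · rcases hA with e | e <;> subst e
    · have := (main H0.neg h0 c' d' hc' hd' C' D' hC' hD').2
      rwa [neg_neg] at this
    · exact (main H0.neg h0 c' d' hc' hd' C' D' hC' hD').1

end Ext

end CfsgLib.ExtraTypeMax
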