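import Cfsg.Agent.Lib.GeomClasses.Symp

/-!
Transvection centres linked under an irreducible set of isometries fill the space.
-/

set_option autoImplicit false
set_option linter.unusedSectionVars false

namespace CfsgLib.ExtraTypeMax

open Matrix CfsgLib.GeomClasses CfsgLib.GeomClasses.Symp

variable {ι : Type} [Fintype ι] [DecidableEq ι] {F : Type*} [Field F] {f : (ι → F) → (ι → F) → F}

/-- Two vectors pairing non-trivially with one centre. -/
def Linked (f : (ι → F) → (ι → F) → F) (M : Subgroup (GL ι F)) (x y : ι → F) : Prop :=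
  ∃ z ∈ centres f M, f x z ≠ 0 ∧ f y z ≠ 0

variable (hf : Cfsg.Geo.IsSymplecticForm f) (h2 : (2 : F) ≠ 0) {M : Subgroup (GL ι F)}
include hf h2

theorem linked_step {a b c : ι → F} (hb : b ∈ centres f M) (hab : f a b ≠ 0) (h : Linked f M b c) :
    Linked f M a c := by
  obtain ⟨z, hz, hbz, hcz⟩ := h
  by_cases hcb : f c b = 0
  swap
  · exact ⟨b, hb, hab, hcb⟩
  have hS : ∀ s : F, s ≠ 0 → f a (b + s • z) ≠ 0 → Linked f M a c := fun s hs hne =>
    ⟨b + s • z, centres_step hf hb hz hbz s, hne, by
      rw [hf.bilinear.add_right, hf.bilinear.smul_right, hcb, zero_add]; exact mul_ne_zero hs hcz⟩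
  by_cases h1 : f a (b + (1 : F) • z) = 0
  · refine hS (-1) (neg_ne_zero.2 one_ne_zero) fun h3 => hab ?_
    rw [hf.bilinear.add_right, hf.bilinear.smul_right] at h1 h3
    exact (mul_eq_zero.1 (show (2 : F) * f a b = 0 by linear_combination h1 + h3)).resolve_left h2
  · exact hS 1 one_ne_zero h1

theorem linked_trans {a b c : ι → F} (hb : b ∈ centres f M) (h : Linked f M a b) (h' : Linked f M b c) :
    Linked f M a c := by
  obtain ⟨z, hz, haz, hbz⟩ := h
  exact linked_step hf h2 hz haz (linked_step hf h2 hb (ne_zero_comm hf hbz) h')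

/-- Linked centres fill the space. -/
theorem centres_top (gs : Set (GL ι F)) (hgs : gs ⊆ M) (hiso : ∀ g ∈ gs, IsIsometry f g)
    (hirr : ∀ W : Submodule F (ι → F), (∀ g ∈ gs, ∀ x ∈ W, (g : Matrix ι ι F) *ᵥ x ∈ W) → W = ⊥ ∨ W = ⊤)
    {w : ι → F} (hw : w ∈ centres f M) (hw0 : w ≠ 0) (hww : Linked f M w w)
    (hD : ∀ g ∈ gs, Linked f M w ((g : Matrix ι ι F) *ᵥ w)) : ∀ v, v ∈ centres f M := by
  set K : Set (ι → F) := {x | x ∈ centres f M ∧ Linked f M w x} with hK
  have hKtop : Submodule.span F K = ⊤ := by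
    refine (hirr _ fun g hg x hx => ?_).resolve_left fun e => hw0 ?_
    · induction hx using Submodule.span_induction with
      | mem x hx =>
        refine Submodule.subset_span ⟨centres_invariant hf (hgs hg) (hiso g hg) hx.1, ?_⟩
        refine linked_trans hf h2 (centres_invariant hf (hgs hg) (hiso g hg) hw) (hD g hg) ?_
        obtain ⟨z, hz, h1, h3⟩ := hx.2
        exact ⟨_, centres_invariant hf (hgs hg) (hiso g hg) hz, by rwa [hiso g hg], by rwa [hiso g hg]⟩
      | zero => rw [mulVec_zero]; exact zero_mem _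
      | add a b _ _ ha hb => rw [mulVec_add]; exact add_mem ha hb
      | smul s a _ ha => rw [mulVec_smul]; exact Submodule.smul_mem _ s ha
    · have : w ∈ Submodule.span F K := Submodule.subset_span ⟨hw, hww⟩
      rwa [e, Submodule.mem_bot] at this
  have hpair : ∀ x, x ≠ 0 → ∃ k ∈ K, f x k ≠ 0 := by
    intro x hx
    by_contra hc
    push Not at hc
    obtain ⟨y₀, hy₀⟩ := (hf.nondegenerate x hx).2
    suffices H : ∀ y ∈ Submodule.span F K, f x y = 0 from hy₀ (H y₀ (by rw [hKtop]; trivial))
    intro y hy'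
    induction hy' using Submodule.span_induction with
    | mem k hk => exact hc k hk
    | zero => exact zero_right hf x
    | add a b _ _ ha hb => rw [add_right hf, ha, hb, add_zero]
    | smul s a _ ha => rw [smul_right hf, ha, mul_zero]
  have hall : ∀ x ∈ centres f M, x ≠ 0 → Linked f M w x := fun x _ hx0 => by
    obtain ⟨k, ⟨hk, hwk⟩, hxk⟩ := hpair x hx0
    obtain ⟨z, hz, hw', hk'⟩ := hwk
    obtain ⟨z', hz', a, b⟩ := linked_step hf h2 hk hxk ⟨z, hz, hk', hw'⟩
    exact ⟨z', hz', b, a⟩
  have hgood : ∀ {x y z : ι → F}, x ∈ centres f M → y ∈ centres f M → z ∈ centres f M → f x z ≠ 0 → f y z ≠ 0 →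
      f x z + f y z ≠ 0 → x + y ∈ centres f M := by
    intro x y z hx hy hz hxz hyz hne
    by_cases hxy : f x y = 0
    swap
    · simpa using centres_step hf hx hy hxy 1
    have h1 : y + (1 : F) • z ∈ centres f M := centres_step hf hy hz hyz 1
    have h3 : x + (1 : F) • (y + (1 : F) • z) ∈ centres f M := centres_step hf hx h1 (by
      rw [add_right hf, smul_right hf, hxy, zero_add, one_mul]; exact hxz) 1
    have h4 := centres_step hf h3 hz (by
      simp only [one_smul]
      rw [add_left hf, add_left hf, hf.alternating z, add_zero]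
      exact hne) (-1)
    convert h4 using 1
    module
  have haux : ∀ {x y z w' : ι → F}, x ∈ centres f M → y ∈ centres f M → z ∈ centres f M → w' ∈ centres f M →
      f x y = 0 → f x z ≠ 0 → f y z = -f x z → f x w' = 0 → f y w' ≠ 0 → x + y ∈ centres f M := by
    intro x y z w' hx hy hz hw' hxy hxz hyz hxw hyw
    obtain ⟨v, hv, hzv, hxv, hyv⟩ : ∃ v ∈ centres f M, f z v ≠ 0 ∧ f x v = 0 ∧ f y v ≠ 0 := by
      by_cases hzw : f z w' = 0
      · refine ⟨w' + (1 : F) • y, centres_step hf hw' hy (ne_zero_comm hf hyw) 1, ?_, ?_, ?_⟩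
        · rw [add_right hf, smul_right hf, hzw, zero_add, one_mul, hf.skew, hyz, neg_neg]
          exact hxz
        · rw [add_right hf, smul_right hf, hxw, hxy]; ring
        · rwa [add_right hf, smul_right hf, hf.alternating, mul_zero, add_zero]
      · exact ⟨w', hw', hzw, hxw, hyw⟩
    set α := f x z with hα
    set z' := z + (2 * α / f y v) • v with hz'
    have e1 : f x z' = α := by rw [hz', add_right hf, smul_right hf, hxv, mul_zero, add_zero]
    have e2 : f y z' = α := by
      rw [hz', add_right hf, smul_right hf, hyz, div_mul_cancel₀ _ hyv]; ring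
    refine hgood hx hy (centres_step hf hz hv hzv _) (by rw [e1]; exact hxz) (by rw [e2]; exact hxz) ?_
    rw [e1, e2, ← two_mul]
    exact mul_ne_zero h2 hxz
  have hadd : ∀ x ∈ centres f M, ∀ y ∈ centres f M, x + y ∈ centres f M := by
    intro x hx y hy
    rcases eq_or_ne x 0 with rfl | hx0
    · rwa [zero_add]
    rcases eq_or_ne y 0 with rfl | hy0
    · rwa [add_zero]
    by_cases hxy : f x y = 0
    swap
    · simpa using centres_step hf hx hy hxy 1
    obtain ⟨zw, hzw, a1, a2⟩ := hall x hx hx0
    obtain ⟨z, hz, hxz, hyz⟩ := linked_trans hf h2 hw ⟨zw, hzw, a2, a1⟩ (hall y hy hy0)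
    by_cases hsum : f x z + f y z = 0
    swap
    · exact hgood hx hy hz hxz hyz hsum
    have hyz' : f y z = -f x z := eq_neg_of_add_eq_zero_right hsum
    rcases eq_or_ne (x + y) 0 with e | hxy0
    · rw [e, ← zero_smul F x]; exact centres_smul hf hx 0
    obtain ⟨w', ⟨hw', -⟩, hne⟩ := hpair (x + y) hxy0
    rw [add_left hf] at hne
    by_cases h1 : f x w' = 0
    · exact haux hx hy hz hw' hxy hxz hyz' h1 (by rwa [h1, zero_add] at hne)
    · by_cases h3 : f y w' = 0
      · rw [add_comm]
        exact haux hy hx hz hw' (by rw [hf.skew, hxy, neg_zero]) hyz (by rw [hyz', neg_neg]) h3 h1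
      · exact hgood hx hy hw' h1 h3 hne
  intro v
  have hv : v ∈ Submodule.span F K := by rw [hKtop]; trivial
  induction hv using Submodule.span_induction with
  | mem k hk => exact hk.1
  | zero => rw [← zero_smul F w]; exact centres_smul hf hw 0
  | add a b _ _ ha hb => exact hadd a ha b hb
  | smul s a _ ha => exact centres_smul hf ha s

end CfsgLib.ExtraTypeMax
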