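import Cfsg.Agent.Lib.ExtraTypeMax.QSpace

/-!
An elementary abelian 2-subgroup with a quadratic form, two classes of controlled involutions in it:
the group is the normalizer.
-/

set_option autoImplicit false
set_option linter.unusedSectionVars false

namespace CfsgLib.ExtraTypeMax

variable {X : Type*} [Group X] [Finite X] {V : Type*} [AddCommGroup V] [Module (ZMod 2) V]

/-- No family of self-adjoint maps with common kernel is regular on the orthogonal of the kernel. -/
theorem QS.spread [FiniteDimensional (ZMod 2) V] (S : QS V) (U : Submodule (ZMod 2) V) (hU : S.perp U ≤ U)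
    (h2 : 2 ≤ Module.finrank (ZMod 2) (S.perp U)) (L : Set (V →ₗ[ZMod 2] V))
    (hker : ∀ T ∈ L, ∀ x ∈ U, T x = 0) (hker' : ∀ T ∈ L, ∀ y, T y ≠ 0 → ∀ x, T x = 0 → x ∈ U)
    (adj : ∀ T ∈ L, ∀ x y, S.B (T x) y = S.B x (T y)) (diag : ∀ T ∈ L, ∀ x, S.B x (T x) = S.Q (T x))
    (hrange : ∀ T ∈ L, ∀ x, T x ∈ S.perp U)
    (onto : ∀ x0, x0 ∉ U → ∀ z ∈ S.perp U, ∃ T ∈ L, T x0 = z) : False := by
  set Z := S.perp U with hZ
  have hBZ : ∀ a ∈ Z, ∀ b ∈ Z, S.B a b = 0 := fun a ha b hb => hb a (hU ha)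
  let qf : Z →ₗ[ZMod 2] ZMod 2 := AddMonoidHom.toZModLinearMap 2
    (AddMonoidHom.mk' (fun z : Z => S.Q z) fun a b => by
      show S.Q ((a : V) + b) = _
      rw [S.Q_add, hBZ _ a.2 _ b.2, add_zero])
  obtain ⟨lam, hlam⟩ := S.repr Z qf
  replace hlam : ∀ z ∈ Z, S.Q z = S.B z lam := fun z hz => hlam ⟨z, hz⟩
  have hUV : ∃ x, x ∉ U := by
    by_contra h
    push Not at h
    have hbot : Z = ⊥ := (Submodule.eq_bot_iff _).2 fun x hx =>
      S.nondeg x fun y => by rw [S.B_comm]; exact hx y (h y)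
    rw [hbot, finrank_bot] at h2
    omega
  by_cases hlU : lam ∈ U
  · obtain ⟨x, hx⟩ := hUV
    refine hx ?_
    rw [← S.perp_perp U]
    intro y hy
    obtain ⟨T, hT, hTx⟩ := onto x hx y hy
    show S.B y x = 0
    rw [S.B_comm, ← hTx, diag T hT, hlam _ (hrange T hT x), adj T hT, hker T hT lam hlU, map_zero]
  have hradpar : ∀ y ∈ Z, y ≠ 0 → ∀ T ∈ L, T lam = y →
      (Module.finrank (ZMod 2) V - Module.finrank (ZMod 2) Z) % 2 = Module.finrank (ZMod 2) U % 2 ∧
      ∀ R : Submodule (ZMod 2) V,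
        (∀ r ∈ R, ∀ x, S.B x (T r) + S.B x y * S.B r y = 0) → (∀ r ∈ R, S.B r y = 0) → R ≤ U := by
    intro y hy hy0 T hT hTl
    refine ⟨by have := S.finrank_perp U; rw [← hZ] at this; omega, fun R hR hR' r hr => ?_⟩
    refine hker' T hT lam (by rwa [hTl]) r (S.nondeg _ fun x => ?_)
    have := hR r hr x
    rw [hR' r hr, mul_zero, add_zero] at this
    rw [S.B_comm]; exact this
  have hTform : ∀ y ∈ Z, ∀ T ∈ L, T lam = y → ∃ φ : V →ₗ[ZMod 2] V →ₗ[ZMod 2] ZMod 2,
      (∀ x z, φ x z = S.B x (T z) + S.B x y * S.B z y) ∧ (∀ x, φ x x = 0) ∧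
      (∀ z, φ lam z = (1 + S.Q y) * S.B z y) ∧
      U ≤ LinearMap.BilinForm.orthogonal φ ⊤ := by
    intro y hy T hT hTl
    refine ⟨LinearMap.mk₂ (ZMod 2) (fun x z => S.B x (T z) + S.B x y * S.B z y) ?_ ?_ ?_ ?_,
      fun _ _ => rfl, fun x => ?_, fun z => ?_, fun z hz x _ => ?_⟩
    · intros; simp only [map_add, LinearMap.add_apply]; ring
    · intros; simp only [map_smul, LinearMap.smul_apply, smul_eq_mul]; ring
    · intros; simp only [map_add, LinearMap.add_apply]; ring
    · intros; simp only [map_smul, LinearMap.smul_apply, smul_eq_mul]; ring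
    · show S.B x (T x) + S.B x y * S.B x y = 0
      rw [diag T hT, hlam _ (hrange T hT x), adj T hT, hTl]
      rcases z2 (S.B x y) with h | h <;> simp [h, CharTwo.add_self_eq_zero]
    · show S.B lam (T z) + S.B lam y * S.B z y = _
      rw [← adj T hT, hTl, S.B_comm lam y, ← hlam y hy, S.B_comm z y]
      ring
    · show S.B x (T z) + S.B x y * S.B z y = 0
      rw [hker T hT z hz, map_zero, show S.B z y = 0 from hy z hz, mul_zero, add_zero]
  have hVdim := S.even_finrank
  rw [Nat.even_iff] at hVdim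
  rcases Nat.even_or_odd (Module.finrank (ZMod 2) Z) with hb | hb
  · -- the orthogonal of the kernel has even dimension
    obtain ⟨y, hy, hQy⟩ : ∃ y ∈ Z, S.Q y = 1 := by
      by_contra h
      push Not at h
      refine hlU ?_
      rw [← S.perp_perp U]
      intro z hz
      show S.B z lam = 0
      rw [← hlam z hz]
      exact z2_ne_one.1 (h z hz)
    obtain ⟨T, hT, hTl⟩ := onto lam hlU y hy
    obtain ⟨φ, hφ, hφ0, hφl, hφU⟩ := hTform y hy T hT hTl
    obtain ⟨rad, hrad⟩ : ∃ W, W = LinearMap.BilinForm.orthogonal φ ⊤ := ⟨_, rfl⟩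
    have hpar := radical_parity φ hφ0 ⊤
    rw [top_inf_eq, finrank_top, ← hrad] at hpar
    have memrad : ∀ z ∈ rad, ∀ x, φ x z = 0 := fun z hz x => (hrad ▸ hz : z ∈ LinearMap.BilinForm.orthogonal φ ⊤) x trivial
    rw [← hrad] at hφU
    obtain ⟨-, hR⟩ := hradpar y hy (fun e => by simp [e, S.Q_zero] at hQy) T hT hTl
    have hlr : lam ∈ rad := hrad.symm ▸ fun x _ => by
      show φ x lam = 0
      have h := hφl x
      rw [hQy, show (1 : ZMod 2) + 1 = 0 from rfl, zero_mul] at h
      have h2 := hφ0 (x + lam)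
      simp only [map_add, LinearMap.add_apply, hφ0, h, zero_add, add_zero] at h2
      exact h2
    have hsym : ∀ a c, φ a c = φ c a := fun a c => by
      have h2 := hφ0 (a + c)
      simp only [map_add, LinearMap.add_apply, hφ0, zero_add, add_zero] at h2
      rw [add_eq_zero_iff_eq_neg, CharTwo.neg_eq] at h2
      exact h2.symm
    set W := U ⊔ Submodule.span (ZMod 2) {lam} with hW
    have hle : W ≤ rad := sup_le hφU (Submodule.span_le.2 (by simpa using hlr))
    have hWdim : Module.finrank (ZMod 2) W = Module.finrank (ZMod 2) U + 1 := by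
      have h1 := Submodule.finrank_sup_add_finrank_inf_eq U (Submodule.span (ZMod 2) {lam})
      have h0 : U ⊓ Submodule.span (ZMod 2) {lam} = ⊥ := (Submodule.eq_bot_iff _).2 fun x hx => by
        obtain ⟨hxU, hxl⟩ := hx
        obtain ⟨s, rfl⟩ := Submodule.mem_span_singleton.1 hxl
        rcases z2 s with rfl | rfl
        · rw [zero_smul]
        · rw [one_smul] at hxU; exact absurd hxU hlU
      rw [h0, finrank_bot, finrank_span_singleton (fun e : lam = 0 => hlU (e ▸ U.zero_mem))] at h1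
      exact h1
    obtain ⟨r, hr, hrW⟩ := SetLike.not_le_iff_exists.1 fun h : rad ≤ W => by
      have h1 := Submodule.finrank_mono h
      have h2 := Submodule.finrank_mono hle
      have h3 := S.finrank_perp U
      rw [← hZ] at h3
      rw [Nat.even_iff] at hb
      omega
    set r' := r + S.B r y • lam with hr'
    have hr'rad : r' ∈ rad := rad.add_mem hr (rad.smul_mem _ hlr)
    have hr'y : S.B r' y = 0 := by
      rw [hr', map_add, map_smul, LinearMap.add_apply, LinearMap.smul_apply, smul_eq_mul, S.B_comm lam y,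
        ← hlam y hy, hQy, mul_one, CharTwo.add_self_eq_zero]
    have := hR (Submodule.span (ZMod 2) {r'})
      (fun z hz x => by
        obtain ⟨s, rfl⟩ := Submodule.mem_span_singleton.1 hz
        rw [← hφ]; exact memrad _ (rad.smul_mem s hr'rad) x)
      (fun z hz => by
        obtain ⟨s, rfl⟩ := Submodule.mem_span_singleton.1 hz
        rw [map_smul, LinearMap.smul_apply, hr'y, smul_zero]) (Submodule.mem_span_singleton_self _)
    refine hrW ?_
    rw [show r = r' + S.B r y • lam by rw [hr', add_assoc, v_add_self, add_zero]]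
    exact W.add_mem (Submodule.mem_sup_left this)
      (W.smul_mem _ (Submodule.mem_sup_right (Submodule.mem_span_singleton_self _)))
  · obtain ⟨y, hy, hy0, hQy⟩ : ∃ y ∈ Z, y ≠ 0 ∧ S.Q y = 0 := by
      let g : Z →ₗ[ZMod 2] ZMod 2 := qf
      obtain ⟨y, hy, hy0⟩ := Submodule.exists_mem_ne_zero_of_ne_bot (p := LinearMap.ker g) fun e => by
        have h := LinearMap.finrank_range_add_finrank_ker g
        have h' := (LinearMap.range g).finrank_le
        rw [e, finrank_bot] at h
        rw [Module.finrank_self] at h'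
        omega
      exact ⟨y, y.2, fun e => hy0 (Subtype.ext e), LinearMap.mem_ker.1 hy⟩
    obtain ⟨T, hT, hTl⟩ := onto lam hlU y hy
    obtain ⟨φ, hφ, hφ0, hφl, hφU⟩ := hTform y hy T hT hTl
    obtain ⟨rad, hrad⟩ : ∃ W, W = LinearMap.BilinForm.orthogonal φ ⊤ := ⟨_, rfl⟩
    have hpar := radical_parity φ hφ0 ⊤
    rw [top_inf_eq, finrank_top, ← hrad] at hpar
    have memrad : ∀ z ∈ rad, ∀ x, φ x z = 0 := fun z hz x => (hrad ▸ hz : z ∈ LinearMap.BilinForm.orthogonal φ ⊤) x trivial
    rw [← hrad] at hφU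
    obtain ⟨-, hR⟩ := hradpar y hy hy0 T hT hTl
    have hle : rad ≤ U := hR rad (fun r hr x => by rw [← hφ]; exact memrad r hr x) fun r hr => by
      have h : φ lam r = 0 := memrad r hr lam
      rwa [hφl, hQy, add_zero, one_mul] at h
    have h1 := Submodule.finrank_mono hle
    have h2 := Submodule.finrank_mono hφU
    have h3 := S.finrank_perp U
    rw [← hZ] at h3
    rw [Nat.odd_iff] at hb
    omega

/-- An elementary abelian normal subgroup of `M` with controlled elements. -/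
structure Fus (S : QS V) (M : Subgroup X) (i : V → X) (u : V) : Prop where
  six : 6 ≤ Module.finrank (ZMod 2) V
  add : ∀ a b, i (a + b) = i a * i b
  inj : Function.Injective i
  mem : ∀ v, i v ∈ M
  act : ∀ m ∈ M, ∀ v, ∃ v', m * i v * m⁻¹ = i v'
  ker : ∀ m ∈ M, (∀ v, m * i v = i v * m) → ∃ v, m = i v
  u_cases : u = 0 ∨ S.Q u = 1
  central : ∀ g, g * i u = i u * g
  ctrl : ∀ w, w ≠ 0 → w ≠ u → ∀ g, g * i w = i w * g → g ∈ M
  typ : ∀ g v v', g * i v * g⁻¹ = i v' → S.Q v = S.Q v' ∧ S.B u v = S.B u v'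
  trans : ∀ v v', v ≠ 0 → v ≠ u → v' ≠ 0 → v' ≠ u → S.Q v = S.Q v' → S.B u v = S.B u v' →
    ∃ m ∈ M, m * i v * m⁻¹ = i v'
  hsq : u ≠ 0 → ∀ x ∈ M, ∀ g v', S.B u v' = 0 → x = g * i v' * g⁻¹ → ∀ w, x * i w * x⁻¹ ≠ i (w + u)

namespace Fus

variable {S : QS V} {M : Subgroup X} {i : V → X} {u : V} (H : Fus S M i u)
include H

theorem map_zero : i 0 = 1 := by
  have h := H.add 0 0
  rw [add_zero] at h
  exact left_eq_mul.1 h

theorem sq (v : V) : i v * i v = 1 := by rw [← H.add, v_add_self, H.map_zero]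

theorem inv_eq (v : V) : (i v)⁻¹ = i v := inv_eq_of_mul_eq_one_right (H.sq v)

theorem commute (a b : V) : Commute (i a) (i b) := by
  show i a * i b = i b * i a
  rw [← H.add, ← H.add, add_comm]

theorem findim : FiniteDimensional (ZMod 2) V := by
  have : Finite V := Finite.of_injective i H.inj
  exact Module.Finite.of_finite

theorem conj_eq_u {g : X} {v : V} (h : g * i v * g⁻¹ = i u) : v = u := by
  have h' : i v = g⁻¹ * i u * g := by rw [← h]; group
  rw [mul_assoc, ← H.central, ← mul_assoc, inv_mul_cancel, one_mul] at h'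
  exact H.inj h'

/-- Conjugates of controlled elements are conjugate in `M`. -/
theorem mem_of_conj {g : X} {v w : V} (h0 : v ≠ 0) (hu : v ≠ u) (h : g * i v * g⁻¹ = i w) : g ∈ M := by
  obtain ⟨hQ, hB⟩ := H.typ g v w h
  have hw0 : w ≠ 0 := fun e => h0 (H.inj (by rw [e, H.map_zero] at h; rw [H.map_zero]; exact conj_eq_one_iff.1 h))
  have hwu : w ≠ u := fun e => hu (H.conj_eq_u (e ▸ h))
  obtain ⟨m, hm, hmv⟩ := H.trans v w h0 hu hw0 hwu hQ hB
  have hc : (m⁻¹ * g) * i v = i v * (m⁻¹ * g) := by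
    rw [← hmv] at h
    calc (m⁻¹ * g) * i v = m⁻¹ * (g * i v * g⁻¹) * g := by group
      _ = _ := by rw [h]; group
  simpa using M.mul_mem hm (H.ctrl v h0 hu _ hc)

/-- The vectors carried into `M`. -/
def usub (g : X) : Submodule (ZMod 2) V :=
  AddSubgroup.toZModSubmodule 2
    { carrier := {v | g * i v * g⁻¹ ∈ M}
      add_mem' := fun {a b} ha hb => by
        show g * i (a + b) * g⁻¹ ∈ M
        rw [H.add, show g * (i a * i b) * g⁻¹ = (g * i a * g⁻¹) * (g * i b * g⁻¹) by group]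
        exact M.mul_mem ha hb
      zero_mem' := by
        show g * i 0 * g⁻¹ ∈ M
        rw [H.map_zero, mul_one, mul_inv_cancel]; exact M.one_mem
      neg_mem' := fun {a} ha => by rwa [v_neg] }

theorem mem_usub {g : X} {v : V} : v ∈ H.usub g ↔ g * i v * g⁻¹ ∈ M := Iff.rfl

theorem u_mem_usub (g : X) : u ∈ H.usub g := by
  rw [H.mem_usub, H.central, mul_inv_cancel_right]; exact H.mem u

/-- The induced map of an element of `M`. -/
noncomputable def sig (m : M) : V →ₗ[ZMod 2] V :=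
  AddMonoidHom.toZModLinearMap 2 (AddMonoidHom.mk' (fun v => (H.act m m.2 v).choose) fun a b => H.inj (by
    have ha := (H.act m m.2 a).choose_spec
    have hb := (H.act m m.2 b).choose_spec
    have hab := (H.act m m.2 (a + b)).choose_spec
    refine hab.symm.trans ?_
    rw [H.add ((H.act m m.2 a).choose), ← ha, ← hb, H.add]
    group))

theorem sig_spec (m : M) (v : V) : (m : X) * i v * (m : X)⁻¹ = i (H.sig m v) := (H.act m m.2 v).choose_spec

theorem sig_Q (m : M) (v : V) : S.Q (H.sig m v) = S.Q v := (H.typ _ _ _ (H.sig_spec m v)).1.symm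

theorem sig_B (m : M) (v w : V) : S.B (H.sig m v) (H.sig m w) = S.B v w := by
  have h1 := S.Q_add (H.sig m v) (H.sig m w)
  rw [← map_add, H.sig_Q, H.sig_Q, H.sig_Q, S.Q_add] at h1
  exact (add_left_cancel h1).symm

theorem sig_mul (m n : M) (v : V) : H.sig (m * n) v = H.sig m (H.sig n v) := H.inj (by
  rw [← H.sig_spec, ← H.sig_spec, ← H.sig_spec, Subgroup.coe_mul, _root_.mul_inv_rev]
  group)

theorem sig_one (v : V) : H.sig 1 v = v := H.inj (by rw [← H.sig_spec]; simp)

/-- The nilpotent part of the map induced by a conjugate inside `M`. -/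
noncomputable def nil (g : X) (v : H.usub g) : V →ₗ[ZMod 2] V :=
  H.sig ⟨g * i v * g⁻¹, H.mem_usub.1 v.2⟩ + LinearMap.id

theorem sig_invol (g : X) (v : H.usub g) (w : V) :
    H.sig ⟨g * i v * g⁻¹, H.mem_usub.1 v.2⟩ (H.sig ⟨g * i v * g⁻¹, H.mem_usub.1 v.2⟩ w) = w := by
  rw [← H.sig_mul]
  have : (⟨g * i v * g⁻¹, H.mem_usub.1 v.2⟩ : M) * ⟨g * i v * g⁻¹, H.mem_usub.1 v.2⟩ = 1 := Subtype.ext (by
    show g * i v * g⁻¹ * (g * i v * g⁻¹) = 1
    rw [show g * i v * g⁻¹ * (g * i v * g⁻¹) = g * (i v * i v) * g⁻¹ by group, H.sq]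
    group)
  rw [this, H.sig_one]

theorem nil_apply (g : X) (v : H.usub g) (w : V) :
    H.nil g v w = H.sig ⟨g * i v * g⁻¹, H.mem_usub.1 v.2⟩ w + w := rfl

theorem nil_nil (g : X) (v : H.usub g) (w : V) : H.nil g v (H.nil g v w) = 0 := by
  rw [nil_apply, nil_apply, map_add, H.sig_invol, add_comm w, v_add_self]

theorem nil_adj (g : X) (v : H.usub g) (x y : V) : S.B (H.nil g v x) y = S.B x (H.nil g v y) := by
  rw [nil_apply, nil_apply, map_add, map_add, LinearMap.add_apply]
  congr 1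
  conv_lhs => rw [← H.sig_invol g v y]
  rw [H.sig_B]

theorem nil_diag (g : X) (v : H.usub g) (x : V) : S.B x (H.nil g v x) = S.Q (H.nil g v x) := by
  have h := S.Q_add x (H.nil g v x)
  rw [show x + H.nil g v x = H.sig ⟨g * i v * g⁻¹, H.mem_usub.1 v.2⟩ x by
      rw [nil_apply, add_comm _ x, v_add_add_cancel], H.sig_Q, add_assoc, left_eq_add,
    add_eq_zero_iff_eq_neg, CharTwo.neg_eq] at h
  exact h.symm

theorem nil_ker {g : X} {v : H.usub g} (h0 : (v : V) ≠ 0) (hu : (v : V) ≠ u) {w : V} (hw : H.nil g v w = 0) :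
    w ∈ H.usub g⁻¹ := by
  rw [nil_apply, v_add_eq_zero] at hw
  have h1 := H.sig_spec ⟨g * i v * g⁻¹, H.mem_usub.1 v.2⟩ w
  rw [hw] at h1
  rw [H.mem_usub, inv_inv]
  refine H.ctrl v h0 hu _ ?_
  have h2 : (g * i v * g⁻¹) * i w = i w * (g * i v * g⁻¹) := mul_inv_eq_iff_eq_mul.1 h1
  calc g⁻¹ * i w * g * i v = g⁻¹ * (i w * (g * i v * g⁻¹)) * g := by group
    _ = g⁻¹ * ((g * i v * g⁻¹) * i w) * g := by rw [h2]
    _ = _ := by group

theorem nil_usub {g : X} (hg : g ∉ M) (v : H.usub g) {w : V} (hw : w ∈ H.usub g⁻¹) :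
    H.nil g v w = 0 ∨ H.nil g v w = u := by
  rw [H.mem_usub, inv_inv] at hw
  obtain ⟨v'', hv''⟩ := H.act _ hw v
  have key : g * i (v'' + v) * g⁻¹ = i (H.nil g v w) := by
    have h1 := H.sig_spec ⟨g * i v * g⁻¹, H.mem_usub.1 v.2⟩ w
    simp only at h1
    rw [H.add, ← hv'', ← H.inv_eq (H.nil g v w), nil_apply, H.add, ← h1]
    simp only [_root_.mul_inv_rev, inv_inv, mul_assoc, H.inv_eq, mul_inv_cancel_left]
  by_contra hne
  push Not at hne
  refine hg (H.mem_of_conj (fun e => hne.1 ?_) (fun e => hne.2 ?_) key)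
  · rw [e, H.map_zero, mul_one, mul_inv_cancel] at key
    exact (H.inj (by rw [← key, H.map_zero])).symm
  · rw [e, H.central, mul_inv_cancel_right] at key
    exact (H.inj key).symm

theorem half_le {g : X} {v : V} (h0 : v ≠ 0) (hu : v ≠ u) (hv : g * i v * g⁻¹ ∈ M) :
    Module.finrank (ZMod 2) V ≤ 2 * Module.finrank (ZMod 2) (H.usub g⁻¹) := by
  have := H.findim
  set T := H.nil g ⟨v, hv⟩
  have h1 := LinearMap.finrank_range_add_finrank_ker T
  have h2 : LinearMap.range T ≤ LinearMap.ker T := by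
    rintro _ ⟨w, rfl⟩
    exact H.nil_nil _ _ w
  have h3 : LinearMap.ker T ≤ H.usub g⁻¹ := fun w hw => H.nil_ker h0 hu hw
  have h4 := Submodule.finrank_mono h2
  have h5 := Submodule.finrank_mono h3
  omega

theorem exists_other {W : Submodule (ZMod 2) V} (h : 2 ≤ Module.finrank (ZMod 2) W) :
    ∃ v ∈ W, v ≠ 0 ∧ v ≠ u := by
  have := H.findim
  obtain ⟨v, hv, hvs⟩ := SetLike.not_le_iff_exists.1 fun hle : W ≤ Submodule.span (ZMod 2) {u} => by
    have h1 := Submodule.finrank_mono hle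
    have h2 := (finrank_span_le_card (R := ZMod 2) ({u} : Set V))
    simp at h2
    omega
  exact ⟨v, hv, fun e => hvs (by rw [e]; exact Submodule.zero_mem _),
    fun e => hvs (by rw [e]; exact Submodule.mem_span_singleton_self u)⟩

/-- The orthogonal part of the carried vectors. -/
def uperp (g : X) : Submodule (ZMod 2) V := H.usub g ⊓ LinearMap.ker (S.B u)

theorem finrank_uperp (g : X) :
    Module.finrank (ZMod 2) (H.usub g) ≤ Module.finrank (ZMod 2) (H.uperp g) + 1 := by
  have := H.findim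
  have h := Submodule.finrank_sup_add_finrank_inf_eq (H.usub g) (LinearMap.ker (S.B u))
  have h1 := LinearMap.finrank_range_add_finrank_ker (S.B u)
  have h2 := (LinearMap.range (S.B u)).finrank_le
  rw [Module.finrank_self] at h2
  have h3 := (H.usub g ⊔ LinearMap.ker (S.B u)).finrank_le
  rw [uperp]
  omega

theorem nil_perp_ker {g : X} (hg : g ∉ M) (v : H.usub g) (hv : S.B u v = 0) {w : V} (hw : w ∈ H.usub g⁻¹) :
    H.nil g v w = 0 := by
  rcases H.nil_usub hg v hw with h | h
  · exact h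
  rcases eq_or_ne u 0 with hu | hu
  · rw [h, hu]
  exfalso
  refine H.hsq hu (g * i v * g⁻¹) (H.mem_usub.1 v.2) g v hv rfl w ?_
  have h1 := H.sig_spec ⟨g * i v * g⁻¹, H.mem_usub.1 v.2⟩ w
  simp only at h1
  rw [nil_apply] at h
  refine h1.trans (congrArg i ?_)
  calc H.sig _ w = H.sig _ w + w + w := by rw [add_assoc, v_add_self, add_zero]
    _ = u + w := congrArg (· + w) h
    _ = w + u := add_comm _ _

theorem perp_le {g : X} (hg : g ∉ M) (v : H.usub g) (hv : S.B u v = 0) (h0 : (v : V) ≠ 0) (hu : (v : V) ≠ u) :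
    S.perp (H.usub g⁻¹) ≤ H.usub g⁻¹ ∧ LinearMap.range (H.nil g v) = S.perp (H.usub g⁻¹) ∧
      (u ≠ 0 → u ∉ S.perp (H.usub g⁻¹)) := by
  have := H.findim
  have hker : LinearMap.ker (H.nil g v) = H.usub g⁻¹ :=
    le_antisymm (fun w hw => H.nil_ker h0 hu hw) (fun w hw => H.nil_perp_ker hg v hv hw)
  have hle : LinearMap.range (H.nil g v) ≤ S.perp (H.usub g⁻¹) := by
    rintro _ ⟨x, rfl⟩ y hy
    show S.B y (H.nil g v x) = 0
    rw [← H.nil_adj, H.nil_perp_ker hg v hv hy]
    simp
  have heq : LinearMap.range (H.nil g v) = S.perp (H.usub g⁻¹) :=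
    Submodule.eq_of_le_of_finrank_eq hle (by
      have h1 := LinearMap.finrank_range_add_finrank_ker (H.nil g v)
      have h2 := S.finrank_perp (H.usub g⁻¹)
      rw [hker] at h1
      omega)
  refine ⟨?_, heq, fun hu0 hmem => ?_⟩
  · rw [← heq, ← hker]
    rintro _ ⟨x, rfl⟩
    exact H.nil_nil g v x
  · rw [← heq] at hmem
    obtain ⟨x, hx⟩ := hmem
    refine H.hsq hu0 (g * i v * g⁻¹) (H.mem_usub.1 v.2) g v hv rfl x ?_
    have h1 := H.sig_spec ⟨g * i v * g⁻¹, H.mem_usub.1 v.2⟩ x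
    simp only at h1
    rw [nil_apply] at hx
    refine h1.trans (congrArg i ?_)
    calc H.sig _ x = H.sig _ x + x + x := by rw [add_assoc, v_add_self, add_zero]
      _ = u + x := congrArg (· + x) hx
      _ = x + u := add_comm _ _

theorem nil_triv (g : X) (v : H.usub g) (hv : (v : V) = 0 ∨ (v : V) = u) (w : V) : H.nil g v w = 0 := by
  have e : g * i v * g⁻¹ = i v := by
    rcases hv with h | h <;> rw [h]
    · rw [H.map_zero, mul_one, mul_inv_cancel]
    · rw [H.central, mul_inv_cancel_right]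
  rw [nil_apply, v_add_eq_zero]
  apply H.inj
  rw [← H.sig_spec]
  show g * i v * g⁻¹ * i w * (g * i v * g⁻¹)⁻¹ = i w
  rw [e, (H.commute v w).eq, mul_inv_cancel_right]

/-- Only the trivial conjugations carry a controlled element into `M`. -/
theorem not_fused {g : X} {w : V} (h0 : w ≠ 0) (hu : w ≠ u) (hw : g * i w * g⁻¹ ∈ M) : g ∈ M := by
  by_contra hg
  have := H.findim
  have hg' : g⁻¹ ∉ M := fun h => hg (by simpa using M.inv_mem h)
  have hsix := H.six
  have ha := H.half_le h0 hu hw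
  obtain ⟨v1, hv1, hv10, hv1u⟩ := H.exists_other (W := H.usub g⁻¹) (by omega)
  have ha' := H.half_le hv10 hv1u (H.mem_usub.1 hv1)
  rw [inv_inv] at ha'
  have hup := H.finrank_uperp g
  have hup' := H.finrank_uperp g⁻¹
  obtain ⟨v, hv, hv0, hvu⟩ := H.exists_other (W := H.uperp g) (by omega)
  obtain ⟨hle, -, hunot⟩ := H.perp_le hg ⟨v, hv.1⟩ (LinearMap.mem_ker.1 hv.2) hv0 hvu
  obtain ⟨v2, hv2, hv20, hv2u⟩ := H.exists_other (W := H.uperp g⁻¹) (by omega)
  obtain ⟨hle', -, hunot'⟩ := H.perp_le hg' ⟨v2, hv2.1⟩ (LinearMap.mem_ker.1 hv2.2) hv20 hv2u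
  rw [inv_inv] at hle' hunot'
  set U := H.usub g⁻¹ with hU
  set Z := S.perp U with hZ
  have hZdim := S.finrank_perp U
  rw [← hZ] at hZdim
  have hZdim' := S.finrank_perp (H.usub g)
  have heven := S.even_finrank
  rw [Nat.even_iff] at heven
  -- the family of nilpotent maps
  let Λ : H.uperp g → (V →ₗ[ZMod 2] V) := fun x => H.nil g ⟨x, x.2.1⟩
  have hΛker : ∀ x, ∀ y ∈ U, Λ x y = 0 := fun x y hy => H.nil_perp_ker hg _ (LinearMap.mem_ker.1 x.2.2) hy
  have hΛmem : ∀ x y, Λ x y ∈ Z := fun x y z hz => by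
    show S.B z (Λ x y) = 0
    rw [← H.nil_adj]
    show S.B (Λ x z) y = 0
    rw [hΛker x z hz]; simp
  have hΛU : ∀ x y, Λ x y ∈ U := fun x y => hle (hΛmem x y)
  have hadd : ∀ x x' y, Λ (x + x') y = Λ x y + Λ x' y := by
    intro x x' y
    have hs : ∀ z, H.sig ⟨g * i ((x + x' : H.uperp g) : V) * g⁻¹, H.mem_usub.1 (x + x').2.1⟩ z =
        H.sig ⟨g * i x * g⁻¹, H.mem_usub.1 x.2.1⟩ (H.sig ⟨g * i x' * g⁻¹, H.mem_usub.1 x'.2.1⟩ z) := fun z => by
      rw [← H.sig_mul]
      congr 1
      congr 1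
      exact Subtype.ext (by
        show g * i ((x : V) + x') * g⁻¹ = (g * i x * g⁻¹) * (g * i x' * g⁻¹)
        rw [H.add]; group)
    have e1 : ∀ (a : H.uperp g) z, H.sig ⟨g * i a * g⁻¹, H.mem_usub.1 a.2.1⟩ z = Λ a z + z := fun a z => by
      show _ = H.sig _ z + z + z
      rw [add_assoc, v_add_self, add_zero]
    have h := hs y
    rw [e1, e1, e1 x', map_add, hΛker x _ (hΛU x' y), zero_add] at h
    exact add_right_cancel (h.trans (by abel))
  have hΛfree : ∀ (x : H.uperp g) y, y ∉ U → Λ x y = 0 → (x : V) = 0 ∨ (x : V) = u := by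
    intro x y hy hxy
    by_contra hne
    push Not at hne
    exact hy (H.nil_ker hne.1 hne.2 hxy)
  have honto : ∀ x0, x0 ∉ U → ∀ z ∈ Z, ∃ x, Λ x x0 = z := by
    intro x0 hx0
    let ev : H.uperp g →ₗ[ZMod 2] Z := AddMonoidHom.toZModLinearMap 2
      (AddMonoidHom.mk' (fun x => (⟨Λ x x0, hΛmem x x0⟩ : Z)) fun a b => Subtype.ext (hadd a b x0))
    have h1 := LinearMap.finrank_range_add_finrank_ker ev
    have h2 := (LinearMap.range ev).finrank_le
    have hk : ∀ x, ev x = 0 → (x : V) = 0 ∨ (x : V) = u := fun x hx => hΛfree x x0 hx0 (congrArg Subtype.val hx)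
    have hsurj : LinearMap.range ev = ⊤ := by
      refine Submodule.eq_top_of_finrank_eq ?_
      show _ = Module.finrank (ZMod 2) Z
      rcases eq_or_ne u 0 with hu0 | hu0
      · have hker : LinearMap.ker ev = ⊥ := (Submodule.eq_bot_iff _).2 fun x hx => Subtype.ext (by
          rcases hk x (LinearMap.mem_ker.1 hx) with h | h
          · exact h
          · exact h.trans hu0)
        have hfull : H.uperp g = H.usub g := inf_eq_left.2 fun x _ => by simp [hu0]
        have : Module.finrank (ZMod 2) (H.uperp g) = Module.finrank (ZMod 2) (H.usub g) := by rw [hfull]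
        rw [hker, finrank_bot] at h1
        omega
      · have hker : Module.finrank (ZMod 2) (LinearMap.ker ev) ≤ 1 := by
          have hm : (LinearMap.ker ev).map (H.uperp g).subtype ≤ Submodule.span (ZMod 2) {u} := by
            rintro _ ⟨x, hx, rfl⟩
            rcases hk x (LinearMap.mem_ker.1 hx) with h | h
            · rw [Submodule.subtype_apply, h]; exact Submodule.zero_mem _
            · rw [Submodule.subtype_apply, h]; exact Submodule.mem_span_singleton_self u
          have := Submodule.finrank_mono hm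
          rw [← (Submodule.equivMapOfInjective _ (Submodule.injective_subtype _) _).finrank_eq,
            finrank_span_singleton hu0] at this
          exact this
        have hlt : Module.finrank (ZMod 2) Z < Module.finrank (ZMod 2) U :=
          Submodule.finrank_lt_finrank_of_lt (lt_of_le_of_ne hle fun e => hunot hu0 (by
            show u ∈ Z; rw [e]; exact H.u_mem_usub g⁻¹))
        have hlt' : Module.finrank (ZMod 2) (S.perp (H.usub g)) < Module.finrank (ZMod 2) (H.usub g) :=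
          Submodule.finrank_lt_finrank_of_lt (lt_of_le_of_ne hle' fun e => hunot' hu0 (by
            rw [e]; exact H.u_mem_usub g))
        omega
    intro z hz
    obtain ⟨x, hx⟩ : (⟨z, hz⟩ : Z) ∈ LinearMap.range ev := by rw [hsurj]; trivial
    exact ⟨x, congrArg Subtype.val hx⟩
  obtain ⟨x0, hx0⟩ : ∃ x0, x0 ∉ U := by
    by_contra h
    push Not at h
    have hc : ∀ z, g * i v * g⁻¹ * i z = i z * (g * i v * g⁻¹) := fun z => by
      have h1 := hΛker ⟨v, hv⟩ z (h z)
      rw [nil_apply, v_add_eq_zero] at h1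
      have h2 := H.sig_spec ⟨g * i v * g⁻¹, H.mem_usub.1 hv.1⟩ z
      rw [h1] at h2
      exact mul_inv_eq_iff_eq_mul.1 h2
    obtain ⟨v', hv'⟩ := H.ker _ (H.mem_usub.1 hv.1) hc
    exact hg (H.mem_of_conj hv0 hvu hv')
  refine S.spread U hle ?_ (Set.range Λ) ?_ ?_ ?_ ?_ ?_ fun x0 hx0 z hz => ?_
  · -- the dimension of the orthogonal
    show 2 ≤ Module.finrank (ZMod 2) Z
    let ev : H.uperp g →ₗ[ZMod 2] Z := AddMonoidHom.toZModLinearMap 2
      (AddMonoidHom.mk' (fun x => (⟨Λ x x0, hΛmem x x0⟩ : Z)) fun a b => Subtype.ext (hadd a b x0))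
    have h1 := LinearMap.finrank_range_add_finrank_ker ev
    have h2 := (LinearMap.range ev).finrank_le
    have hm : (LinearMap.ker ev).map (H.uperp g).subtype ≤ Submodule.span (ZMod 2) {u} := by
      rintro _ ⟨x, hx, rfl⟩
      rcases hΛfree x x0 hx0 (congrArg Subtype.val (LinearMap.mem_ker.1 hx)) with h | h
      · rw [Submodule.subtype_apply, h]; exact Submodule.zero_mem _
      · rw [Submodule.subtype_apply, h]; exact Submodule.mem_span_singleton_self u
    have h3 := Submodule.finrank_mono hm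
    rw [← (Submodule.equivMapOfInjective _ (Submodule.injective_subtype _) _).finrank_eq] at h3
    rcases eq_or_ne u 0 with hu0 | hu0
    · have hfull : Module.finrank (ZMod 2) (H.uperp g) = Module.finrank (ZMod 2) (H.usub g) := by
        rw [show H.uperp g = H.usub g from inf_eq_left.2 fun x _ => by simp [hu0]]
      rw [show Submodule.span (ZMod 2) ({u} : Set V) = ⊥ by simp [hu0], finrank_bot] at h3
      omega
    · rw [finrank_span_singleton hu0] at h3
      have hlt' : Module.finrank (ZMod 2) (S.perp (H.usub g)) < Module.finrank (ZMod 2) (H.usub g) :=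
        Submodule.finrank_lt_finrank_of_lt (lt_of_le_of_ne hle' fun e => hunot' hu0 (by
          rw [e]; exact H.u_mem_usub g))
      omega
  · rintro _ ⟨x, rfl⟩; exact hΛker x
  · rintro _ ⟨x, rfl⟩ y hy w hw
    exact H.nil_ker (fun e => hy (H.nil_triv g _ (Or.inl e) y)) (fun e => hy (H.nil_triv g _ (Or.inr e) y)) hw
  · rintro _ ⟨x, rfl⟩; exact H.nil_adj g _
  · rintro _ ⟨x, rfl⟩; exact H.nil_diag g _
  · rintro _ ⟨x, rfl⟩; exact hΛmem x
  · obtain ⟨x, hx⟩ := honto x0 hx0 z hz
    exact ⟨_, ⟨x, rfl⟩, hx⟩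

/-- In a subgroup containing conjugates of the two classes, the second is controlled by the first. -/
theorem two_classes {w1 w2 : V} (h10 : w1 ≠ 0) (h1u : w1 ≠ u) (h20 : w2 ≠ 0) (h2u : w2 ≠ u)
    (hdiff : ∀ v, S.Q v = S.Q w2 → S.B u v = S.B u w2 → w1 + v ≠ 0 ∧ w1 + v ≠ u) (K : Subgroup X) :
    ∀ g h : X, g * i w1 * g⁻¹ ∈ K → h * i w2 * h⁻¹ ∈ K → g⁻¹ * (h * i w2 * h⁻¹) * g ∈ M := by
  induction K using WellFoundedLT.induction with
  | _ K ih =>
  intro g h hwK htK
  set w : K := ⟨g * i w1 * g⁻¹, hwK⟩ with hw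
  set t : K := ⟨h * i w2 * h⁻¹, htK⟩ with ht
  -- the conjugate of `M` inside `K`
  let M' : Subgroup K := ((M.map (MulAut.conj g).toMonoidHom)).subgroupOf K
  have hM' : ∀ x : K, x ∈ M' ↔ g⁻¹ * x * g ∈ M := fun x => by
    rw [Subgroup.mem_subgroupOf]
    constructor
    · rintro ⟨y, hy, e⟩
      rw [← e]
      simpa [mul_assoc] using hy
    · exact fun hx => ⟨_, hx, by simp [mul_assoc]⟩
  have hwM' : w ∈ M' := by rw [hM', hw]; simpa [mul_assoc] using H.mem w1
  suffices t ∈ M' from (hM' t).1 this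
  by_contra htM
  have hw2 : w * w = 1 := Subtype.ext (by
    show g * i w1 * g⁻¹ * (g * i w1 * g⁻¹) = 1
    rw [show g * i w1 * g⁻¹ * (g * i w1 * g⁻¹) = g * (i w1 * i w1) * g⁻¹ by group, H.sq, mul_one, mul_inv_cancel])
  have ht2 : t * t = 1 := Subtype.ext (by
    show h * i w2 * h⁻¹ * (h * i w2 * h⁻¹) = 1
    rw [show h * i w2 * h⁻¹ * (h * i w2 * h⁻¹) = h * (i w2 * i w2) * h⁻¹ by group, H.sq, mul_one, mul_inv_cancel])
  have hconj : ∀ y : K, y * w * y⁻¹ ∈ M' → y ∈ M' := fun y hy => by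
    rw [hM'] at hy ⊢
    refine H.not_fused h10 h1u ?_
    have e : g⁻¹ * (y : X) * g * i w1 * (g⁻¹ * (y : X) * g)⁻¹ = g⁻¹ * ((y * w * y⁻¹ : K) : X) * g := by
      simp [hw, mul_assoc]
    rwa [e]
  -- a Sylow subgroup of the conjugate is one of the whole
  obtain ⟨P, hwP, hPmax⟩ : ∃ P, Subgroup.zpowers w ≤ P ∧
      Maximal (fun P : Subgroup K => IsPGroup 2 P ∧ P ≤ M') P := by
    refine Finite.exists_le_maximal ⟨?_, Subgroup.zpowers_le.2 hwM'⟩
    rw [IsPGroup.iff_orderOf]
    rintro ⟨x, n, rfl⟩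
    obtain ⟨j, -, hj⟩ := (Nat.dvd_prime_pow Nat.prime_two).1
      (show orderOf (w ^ n) ∣ 2 ^ 1 from (orderOf_dvd_of_mem_zpowers ⟨n, rfl⟩).trans
        (orderOf_dvd_of_pow_eq_one (by rw [pow_one, pow_two, hw2])))
    exact ⟨j, by rw [← Subgroup.orderOf_coe]; exact hj⟩
  have hPsyl : ∀ S' : Subgroup K, IsPGroup 2 S' → P ≤ S' → S' = P := by
    intro S' hS' hle
    by_contra hne
    have hlt : P.subgroupOf S' < ⊤ := lt_top_iff_ne_top.2 fun e => hne (le_antisymm
      (Subgroup.subgroupOf_eq_top.1 e) hle)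
    have : Group.IsNilpotent S' := hS'.isNilpotent
    obtain ⟨y, hyN, hyP⟩ := SetLike.exists_of_lt (Group.normalizerCondition_of_isNilpotent _ hlt)
    have hyM : (y : K) ∈ M' := hconj y (by
      have := (Subgroup.mem_normalizer_iff.1 hyN ⟨w, hle (hwP (Subgroup.mem_zpowers w))⟩).1
        (Subgroup.mem_subgroupOf.2 (hwP (Subgroup.mem_zpowers w)))
      exact hPmax.prop.2 (Subgroup.mem_subgroupOf.1 this))
    refine hyP (Subgroup.mem_subgroupOf.2 ?_)
    have hge := hPmax.le_of_ge (y := P ⊔ Subgroup.zpowers (y : K))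
      ⟨hS'.to_le (sup_le hle (Subgroup.zpowers_le.2 y.2)), sup_le hPmax.prop.2 (Subgroup.zpowers_le.2 hyM)⟩
      le_sup_left
    exact hge (Subgroup.mem_sup_right (Subgroup.mem_zpowers _))
  set E := P.normalCore with hE
  have hEM : E ≤ M' := (Subgroup.normalCore_le P).trans hPmax.prop.2
  have hEp : IsPGroup 2 E := hPmax.prop.1.to_le (Subgroup.normalCore_le P)
  have hEbig : ∀ N : Subgroup K, N.Normal → IsPGroup 2 N → N ≤ E := fun N hN hNp =>
    Subgroup.normal_le_normalCore.2 (by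
      have := hPsyl (N ⊔ P) (hNp.to_sup_of_normal_left hPmax.prop.1) le_sup_right
      exact this ▸ le_sup_left)
  have hwE : w ∉ E := fun hwE => htM (hconj t (hEM ((inferInstance : E.Normal).conj_mem w hwE t)))
  let π := QuotientGroup.mk' E
  set r := π w * π t with hr
  have hπw : π w * π w = 1 := by rw [← map_mul, hw2, map_one]
  have hπt : π t * π t = 1 := by rw [← map_mul, ht2, map_one]
  have hwinv : (π w)⁻¹ = π w := inv_eq_of_mul_eq_one_right hπw
  have htinv : (π t)⁻¹ = π t := inv_eq_of_mul_eq_one_right hπt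
  have hwr : π w * r * (π w)⁻¹ = r⁻¹ := by
    rw [hr, _root_.mul_inv_rev, hwinv, htinv, ← mul_assoc, hπw, one_mul]
  have hconjpow : ∀ n : ℕ, π w * r ^ n * (π w)⁻¹ = (r⁻¹) ^ n := fun n => by
    rw [← conj_pow, hwr]
  rcases Nat.even_or_odd (orderOf r) with ⟨j, hj⟩ | ⟨j, hj⟩
  · have hjpos : 0 < j := by have := orderOf_pos r; omega
    set z := r ^ j with hz
    have hz2 : z * z = 1 := by rw [hz, ← pow_add, ← hj, pow_orderOf_eq_one]
    have hz1 : z ≠ 1 := fun e => by
      have := orderOf_dvd_of_pow_eq_one e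
      have := Nat.le_of_dvd hjpos this
      omega
    have hzw : π w * z = z * π w := by
      have h1 := hconjpow j
      rw [inv_pow, ← hz, inv_eq_of_mul_eq_one_right hz2] at h1
      exact mul_inv_eq_iff_eq_mul.1 h1
    have hzt : π t * z = z * π t := by
      have hcr : r * z = z * r := ((Commute.refl r).pow_right j).eq
      have e : π t = π w * r := by rw [hr, ← mul_assoc, hπw, one_mul]
      rw [e, mul_assoc, hcr, ← mul_assoc, hzw, mul_assoc]
    let K' : Subgroup K := (Subgroup.centralizer {z}).comap π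
    have hmemK' : ∀ x : K, x ∈ K' ↔ π x * z = z * π x := fun x => by
      simp only [K', Subgroup.mem_comap, Subgroup.mem_centralizer_singleton_iff]
    have hlt : K'.map K.subtype < K := by
      refine lt_of_le_of_ne (Subgroup.map_subtype_le K') fun e => hz1 ?_
      obtain ⟨z0, hz0⟩ := QuotientGroup.mk'_surjective E z
      have hcen : z ∈ Subgroup.center (K ⧸ E) := Subgroup.mem_center_iff.2 fun q => by
        obtain ⟨x, rfl⟩ := QuotientGroup.mk'_surjective E q
        have hx : (x : X) ∈ K'.map K.subtype := e.symm ▸ x.2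
        obtain ⟨x', hx', hxe⟩ := hx
        rw [show x = x' from Subtype.ext hxe.symm]
        exact (hmemK' x').1 hx'
      have : (Subgroup.zpowers z).Normal := ⟨fun a ha q => by
        obtain ⟨n, rfl⟩ := ha
        rw [(Subgroup.mem_center_iff.1 (Subgroup.zpow_mem _ hcen n) q), mul_inv_cancel_right]
        exact ⟨n, rfl⟩⟩
      have hle : (Subgroup.zpowers z).comap π ≤ E := hEbig _ inferInstance (by
        refine IsPGroup.comap_of_ker_isPGroup ?_ π (by rwa [QuotientGroup.ker_mk'])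
        rw [IsPGroup.iff_orderOf]
        rintro ⟨x, n, rfl⟩
        obtain ⟨i', -, hi'⟩ := (Nat.dvd_prime_pow Nat.prime_two).1
          (show orderOf (z ^ n) ∣ 2 ^ 1 from (orderOf_dvd_of_mem_zpowers ⟨n, rfl⟩).trans
            (orderOf_dvd_of_pow_eq_one (by rw [pow_one, pow_two, hz2])))
        exact ⟨i', by rw [← Subgroup.orderOf_coe]; exact hi'⟩)
      rw [← hz0]
      exact (QuotientGroup.eq_one_iff z0).2 (hle (by rw [Subgroup.mem_comap, ← hz0] ; exact Subgroup.mem_zpowers _))
    exact htM ((hM' t).2 (ih _ hlt g h ⟨w, (hmemK' w).2 hzw, rfl⟩ ⟨t, (hmemK' t).2 hzt, rfl⟩))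
  · -- the two involutions are conjugate modulo the core
    obtain ⟨y, hy⟩ := QuotientGroup.mk'_surjective E (r ^ j)
    have hyt : π (y * w * y⁻¹) = π t := by
      rw [map_mul, map_mul, map_inv, hy]
      have h1 : (r ^ j)⁻¹ = π w * r ^ j * (π w)⁻¹ := by rw [hconjpow, inv_pow]
      rw [h1]
      have h2 : r ^ j * π w * (π w * r ^ j * (π w)⁻¹) = r ^ (j + j) * π w := by
        rw [hwinv, pow_add]
        calc r ^ j * π w * (π w * r ^ j * π w) = r ^ j * (π w * π w) * r ^ j * π w := by simp only [mul_assoc]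
          _ = _ := by rw [hπw, mul_one]
      have hrinv : r ^ (j + j) = r⁻¹ := by
        refine eq_inv_of_mul_eq_one_left ?_
        rw [← pow_succ, show j + j + 1 = orderOf r by omega, pow_orderOf_eq_one]
      rw [h2, hrinv, hr, _root_.mul_inv_rev, hwinv, htinv, mul_assoc, hπw, mul_one]
    have he : (y * w * y⁻¹) * t ∈ E := by
      rw [← QuotientGroup.eq_one_iff]
      show π (y * w * y⁻¹ * t) = 1
      rw [map_mul, hyt, hπt]
    set g' := (y : X) * g with hg'
    let M'' : Subgroup K := M'.map (MulAut.conj y).toMonoidHom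
    have hM'' : ∀ x : K, x ∈ M'' ↔ g'⁻¹ * x * g' ∈ M := fun x => by
      rw [Subgroup.mem_map]
      constructor
      · rintro ⟨x', hx', rfl⟩
        have := (hM' x').1 hx'
        simpa [hg', mul_assoc] using this
      · exact fun hx => ⟨y⁻¹ * x * y, (hM' _).2 (by simpa [hg', mul_assoc] using hx), by simp [mul_assoc]⟩
    have hEM'' : E ≤ M'' := fun x hx =>
      ⟨y⁻¹ * x * y, hEM (by simpa using (inferInstance : E.Normal).conj_mem x hx y⁻¹), by simp [mul_assoc]⟩
    have hwM'' : y * w * y⁻¹ ∈ M'' := ⟨w, hwM', rfl⟩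
    have htM'' : t ∈ M'' := by
      have := M''.mul_mem hwM'' (hEM'' he)
      rwa [← mul_assoc, show y * w * y⁻¹ * (y * w * y⁻¹) = y * (w * w) * y⁻¹ by group, hw2, mul_one,
        mul_inv_cancel, one_mul] at this
    have hmh : g'⁻¹ * h ∈ M := H.not_fused h20 h2u (by
      have := (hM'' t).1 htM''
      simpa [ht, mul_assoc] using this)
    obtain ⟨v, hv⟩ := H.act _ hmh w2
    obtain ⟨hvQ, hvB⟩ := H.typ _ _ _ hv
    obtain ⟨he0, heu⟩ := hdiff v hvQ.symm hvB.symm
    have heq : ((y * w * y⁻¹ * t : K) : X) = g' * i (w1 + v) * g'⁻¹ := by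
      rw [H.add, ← hv]
      simp [hw, ht, hg', mul_assoc]
    have hall : ∀ x : K, x ∈ M'' := fun x => by
      rw [hM'']
      refine H.not_fused he0 heu ?_
      have h1 := (hM'' _).1 (hEM'' ((inferInstance : E.Normal).conj_mem _ he x))
      have e : g'⁻¹ * (x : X) * g' * i (w1 + v) * (g'⁻¹ * (x : X) * g')⁻¹ =
          g'⁻¹ * ((x * (y * w * y⁻¹ * t) * x⁻¹ : K) : X) * g' := by
        rw [Subgroup.coe_mul K _ x⁻¹, Subgroup.coe_mul K x, Subgroup.coe_inv, heq]
        simp [mul_assoc]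
      rwa [e]
    have hyM : y ∈ M' := hconj y (by
      obtain ⟨x', hx', hxe⟩ := hall (y * (y * w * y⁻¹) * y⁻¹)
      have e : x' = y * w * y⁻¹ := by
        simp only [MulEquiv.coe_toMonoidHom, MulAut.conj_apply] at hxe
        exact mul_left_cancel (mul_right_cancel hxe)
      rwa [← e])
    refine htM ?_
    obtain ⟨x', hx', hxe⟩ := htM''
    rw [← hxe]
    exact M'.mul_mem (M'.mul_mem hyM hx') (M'.inv_mem hyM)

/-- The main conclusion. -/
theorem eq_top : M = ⊤ := by
  have := H.findim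
  have hsix := H.six
  obtain ⟨w1, w2, h10, h1u, h20, h2u, hd⟩ : ∃ w1 w2, w1 ≠ 0 ∧ w1 ≠ u ∧ w2 ≠ 0 ∧ w2 ≠ u ∧
      ∀ v, S.Q v = S.Q w2 → S.B u v = S.B u w2 → w1 + v ≠ 0 ∧ w1 + v ≠ u := by
    rcases H.u_cases with hu | hu
    · obtain ⟨w2, -, hw2⟩ := S.exists_Q_one (W := ⊤) (S.ni_of_lt (by rw [finrank_top]; omega))
      obtain ⟨x, -, y, -, hxy⟩ := S.ni_of_lt (W := ⊤) (by rw [finrank_top]; omega)
      obtain ⟨w1, h10, hQ1⟩ : ∃ w1 : V, w1 ≠ 0 ∧ S.Q w1 = 0 := by
        obtain ⟨z, hz, hz0⟩ := Submodule.exists_mem_ne_zero_of_ne_bot (p := S.lperp [w2]) fun e => by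
          have := S.finrank_lperp [w2]; rw [e, finrank_bot] at this; simp at this; omega
        rcases z2 (S.Q z) with h | h
        · exact ⟨z, hz0, h⟩
        · rcases eq_or_ne z w2 with rfl | hne
          · obtain ⟨z', hz', hzS⟩ := SetLike.not_le_iff_exists.1
              fun hle : S.lperp [z] ≤ Submodule.span (ZMod 2) {z} => by
                have h1 := Submodule.finrank_mono hle
                have h2 := finrank_span_le_card (R := ZMod 2) ({z} : Set V)
                have h3 := S.finrank_lperp [z]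
                simp at h2 h3
                omega
            rcases z2 (S.Q z') with h' | h'
            · exact ⟨z', fun e => hzS (e ▸ Submodule.zero_mem _), h'⟩
            · refine ⟨z + z', fun e => hzS ?_, ?_⟩
              · rw [← v_add_eq_zero.1 e]; exact Submodule.mem_span_singleton_self z
              · rw [S.Q_add, h, h', S.mem_lperp.1 hz' z (by simp)]; decide
          · refine ⟨w2 + z, fun e => hne (v_add_eq_zero.1 e).symm, ?_⟩
            rw [S.Q_add, hw2, h, S.mem_lperp.1 hz w2 (by simp)]; decide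
      refine ⟨w1, w2, h10, by rw [hu]; exact h10, fun e => by simp [e, S.Q_zero] at hw2,
        fun e => by simp [e, hu, S.Q_zero] at hw2, fun v hv _ => ?_⟩
      refine ⟨fun e => ?_, fun e => ?_⟩ <;>
      · have he : w1 = v := v_add_eq_zero.1 (by simpa [hu] using e)
        rw [he, hv, hw2] at hQ1
        exact one_ne_zero hQ1
    · have hu0 : u ≠ 0 := fun e => by simp [e, S.Q_zero] at hu
      obtain ⟨w1, hw1⟩ := S.exists_B_one hu0
      obtain ⟨w2, hw2, hw20, hw2u⟩ := H.exists_other (W := S.lperp [u]) (by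
        have := S.finrank_lperp [u]; simp only [List.length_cons, List.length_nil] at this; omega)
      have hB2 : S.B u w2 = 0 := S.mem_lperp.1 hw2 u (by simp)
      refine ⟨w1, w2, fun e => by simp [e] at hw1, fun e => by simp [e, S.B_self] at hw1, hw20, hw2u,
        fun v _ hv => ⟨fun e => ?_, fun e => ?_⟩⟩ <;>
      · have h := congrArg (S.B u) e
        simp only [map_add, _root_.map_zero, S.B_self, hw1, hv, hB2] at h
        exact absurd h (by decide)
  refine eq_top_iff.2 fun h _ => ?_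
  refine H.not_fused h20 h2u ?_
  simpa using H.two_classes h10 h1u h20 h2u hd ⊤ 1 h trivial trivial

end Fus

end CfsgLib.ExtraTypeMax
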