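import Cfsg.Agent.Lib.ExtraTypeMax.Setting
import Cfsg.Agent.Lib.ExtraTypeMax.Fusion
import Cfsg.Agent.Lib.ExtraTypeMax.Block

/-!
An overgroup controlled at every singular vector lies in the normalizer: three fusion arguments.
-/

set_option autoImplicit false
set_option linter.unusedSectionVars false

namespace CfsgLib.ExtraTypeMax

open Matrix CfsgLib.GeomClasses

variable {ι : Type} [Fintype ι] [DecidableEq ι] {F : Type*} [Field F]
  {V : Type*} [AddCommGroup V] [Module (ZMod 2) V]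

theorem neg_one_normal : (Subgroup.zpowers (-1 : GL ι F)).Normal := by
  refine ⟨fun z hz g => ?_⟩
  obtain ⟨n, rfl⟩ := Subgroup.mem_zpowers_iff.1 hz
  rw [((show Commute g (-1) from by simp [Commute, SemiconjBy]).zpow_right n).eq, mul_inv_cancel_right]
  exact hz

theorem pm_iff_quot {g h : GL ι F} :
    PM g h ↔ (g : GL ι F ⧸ Subgroup.zpowers (-1 : GL ι F)) = h := by
  rw [QuotientGroup.eq, Subgroup.mem_zpowers_iff]
  constructor
  · rintro (rfl | rfl)
    · exact ⟨0, by simp⟩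
    · exact ⟨1, by simp⟩
  · rintro ⟨n, hn⟩
    rcases Int.even_or_odd n with ⟨k, rfl⟩ | ⟨k, rfl⟩
    · have e : ((-1 : GL ι F)) ^ (k + k) = 1 := by
        rw [← two_mul, _root_.zpow_mul, zpow_ofNat, neg_one_sq, _root_.one_zpow]
      rw [e] at hn
      exact Or.inl (inv_mul_eq_one.1 hn.symm)
    · have e : ((-1 : GL ι F)) ^ (2 * k + 1) = -1 := by
        rw [_root_.zpow_add, _root_.zpow_mul, zpow_ofNat, neg_one_sq, _root_.one_zpow, one_mul, _root_.zpow_one]
      rw [e] at hn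
      refine Or.inr ?_
      have := congrArg (g * ·) hn
      simp only [mul_neg, mul_one, mul_inv_cancel_left] at this
      rw [← this, neg_neg]

namespace Ext

variable [FiniteDimensional (ZMod 2) V] {S : QS V} {f : (ι → F) → (ι → F) → F} {r : V → GL ι F}
  {G : Subgroup (GL ι F)} (E : Ext S f r G)
include E

theorem conj_B {g : GL ι F} {a b a' b' : V} (ha : PM (g * r a * g⁻¹) (r a'))
    (hb : PM (g * r b * g⁻¹) (r b')) : S.B a b = S.B a' b' := by
  obtain ⟨x, hx⟩ := pm_iff.1 ha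
  obtain ⟨y, hy⟩ := pm_iff.1 hb
  have h : g * (r a * r b * (r a)⁻¹) * g⁻¹ =
      (g * r a * g⁻¹) * (g * r b * g⁻¹) * (g * r a * g⁻¹)⁻¹ := by group
  rw [E.r_conj, hx, show g * (sgn (S.B a b) * r b) * g⁻¹ = sgn (S.B a b) * (g * r b * g⁻¹) by
      rw [← mul_assoc, ← mul_assoc, ← sgn_mul_comm]; group, hy,
    show sgn x * r a' * (sgn y * r b') * (sgn x * r a')⁻¹ = sgn x * (r a' * sgn y * r b' * (r a')⁻¹) * (sgn x)⁻¹ by
      group,
    sgn_mul_comm x, mul_inv_cancel_right, ← sgn_mul_comm y, mul_assoc (sgn y), mul_assoc (sgn y), E.r_conj,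
    ← mul_assoc, ← mul_assoc, ← sgn_add, ← sgn_add] at h
  have := E.sgn_inj (mul_right_cancel h)
  rw [add_comm y] at this
  exact add_right_cancel this

theorem conj_Q {g : GL ι F} {a a' : V} (ha : PM (g * r a * g⁻¹) (r a')) : S.Q a = S.Q a' := by
  obtain ⟨x, hx⟩ := pm_iff.1 ha
  have h : g * (r a * r a) * g⁻¹ = (g * r a * g⁻¹) * (g * r a * g⁻¹) := by group
  rw [E.r_sq, ← sgn_mul_comm, mul_inv_cancel_right, hx, show sgn x * r a' * (sgn x * r a') =
    sgn x * (r a' * sgn x) * r a' by group, ← sgn_mul_comm, ← mul_assoc, sgn_sq, one_mul, E.r_sq] at h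
  exact E.sgn_inj h

theorem conj_add {g : GL ι F} {a a' b b' : V} (ha : PM (g * r a * g⁻¹) (r a')) (hb : PM (g * r b * g⁻¹) (r b')) :
    PM (g * r (a + b) * g⁻¹) (r (a' + b')) := by
  refine (((E.r_add a b).symm).conj g).trans ?_
  rw [show g * (r a * r b) * g⁻¹ = (g * r a * g⁻¹) * (g * r b * g⁻¹) by group]
  exact (ha.mul hb).trans (E.r_add a' b')

theorem conj_smul {g : GL ι F} {a a' : V} (ha : PM (g * r a * g⁻¹) (r a')) (s : ZMod 2) :
    PM (g * r (s • a) * g⁻¹) (r (s • a')) := by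
  rcases z2 s with rfl | rfl
  · simp [E.r_zero, PM.refl]
  · simpa using ha

/-- Transitivity in the stabilizer, fixing a non-degenerate plane. -/
theorem move_plane {u e : V} (hue : S.B u e = 1) {v v' : V} (hv : v ∉ Submodule.span (ZMod 2) ({u, e} : Set V))
    (hv' : v' ∉ Submodule.span (ZMod 2) ({u, e} : Set V)) (hQ : S.Q v = S.Q v')
    (hB : ∀ s ∈ Submodule.span (ZMod 2) ({u, e} : Set V), S.B v s = S.B v' s) :
    ∃ m ∈ E.M, (∀ s ∈ Submodule.span (ZMod 2) ({u, e} : Set V), m * r s = r s * m) ∧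
      PM (m * r v * m⁻¹) (r v') := by
  set U := Submodule.span (ZMod 2) ({u, e} : Set V) with hU
  refine S.reach U hv hv' hQ hB (fun x y _ _ => S.ni_of_plane hue ?_ ?_)
    (fun x => ∃ m ∈ E.M, (∀ s ∈ U, m * r s = r s * m) ∧ PM (m * r v * m⁻¹) (r x)) ?_
    ⟨1, E.M.one_mem, fun _ _ => by simp, by simp [PM]⟩
  · intro w hw
    refine S.mem_lperp.2 fun z hz => hw z (Submodule.mem_sup_left (Submodule.subset_span ?_))
    simpa using hz
  · have h1 := QS.finrank_sup_pair_le U x y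
    have h2 := S.finrank_perp (U ⊔ Submodule.span (ZMod 2) {x, y})
    have h3 : Module.finrank (ZMod 2) U ≤ 2 := by
      have h := QS.finrank_sup_pair_le ⊥ u e
      rwa [bot_sup_eq, finrank_bot] at h
    have := E.eight
    omega
  rintro c d hc hd hcU hdU x ⟨m, hm, hms, hmv⟩
  refine ⟨gp (r c) (r d) * m, E.M.mul_mem (E.gp_mem_M hc hd (PM.refl _) (PM.refl _)) hm, fun s hs => ?_, ?_⟩
  · rw [mul_assoc, hms s hs, ← mul_assoc,
      E.gp_commute hc hd (PM.refl _) (PM.refl _) (by rw [S.B_comm]; exact hcU s hs)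
        (by rw [S.B_comm]; exact hdU s hs), mul_assoc]
  · have h := ((hmv.conj (gp (r c) (r d))).trans (E.gp_conj hc hd (PM.refl _) (PM.refl _) x))
    simpa [mul_assoc] using h

variable [Fintype F] {X : Subgroup (GL ι F)} (hMX : E.M ≤ X) (hXG : X ≤ G)
include hMX hXG

/-- One fusion argument. -/
theorem le_M_of_fus (Y : Subgroup (GL ι F)) (hYX : Y ≤ X) (W : Submodule (ZMod 2) V)
    (hW : ∀ x ∈ W, (∀ y ∈ W, S.B x y = 0) → x = 0) (six : 6 ≤ Module.finrank (ZMod 2) W)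
    (hmem : ∀ w ∈ W, r w ∈ Y) (hker : ∀ z, r z ∈ Y → z ∈ W)
    (hact : ∀ m ∈ Y, ∀ θ, Ind r m θ → ∀ w ∈ W, θ w ∈ W)
    (hext : ∀ m ∈ Y, ∀ θ, Ind r m θ → (∀ w ∈ W, θ w = w) → ∀ v, θ v = v)
    (u : W) (hu : u = 0 ∨ S.Q (u : V) = 1) (hcent : ∀ g ∈ Y, PM (g * r (u : V) * g⁻¹) (r (u : V)))
    (hctrl : ∀ w : W, w ≠ 0 → w ≠ u → ∀ g ∈ Y, PM (g * r (w : V) * g⁻¹) (r (w : V)) → g ∈ E.M)
    (htrans : ∀ v v' : W, v ≠ 0 → v ≠ u → v' ≠ 0 → v' ≠ u → S.Q (v : V) = S.Q (v' : V) →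
      S.B (u : V) v = S.B (u : V) v' → ∃ m ∈ E.M, m ∈ Y ∧ PM (m * r (v : V) * m⁻¹) (r (v' : V))) :
    Y ≤ E.M := by
  classical
  have := neg_one_normal (ι := ι) (F := F)
  set φ := QuotientGroup.mk' (Subgroup.zpowers (-1 : GL ι F)) with hφ
  have hPM : ∀ {g h : GL ι F}, PM g h ↔ φ g = φ h := pm_iff_quot
  have hneg : (-1 : GL ι F) ∈ Y := by
    obtain ⟨c, -, hc⟩ := (S.restrict W hW).exists_Q_one (W := ⊤) ((S.restrict W hW).ni_of_lt (by
      rw [finrank_top]; omega))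
    rw [QS.restrict_Q] at hc
    have := Y.mul_mem (hmem c c.2) (hmem c c.2)
    rwa [E.r_sq, hc, sgn_one] at this
  have hM1 : (-1 : GL ι F) ∈ E.M := E.R_le_M (by simpa using E.sgn_mem_R 1)
  let i : W → Y.map φ := fun w => ⟨φ (r (w : V)), Subgroup.mem_map_of_mem φ (hmem w w.2)⟩
  have hi : ∀ {w : W} {g : GL ι F}, φ g = (i w : _) ↔ PM g (r (w : V)) := fun {w g} => hPM.symm
  have lift : ∀ x : Y.map φ, ∃ g ∈ Y, φ g = (x : GL ι F ⧸ _) := fun x => Subgroup.mem_map.1 x.2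
  have conjf : ∀ {x : Y.map φ} {g : GL ι F}, φ g = (x : GL ι F ⧸ _) → ∀ {v v' : W},
      (x * i v * x⁻¹ = i v' ↔ PM (g * r (v : V) * g⁻¹) (r (v' : V))) := fun {x g} hg {v v'} => by
    rw [Subtype.ext_iff, Subgroup.coe_mul, Subgroup.coe_mul, Subgroup.coe_inv, ← hg, hPM,
      map_mul, map_mul, map_inv]
  let M' : Subgroup (Y.map φ) := (E.M.map φ).subgroupOf (Y.map φ)
  have hM' : ∀ {x : Y.map φ} {g : GL ι F}, φ g = (x : GL ι F ⧸ _) → (x ∈ M' ↔ g ∈ E.M) := fun {x g} hg => by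
    rw [Subgroup.mem_subgroupOf, ← hg, Subgroup.mem_map]
    refine ⟨fun ⟨m, hm, e⟩ => ?_, fun h => ⟨g, h, rfl⟩⟩
    rcases (hPM.2 e).symm with e | e <;> rw [e]
    · exact hm
    · rw [← neg_one_mul m]; exact E.M.mul_mem hM1 hm
  have H : Fus (S.restrict W hW) M' i u := by
    refine ⟨six, fun a b => Subtype.ext ?_, fun a b h => ?_, fun v => (hM' (g := r (v : V)) rfl).2
      (E.R_le_M (E.r_mem_R _)), fun x hx v => ?_, fun x hx hfix => ?_, ?_, fun x => ?_, fun w h0 hu' x hx => ?_,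
      fun x v v' h => ?_, fun v v' h1 h2 h3 h4 hQ hB => ?_, fun hu0 x hx y v' hB e w hw => ?_⟩
    · show φ (r ((a + b : W) : V)) = φ (r (a : V)) * φ (r (b : V))
      rw [← map_mul, ← hPM, Submodule.coe_add]
      exact (E.r_add _ _).symm
    · exact Subtype.ext (E.r_inj (hPM.2 (Subtype.ext_iff.1 h)))
    · obtain ⟨g, hgY, hg⟩ := lift x
      obtain ⟨θ, hθ⟩ := E.exists_ind ((hM' hg).1 hx).1
      exact ⟨⟨θ v, hact g hgY θ hθ v v.2⟩, (conjf hg).2 (hθ v)⟩
    · obtain ⟨g, hgY, hg⟩ := lift x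
      obtain ⟨θ, hθ⟩ := E.exists_ind ((hM' hg).1 hx).1
      have hfw : ∀ w ∈ W, θ w = w := fun w hw => by
        have h := hfix ⟨w, hw⟩
        rw [← mul_inv_eq_iff_eq_mul, conjf hg] at h
        exact E.r_inj ((hθ w).symm.trans h)
      have hid : θ = id := funext (hext g hgY θ hθ hfw)
      rw [hid] at hθ
      obtain ⟨z, hz⟩ := E.mem_R.1 (E.mem_R_of_fix (E.gIso g (hXG (hYX hgY))) hθ)
      have hzY : r z ∈ Y := by
        rcases hz.symm with e | e <;> rw [e]
        · exact hgY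
        · rw [← neg_one_mul g]; exact Y.mul_mem hneg hgY
      exact ⟨⟨z, hker z hzY⟩, Subtype.ext (hg ▸ hi.2 hz)⟩
    · exact hu
    · obtain ⟨g, hgY, hg⟩ := lift x
      rw [← mul_inv_eq_iff_eq_mul, conjf hg]
      exact hcent g hgY
    · obtain ⟨g, hgY, hg⟩ := lift x
      rw [← mul_inv_eq_iff_eq_mul, conjf hg] at hx
      exact (hM' hg).2 (hctrl w h0 hu' g hgY hx)
    · obtain ⟨g, hgY, hg⟩ := lift x
      have h' := (conjf hg).1 h
      exact ⟨E.conj_Q h', E.conj_B (hcent g hgY) h'⟩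
    · obtain ⟨m, hm, hmY, e⟩ := htrans v v' h1 h2 h3 h4 hQ hB
      exact ⟨⟨φ m, Subgroup.mem_map_of_mem φ hmY⟩, (hM' rfl).2 hm, (conjf rfl).2 e⟩
    · obtain ⟨g, hgY, hg⟩ := lift y
      set z := g * r (v' : V) * g⁻¹ with hz
      have hzx : φ z = (x : GL ι F ⧸ _) := by
        rw [e, Subgroup.coe_mul, Subgroup.coe_mul, Subgroup.coe_inv, ← hg, hz, map_mul, map_mul, map_inv]
      have hzY : z ∈ Y := Y.mul_mem (Y.mul_mem hgY (hmem _ v'.2)) (Y.inv_mem hgY)
      have hzu : Commute z (r (u : V)) := by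
        have h : Commute (g * r (v' : V) * g⁻¹) (g * r (u : V) * g⁻¹) :=
          (Commute.conj_iff g).2 (E.r_comm0 (by rw [S.B_comm]; exact hB))
        rcases hcent g hgY with e' | e' <;> rw [e'] at h
        · exact h
        · exact Commute.neg_right_iff.1 h
      have hz2 : z * z = sgn (S.Q (v' : V)) := by
        rw [hz, show g * r (v' : V) * g⁻¹ * (g * r (v' : V) * g⁻¹) = g * (r (v' : V) * r (v' : V)) * g⁻¹ by group,
          E.r_sq, ← sgn_mul_comm, mul_inv_cancel_right]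
      obtain ⟨s, hs⟩ := pm_iff.1 ((conjf hzx).1 hw)
      obtain ⟨t, ht⟩ := pm_iff.1 (E.r_add (w : V) (u : V)).symm
      rw [Submodule.coe_add, ht, ← mul_assoc, ← sgn_add] at hs
      have huQ : S.Q (u : V) = 1 := hu.resolve_left hu0
      set σ : GL ι F := sgn (s + t) with hσ
      have h2 : z * (z * r (w : V) * z⁻¹) * z⁻¹ = -r (w : V) := by
        calc z * (z * r (w : V) * z⁻¹) * z⁻¹
            = (z * σ) * (r (w : V) * r (u : V)) * z⁻¹ := by rw [hs]; group
          _ = σ * ((z * r (w : V) * z⁻¹) * (z * r (u : V) * z⁻¹)) := by rw [hσ, ← sgn_mul_comm]; group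
          _ = σ * σ * (r (w : V) * r (u : V) * r (u : V)) := by
            rw [hs, hzu.eq, mul_inv_cancel_right]; group
          _ = _ := by rw [hσ, sgn_sq, one_mul, mul_assoc, E.r_sq, huQ, sgn_one, mul_neg_one]
      rw [show z * (z * r (w : V) * z⁻¹) * z⁻¹ = (z * z) * r (w : V) * (z * z)⁻¹ by group, hz2, sgn_mul_comm,
        mul_inv_cancel_right] at h2
      exact E.neg_ne _ h2.symm
  intro g hg
  have := H.eq_top
  exact (hM' (x := ⟨φ g, Subgroup.mem_map_of_mem φ hg⟩) rfl).1 (by rw [this]; trivial)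

variable (hsing : ∀ a, S.Q a = 0 → a ≠ 0 → ∀ g ∈ X, g * r a = r a * g → g ∈ E.M)
include hsing

theorem mem_M_singular {a : V} (hQ : S.Q a = 0) (ha : a ≠ 0) {g : GL ι F} (hg : g ∈ X)
    (h : PM (g * r a * g⁻¹) (r a)) : g ∈ E.M := by
  obtain ⟨x, hx⟩ := pm_iff.1 h
  rcases z2 x with rfl | rfl
  · rw [sgn_zero, one_mul, mul_inv_eq_iff_eq_mul] at hx
    exact hsing a hQ ha g hg hx
  obtain ⟨b, hb⟩ := S.exists_B_one ha
  have hrb : r b ∈ E.M := E.R_le_M (E.r_mem_R b)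
  have h1 : g * r b * r a * (g * r b)⁻¹ = r a := by
    rw [show g * r b * r a * (g * r b)⁻¹ = g * (r b * r a * (r b)⁻¹) * g⁻¹ by group, E.r_conj, S.B_comm, hb,
      ← mul_assoc, ← sgn_mul_comm, mul_assoc (sgn (1 : ZMod 2)), mul_assoc (sgn (1 : ZMod 2)), hx, ← mul_assoc,
      sgn_sq, one_mul]
  rw [mul_inv_eq_iff_eq_mul] at h1
  have h2 := hsing a hQ ha _ (X.mul_mem hg (hMX hrb)) h1
  have := E.M.mul_mem h2 (E.M.inv_mem hrb)
  simpa using this

theorem mem_M_pair {u e : V} (hu : S.Q u = 1) (he : S.Q e = 1) (hue : S.B u e = 1) {g : GL ι F} (hg : g ∈ X)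
    (h1 : PM (g * r u * g⁻¹) (r u)) (h2 : PM (g * r e * g⁻¹) (r e)) : g ∈ E.M := by
  have heu : S.B e u = 1 := by rw [S.B_comm, hue]
  set W := S.lperp [u, e] with hWdef
  have hdec : ∀ z, ∃ w ∈ W, z = w + (S.B z e • u + S.B z u • e) := fun z => by
    refine ⟨z + (S.B z e • u + S.B z u • e), S.mem_lperp.2 fun y hy => ?_, ?_⟩
    · simp only [List.mem_cons, List.not_mem_nil, or_false] at hy
      rcases hy with hy | hy <;> rw [hy] <;>
        simp [S.B_self, hue, heu, S.B_comm u z, S.B_comm e z, CharTwo.add_self_eq_zero]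
    · rw [add_assoc, v_add_self, add_zero]
  have hperp : ∀ w ∈ W, S.B u w = 0 ∧ S.B e w = 0 := fun w hw =>
    ⟨S.mem_lperp.1 hw u (by simp), S.mem_lperp.1 hw e (by simp)⟩
  let Y : Subgroup (GL ι F) := X ⊓ Subgroup.centralizer {r u, r e}
  have hY : ∀ {g : GL ι F}, g ∈ Y ↔ g ∈ X ∧ g * r u = r u * g ∧ g * r e = r e * g := by
    intro g
    simp only [Y, Subgroup.mem_inf, Subgroup.mem_centralizer_iff, Set.mem_insert_iff, Set.mem_singleton_iff,
      forall_eq_or_imp, forall_eq]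
    exact ⟨fun h => ⟨h.1, h.2.1.symm, h.2.2.symm⟩, fun h => ⟨h.1, h.2.1.symm, h.2.2.symm⟩⟩
  have hfixu : ∀ m ∈ Y, ∀ θ, Ind r m θ → θ u = u ∧ θ e = e := fun m hm θ hθ => by
    obtain ⟨-, a1, a2⟩ := hY.1 hm
    constructor
    · refine E.r_inj ((hθ u).symm.trans ?_); rw [a1, mul_inv_cancel_right]; exact PM.refl _
    · refine E.r_inj ((hθ e).symm.trans ?_); rw [a2, mul_inv_cancel_right]; exact PM.refl _
  have hYM : Y ≤ E.M := by
    refine E.le_M_of_fus hMX hXG Y inf_le_left W (fun x hx hx' => S.nondeg x fun z => ?_) ?_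
      (fun w hw => hY.2 ⟨hMX (E.R_le_M (E.r_mem_R w)), E.r_comm0 (by rw [S.B_comm]; exact (hperp w hw).1),
        E.r_comm0 (by rw [S.B_comm]; exact (hperp w hw).2)⟩)
      (fun z hz => ?_) (fun m hm θ hθ w hw => ?_) (fun m hm θ hθ hfix v => ?_) 0 (Or.inl rfl)
      (fun g _ => by simp [E.r_zero, PM.refl]) (fun w hw0 _ g hg hgw => ?_) (fun v v' hv _ hv' _ hQ _ => ?_)
    · obtain ⟨w, hw, e'⟩ := hdec z
      rw [e']
      simp [hx' w hw, S.B_comm x u, S.B_comm x e, (hperp x hx).1, (hperp x hx).2]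
    · have := S.finrank_lperp [u, e]; have := E.eight
      simp only [List.length_cons, List.length_nil] at *
      rw [hWdef]; omega
    · obtain ⟨-, a1, a2⟩ := hY.1 hz
      refine S.mem_lperp.2 fun y hy => ?_
      simp only [List.mem_cons, List.not_mem_nil, or_false] at hy
      have key : ∀ y, r z * r y = r y * r z → S.B y z = 0 := fun y h => by
        rw [S.B_comm]
        refine E.sgn_inj (x := S.B z y) (y := 0) (mul_right_cancel (b := r y * r z) ?_)
        rw [← E.r_comm, h, sgn_zero, one_mul]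
      rcases hy with hy | hy <;> subst hy
      · exact key _ a1
      · exact key _ a2
    · obtain ⟨f1, f2⟩ := hfixu m hm θ hθ
      refine S.mem_lperp.2 fun y hy => ?_
      simp only [List.mem_cons, List.not_mem_nil, or_false] at hy
      rcases hy with hy | hy <;> subst hy
      · rw [← f1, ← E.conj_B (hθ _) (hθ w)]; exact (hperp w hw).1
      · rw [← f2, ← E.conj_B (hθ _) (hθ w)]; exact (hperp w hw).2
    · obtain ⟨f1, f2⟩ := hfixu m hm θ hθ
      obtain ⟨w, hw, e'⟩ := hdec v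
      have hs : ∀ (s : ZMod 2) x, θ x = x → θ (s • x) = s • x := fun s x hx =>
        E.r_inj ((hθ _).symm.trans (by have := E.conj_smul (hθ x) s; rwa [hx] at this))
      rw [e', E.ind_add hθ, E.ind_add hθ, hfix w hw, hs _ _ f1, hs _ _ f2]
    · obtain ⟨hgX, a1, -⟩ := hY.1 hg
      rcases z2 (S.Q (w : V)) with hq | hq
      · exact E.mem_M_singular hMX hXG hsing hq (fun e0 => hw0 (Subtype.ext e0)) hgX hgw
      · refine E.mem_M_singular hMX hXG hsing (a := (w : V) + u) ?_ (fun e0 => ?_) hgX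
          (E.conj_add hgw (by rw [a1, mul_inv_cancel_right]; exact PM.refl _))
        · rw [S.Q_add, hq, hu, S.B_comm, (hperp _ w.2).1, add_zero, CharTwo.add_self_eq_zero]
        · have h1 := (hperp _ w.2).2
          rw [v_add_eq_zero.1 e0, heu] at h1
          exact one_ne_zero h1
    · have hnot : ∀ x ∈ W, x ≠ 0 → x ∉ Submodule.span (ZMod 2) ({u, e} : Set V) := fun x hx hx0 hm => by
        obtain ⟨s, t, hst⟩ := Submodule.mem_span_pair.1 hm
        obtain ⟨b1, b2⟩ := hperp x hx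
        rw [← hst] at b1 b2 hx0
        simp [S.B_self, hue, heu] at b1 b2
        exact hx0 (by simp [b1, b2])
      obtain ⟨m, hm, hms, hmv⟩ := E.move_plane hue (v := (v : V)) (v' := (v' : V))
        (hnot v v.2 fun e0 => hv (Subtype.ext e0)) (hnot v' v'.2 fun e0 => hv' (Subtype.ext e0)) hQ fun s hs => by
          obtain ⟨x, y, hxy⟩ := Submodule.mem_span_pair.1 hs
          subst hxy
          simp [S.B_comm (v : V) u, S.B_comm (v : V) e, S.B_comm (v' : V) u, S.B_comm (v' : V) e,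
            (hperp _ v.2).1, (hperp _ v.2).2, (hperp _ v'.2).1, (hperp _ v'.2).2]
      exact ⟨m, hm, hY.2 ⟨hMX hm, hms u (Submodule.subset_span (by simp)), hms e (Submodule.subset_span (by simp))⟩,
        hmv⟩
  obtain ⟨x, hx⟩ := pm_iff.1 h1
  obtain ⟨y, hy⟩ := pm_iff.1 h2
  set c := y • u + x • e with hc
  have hrc : r c ∈ E.M := E.R_le_M (E.r_mem_R c)
  have hconj : ∀ (a : V) (s : ZMod 2), g * r a * g⁻¹ = sgn s * r a → S.B c a = s →
      g * r c * r a = r a * (g * r c) := fun a s ha hs => by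
    rw [← mul_inv_eq_iff_eq_mul, show g * r c * r a * (g * r c)⁻¹ = g * (r c * r a * (r c)⁻¹) * g⁻¹ by group,
      E.r_conj, hs, ← mul_assoc g, ← sgn_mul_comm, mul_assoc (sgn s), mul_assoc (sgn s), ha, ← mul_assoc, sgn_sq,
      one_mul]
  have hmem := hYM (hY.2 ⟨X.mul_mem hg (hMX hrc), hconj u x hx (by simp [hc, S.B_self, heu]),
    hconj e y hy (by simp [hc, S.B_self, hue])⟩)
  have := E.M.mul_mem hmem (E.M.inv_mem hrc)
  simpa using this

theorem top_nondeg : ∀ x ∈ (⊤ : Submodule (ZMod 2) V), (∀ y ∈ (⊤ : Submodule (ZMod 2) V), S.B x y = 0) → x = 0 :=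
  fun x _ h => S.nondeg x fun y => h y trivial

theorem mem_M_nonsingular {u : V} (hu : S.Q u = 1) {g : GL ι F} (hg : g ∈ X)
    (h : PM (g * r u * g⁻¹) (r u)) : g ∈ E.M := by
  let Y : Subgroup (GL ι F) :=
    { carrier := {g | g ∈ X ∧ PM (g * r u * g⁻¹) (r u)}
      one_mem' := ⟨X.one_mem, by simp [PM.refl]⟩
      mul_mem' := fun {a b} ha hb => ⟨X.mul_mem ha.1 hb.1, by
        rw [show a * b * r u * (a * b)⁻¹ = a * (b * r u * b⁻¹) * a⁻¹ by group]
        exact (hb.2.conj a).trans ha.2⟩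
      inv_mem' := fun {a} ha => ⟨X.inv_mem ha.1, by
        have h' := (ha.2.conj a⁻¹).symm
        rwa [show a⁻¹ * (a * r u * a⁻¹) * a⁻¹⁻¹ = r u by group] at h'⟩ }
  have hYM : Y ≤ E.M := by
    refine E.le_M_of_fus hMX hXG Y (fun _ hx => hx.1) ⊤ (E.top_nondeg hMX hXG hsing) ?_ (fun w _ => ⟨hMX (E.R_le_M (E.r_mem_R w)), ?_⟩)
      (fun _ _ => trivial) (fun _ _ _ _ _ _ => trivial) (fun _ _ _ _ hf v => hf v trivial) ⟨u, trivial⟩ (Or.inr hu)
      (fun _ hg => hg.2) (fun w h0 hwu g hg hgw => ?_) (fun v v' h1 h2 h3 h4 hQ hB => ?_)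
    · rw [finrank_top]; have := E.eight; omega
    · rw [E.r_conj]; exact pm_iff.2 ⟨_, rfl⟩
    · have h0' : (w : V) ≠ 0 := fun e => h0 (Subtype.ext e)
      have hu' : (w : V) ≠ u := fun e => hwu (Subtype.ext e)
      rcases z2 (S.Q (w : V)) with hq | hq
      · exact E.mem_M_singular hMX hXG hsing hq h0' hg.1 hgw
      rcases z2 (S.B u (w : V)) with hb | hb
      · exact E.mem_M_singular hMX hXG hsing (a := u + (w : V))
          (by rw [S.Q_add, hu, hq, hb, add_zero, CharTwo.add_self_eq_zero])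
          (fun e => hu' (v_add_eq_zero.1 e).symm) hg.1 (E.conj_add hg.2 hgw)
      · exact E.mem_M_pair hMX hXG hsing hu hq hb hg.1 hg.2 hgw
    · have hnot : ∀ x : (⊤ : Submodule (ZMod 2) V), x ≠ 0 → x ≠ ⟨u, trivial⟩ →
          (x : V) ∉ Submodule.span (ZMod 2) {u} := fun x hx hxu hm => by
        obtain ⟨s, hs⟩ := Submodule.mem_span_singleton.1 hm
        rcases z2 s with rfl | rfl <;> simp at hs
        · exact hx (Subtype.ext hs.symm)
        · exact hxu (Subtype.ext hs.symm)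
      obtain ⟨m, hm, hms, hmv⟩ := E.move (Submodule.span (ZMod 2) {u}) (v := (v : V)) (v' := (v' : V)) (by
          have h := QS.finrank_sup_pair_le ⊥ u u
          rw [bot_sup_eq, finrank_bot, Set.pair_eq_singleton] at h
          have := finrank_span_le_card (R := ZMod 2) ({u} : Set V)
          simp at this
          have := E.eight
          omega) (hnot v h1 h2) (hnot v' h3 h4) hQ fun s hs => by
        obtain ⟨x, rfl⟩ := Submodule.mem_span_singleton.1 hs
        rw [map_smul, map_smul, S.B_comm, hB, S.B_comm]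
      refine ⟨m, hm, ⟨hMX hm, ?_⟩, hmv⟩
      rw [hms u (Submodule.mem_span_singleton_self u), mul_inv_cancel_right]
      exact PM.refl _
  exact hYM ⟨hg, h⟩

/-- The overgroup is the normalizer. -/
theorem le_M : X ≤ E.M := by
  refine E.le_M_of_fus hMX hXG X le_rfl ⊤ (E.top_nondeg hMX hXG hsing) ?_
    (fun w _ => hMX (E.R_le_M (E.r_mem_R w)))
    (fun _ _ => trivial) (fun _ _ _ _ _ _ => trivial) (fun _ _ _ _ hf v => hf v trivial) 0 (Or.inl rfl)
    (fun g _ => by simp [E.r_zero, PM.refl]) (fun w h0 _ g hg hgw => ?_) (fun v v' h1 _ h3 _ hQ _ => ?_)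
  · rw [finrank_top]; have := E.eight; omega
  · rcases z2 (S.Q (w : V)) with hq | hq
    · exact E.mem_M_singular hMX hXG hsing hq (fun e => h0 (Subtype.ext e)) hg hgw
    · exact E.mem_M_nonsingular hMX hXG hsing hq hg hgw
  · obtain ⟨m, hm, -, hmv⟩ := E.move ⊥ (v := (v : V)) (v' := (v' : V)) (by
        rw [finrank_bot]; have := E.eight; omega)
      (fun e => h1 (Subtype.ext ((Submodule.mem_bot _).1 e)))
      (fun e => h3 (Subtype.ext ((Submodule.mem_bot _).1 e))) hQ (fun s hs => by simp [(Submodule.mem_bot _).1 hs])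
    exact ⟨m, hm, hMX hm, hmv⟩

end Ext

end CfsgLib.ExtraTypeMax
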