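import Cfsg.Agent.Lib.ExtraTypeMax.Gates
import Cfsg.Agent.Lib.ExtraTypeMax.Control

/-!
An overgroup not contained in the normalizer has all gates.
-/

set_option autoImplicit false
set_option linter.unusedSectionVars false

namespace CfsgLib.ExtraTypeMax

open Matrix CfsgLib.GeomClasses

variable {ι : Type} [Fintype ι] [DecidableEq ι] {F : Type*} [Field F] [Fintype F]
  {V : Type*} [AddCommGroup V] [Module (ZMod 2) V] [FiniteDimensional (ZMod 2) V]
  {S : QS V} {f : (ι → F) → (ι → F) → F} {r : V → GL ι F} {G : Subgroup (GL ι F)}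

/-- An overgroup of the normalizer is either the normalizer or has the gates. -/
theorem Ext.gate2_of_not_le (E : Ext S f r G) {X : Subgroup (GL ι F)} (hMX : E.M ≤ X) (hXG : X ≤ G)
    (hne : ¬ X ≤ E.M) : Gate2 S r X := by
  by_contra hG
  refine hne (E.le_M hMX hXG fun a hQ ha g hg hga => ?_)
  by_contra hgM
  exact hG (E.gate2 hMX hXG hQ ha hg hga hgM)

end CfsgLib.ExtraTypeMax
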