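import Mathlib

/-!
Quadratic spaces over the field with two elements: transvections, transitivity by pairs of transvections,
normalized subgroups, parity of the radical of an alternating form.
-/

set_option autoImplicit false
set_option linter.unusedSectionVars false

namespace CfsgLib.ExtraTypeMax

variable {V : Type*} [AddCommGroup V] [Module (ZMod 2) V]

theorem z2 (x : ZMod 2) : x = 0 ∨ x = 1 := by revert x; decide

theorem z2_ne_zero {x : ZMod 2} : x ≠ 0 ↔ x = 1 := by revert x; decide

theorem z2_ne_one {x : ZMod 2} : x ≠ 1 ↔ x = 0 := by revert x; decide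

theorem v_add_self (x : V) : x + x = 0 := by
  rw [← two_smul (ZMod 2), show (2 : ZMod 2) = 0 from rfl, zero_smul]

theorem v_neg (x : V) : -x = x := neg_eq_of_add_eq_zero_right (v_add_self x)

theorem v_add_eq_zero {x y : V} : x + y = 0 ↔ x = y := by
  rw [add_eq_zero_iff_eq_neg, v_neg]

theorem v_add_add_cancel (x y : V) : x + (x + y) = y := by rw [← add_assoc, v_add_self, zero_add]

/-- An alternating form has a radical of the parity of the dimension. -/
theorem radical_parity [FiniteDimensional (ZMod 2) V] (T : V →ₗ[ZMod 2] V →ₗ[ZMod 2] ZMod 2)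
    (hT : ∀ x, T x x = 0) (W : Submodule (ZMod 2) V) :
    Module.finrank (ZMod 2) W % 2 =
      Module.finrank (ZMod 2) ↥(W ⊓ LinearMap.BilinForm.orthogonal T W) % 2 := by
  have hsymm : ∀ x y, T x y = T y x := fun x y => by
    have h := hT (x + y)
    simp only [map_add, LinearMap.add_apply, hT, zero_add, add_zero] at h
    rw [add_eq_zero_iff_eq_neg, CharTwo.neg_eq] at h
    exact h.symm
  induction hn : Module.finrank (ZMod 2) W using Nat.strong_induction_on generalizing W with
  | _ n ih =>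
  by_cases h0 : ∀ x ∈ W, ∀ y ∈ W, T x y = 0
  · rw [inf_eq_left.2 (fun y hy => LinearMap.BilinForm.mem_orthogonal_iff.2 fun x hx => h0 x hx y hy), hn]
  push Not at h0
  obtain ⟨x, hx, y, hy, hxy⟩ := h0
  rw [z2_ne_zero] at hxy
  let φ : W →ₗ[ZMod 2] ZMod 2 × ZMod 2 := ((T x).prod (T y)).comp W.subtype
  have hφ : Function.Surjective φ := fun p => ⟨⟨p.1 • y + p.2 • x, W.add_mem (W.smul_mem _ hy) (W.smul_mem _ hx)⟩, by
    simp [φ, hT, hxy, hsymm y x]⟩
  set W' := (LinearMap.ker φ).map W.subtype with hW'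
  have hdim : Module.finrank (ZMod 2) W' + 2 = Module.finrank (ZMod 2) W := by
    have h := LinearMap.finrank_range_add_finrank_ker φ
    rw [LinearMap.range_eq_top.2 hφ, finrank_top, Module.finrank_prod, Module.finrank_self] at h
    have h' := (Submodule.equivMapOfInjective W.subtype (Submodule.injective_subtype W) (LinearMap.ker φ)).finrank_eq
    rw [← hW'] at h'
    omega
  have mem : ∀ z, z ∈ W' ↔ z ∈ W ∧ T x z = 0 ∧ T y z = 0 := fun z => by
    constructor
    · rintro ⟨w, hw, rfl⟩
      exact ⟨w.2, congrArg Prod.fst (LinearMap.mem_ker.1 hw), congrArg Prod.snd (LinearMap.mem_ker.1 hw)⟩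
    · rintro ⟨h1, h2, h3⟩
      exact ⟨⟨z, h1⟩, LinearMap.mem_ker.2 (Prod.ext h2 h3), rfl⟩
  have hrad : W' ⊓ LinearMap.BilinForm.orthogonal T W' = W ⊓ LinearMap.BilinForm.orthogonal T W := by
    ext z
    simp only [Submodule.mem_inf, LinearMap.BilinForm.mem_orthogonal_iff, LinearMap.BilinForm.isOrtho_def]
    constructor
    · rintro ⟨h1, h2⟩
      obtain ⟨hzW, hzx, hzy⟩ := (mem z).1 h1
      refine ⟨hzW, fun w hw => ?_⟩
      have hw' : w + T y w • x + T x w • y ∈ W' := (mem _).2
        ⟨W.add_mem (W.add_mem hw (W.smul_mem _ hx)) (W.smul_mem _ hy), by simp [hT, hxy, CharTwo.add_self_eq_zero],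
          by simp [hT, hsymm y x, hxy, CharTwo.add_self_eq_zero]⟩
      simpa [hzx, hzy] using h2 _ hw'
    · rintro ⟨h1, h2⟩
      exact ⟨(mem z).2 ⟨h1, h2 x hx, h2 y hy⟩, fun w hw => h2 w ((mem w).1 hw).1⟩
  have := ih _ (by omega) W' rfl
  rw [hrad] at this
  omega

/-- A non-degenerate quadratic form over the field with two elements. -/
structure QS (V : Type*) [AddCommGroup V] [Module (ZMod 2) V] where
  Q : V → ZMod 2
  B : V →ₗ[ZMod 2] V →ₗ[ZMod 2] ZMod 2
  Q_add : ∀ x y, Q (x + y) = Q x + Q y + B x y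
  nondeg : ∀ x, (∀ y, B x y = 0) → x = 0

namespace QS

variable (S : QS V)

theorem Q_zero : S.Q 0 = 0 := by
  have h := S.Q_add 0 0
  rcases z2 (S.Q 0) with h1 | h1 <;> simp [h1] at h ⊢

theorem B_self (x : V) : S.B x x = 0 := by
  have h := S.Q_add x x
  rw [v_add_self, Q_zero, CharTwo.add_self_eq_zero, zero_add] at h
  exact h.symm

theorem B_comm (x y : V) : S.B x y = S.B y x := by
  have h1 := S.Q_add x y
  have h2 := S.Q_add y x
  rw [add_comm y x, h1, add_comm (S.Q y)] at h2
  exact add_left_cancel h2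

theorem B_add_self_left (x y : V) : S.B (x + y) x = S.B x y := by
  rw [map_add, LinearMap.add_apply, B_self, zero_add, B_comm]

theorem Q_smul (s : ZMod 2) (x : V) : S.Q (s • x) = s * S.Q x := by
  rcases z2 s with rfl | rfl <;> simp [Q_zero]

/-- The orthogonal subspace. -/
def perp (U : Submodule (ZMod 2) V) : Submodule (ZMod 2) V := LinearMap.BilinForm.orthogonal S.B U

theorem mem_perp {U : Submodule (ZMod 2) V} {x : V} : x ∈ S.perp U ↔ ∀ y ∈ U, S.B y x = 0 := Iff.rfl

theorem mem_perp_span {A : Set V} {x : V} :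
    x ∈ S.perp (Submodule.span (ZMod 2) A) ↔ ∀ y ∈ A, S.B y x = 0 := by
  refine ⟨fun h y hy => h y (Submodule.subset_span hy), fun h y hy => ?_⟩
  induction hy using Submodule.span_induction with
  | mem z hz => exact h z hz
  | zero => simp [LinearMap.BilinForm.isOrtho_def]
  | add a b _ _ ha hb => simp_all [LinearMap.BilinForm.isOrtho_def]
  | smul s a _ ha => simp_all [LinearMap.BilinForm.isOrtho_def]

variable [FiniteDimensional (ZMod 2) V]

theorem bil_nondegenerate : LinearMap.BilinForm.Nondegenerate (S.B : LinearMap.BilinForm (ZMod 2) V) :=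
  ⟨fun x hx => S.nondeg x hx, fun x hx => S.nondeg x fun y => by rw [S.B_comm]; exact hx y⟩

theorem finrank_perp (U : Submodule (ZMod 2) V) :
    Module.finrank (ZMod 2) (S.perp U) + Module.finrank (ZMod 2) U = Module.finrank (ZMod 2) V := by
  have h := LinearMap.BilinForm.finrank_orthogonal S.bil_nondegenerate U
  have h2 := U.finrank_le
  rw [perp, h]
  omega

theorem perp_perp (U : Submodule (ZMod 2) V) : S.perp (S.perp U) = U :=
  LinearMap.BilinForm.orthogonal_orthogonal S.bil_nondegenerate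
    (fun x y h => by rw [S.B_comm]; exact h) U

include S in
theorem even_finrank : Even (Module.finrank (ZMod 2) V) := by
  have h := radical_parity S.B S.B_self (⊤ : Submodule (ZMod 2) V)
  have hbot : ((⊤ : Submodule (ZMod 2) V) ⊓ LinearMap.BilinForm.orthogonal S.B ⊤) = ⊥ :=
    (Submodule.eq_bot_iff _).2 fun x hx => S.nondeg x fun y => by
      rw [S.B_comm]; exact hx.2 y trivial
  rw [hbot, finrank_bot, finrank_top] at h
  exact Nat.even_iff.2 (by omega)

theorem repr (U : Submodule (ZMod 2) V) (φ : U →ₗ[ZMod 2] ZMod 2) : ∃ z, ∀ x : U, φ x = S.B x z := by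
  obtain ⟨ψ, hψ⟩ := LinearMap.exists_extend φ
  obtain ⟨z, hz⟩ := (LinearMap.BilinForm.toDual (S.B : LinearMap.BilinForm (ZMod 2) V) S.bil_nondegenerate).surjective ψ
  refine ⟨z, fun x => ?_⟩
  rw [← hψ, ← hz, S.B_comm]
  rfl

theorem sep {U : Submodule (ZMod 2) V} {x : V} (hx : x ∉ U) :
    ∃ μ ∈ S.perp U, S.B x μ = 1 := by
  by_contra hc
  push Not at hc
  refine hx ?_
  rw [← S.perp_perp U]
  exact fun y hy => by
    show S.B y x = 0
    rw [S.B_comm]
    exact z2_ne_one.1 (hc y hy)

theorem finrank_span_list (l : List V) :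
    Module.finrank (ZMod 2) (Submodule.span (ZMod 2) {x | x ∈ l}) ≤ l.length := by
  classical
  have h := finrank_span_finset_le_card (R := ZMod 2) l.toFinset
  rw [Set.finrank, List.coe_toFinset] at h
  exact h.trans (List.toFinset_card_le l)

/-- The orthogonal of a list of vectors. -/
def lperp (l : List V) : Submodule (ZMod 2) V := S.perp (Submodule.span (ZMod 2) {x | x ∈ l})

theorem mem_lperp {l : List V} {x : V} : x ∈ S.lperp l ↔ ∀ y ∈ l, S.B y x = 0 := S.mem_perp_span

theorem finrank_lperp (l : List V) :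
    Module.finrank (ZMod 2) V ≤ Module.finrank (ZMod 2) (S.lperp l) + l.length := by
  have h := S.finrank_perp (Submodule.span (ZMod 2) {x | x ∈ l})
  have h2 := finrank_span_list l
  rw [lperp]
  omega

/-- The form is not identically zero on the subspace. -/
def NI (W : Submodule (ZMod 2) V) : Prop := ∃ x ∈ W, ∃ y ∈ W, S.B x y = 1

theorem ni_of_lt {W : Submodule (ZMod 2) V} (h : Module.finrank (ZMod 2) V < 2 * Module.finrank (ZMod 2) W) :
    S.NI W := by
  by_contra hc
  have hle : W ≤ S.perp W := fun x hx y hy => z2_ne_one.1 fun e => hc ⟨y, hy, x, hx, e⟩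
  have h1 := Submodule.finrank_mono hle
  have h2 := S.finrank_perp W
  omega

theorem ni_of_plane {c d : V} (hcd : S.B c d = 1) {W : Submodule (ZMod 2) V}
    (hW : W ≤ S.lperp [c, d]) (h : Module.finrank (ZMod 2) V < 2 * Module.finrank (ZMod 2) W + 2) : S.NI W := by
  by_contra hc
  set P := Submodule.span (ZMod 2) {x | x ∈ [c, d]} with hP
  have hle : W ⊔ P ≤ S.perp W := sup_le (fun x hx y hy => z2_ne_one.1 fun e => hc ⟨y, hy, x, hx, e⟩)
    (Submodule.span_le.2 fun x hx y hy => by
      show S.B y x = 0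
      rw [S.B_comm]
      exact S.mem_lperp.1 (hW hy) x hx)
  have hdis : W ⊓ P = ⊥ := (Submodule.eq_bot_iff _).2 fun x hx => by
    have hcd' : {x | x ∈ [c, d]} = ({c, d} : Set V) := by ext; simp
    obtain ⟨hxW, hxP⟩ := hx
    rw [SetLike.mem_coe, hP, hcd', Submodule.mem_span_pair] at hxP
    obtain ⟨s, t, rfl⟩ := hxP
    have h1 := S.mem_lperp.1 (hW hxW) c (by simp)
    have h2 := S.mem_lperp.1 (hW hxW) d (by simp)
    simp [S.B_self, hcd, S.B_comm d c] at h1 h2
    simp [h1, h2]
  have h2P : 2 ≤ Module.finrank (ZMod 2) P := by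
    have hli : LinearIndependent (ZMod 2) ![c, d] := by
      rw [LinearIndependent.pair_iff]
      intro s t hst
      have h1 := congrArg (S.B c) hst
      have h2 := congrArg (S.B d) hst
      simp [S.B_self, hcd, S.B_comm d c] at h1 h2
      exact ⟨h2, h1⟩
    have := finrank_span_eq_card hli
    rw [Fintype.card_fin] at this
    have hle' : Submodule.span (ZMod 2) (Set.range ![c, d]) ≤ P := Submodule.span_mono (by
      rintro _ ⟨i, rfl⟩; fin_cases i <;> simp)
    have := Submodule.finrank_mono hle'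
    omega
  have h1 := Submodule.finrank_mono hle
  have h2 := S.finrank_perp W
  have h3 := Submodule.finrank_sup_add_finrank_inf_eq W P
  rw [hdis, finrank_bot] at h3
  omega

theorem exists_Q_add_B {W : Submodule (ZMod 2) V} (h : S.NI W) (z : V) : ∃ x ∈ W, S.Q x + S.B z x = 1 := by
  by_contra hc
  push Not at hc
  have h0 : ∀ x ∈ W, S.Q x = S.B z x := fun x hx => by
    have := z2_ne_one.1 (hc x hx)
    rwa [add_eq_zero_iff_eq_neg, CharTwo.neg_eq] at this
  obtain ⟨x, hx, y, hy, hxy⟩ := h
  have := S.Q_add x y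
  rw [h0 _ (W.add_mem hx hy), h0 x hx, h0 y hy, map_add, hxy, left_eq_add] at this
  exact one_ne_zero this

theorem exists_Q_one {W : Submodule (ZMod 2) V} (h : S.NI W) : ∃ x ∈ W, S.Q x = 1 := by
  obtain ⟨x, hx, h1⟩ := S.exists_Q_add_B h 0
  exact ⟨x, hx, by simpa using h1⟩

theorem exists_B_one {x : V} (hx : x ≠ 0) : ∃ y, S.B x y = 1 := by
  by_contra hc
  push Not at hc
  exact hx (S.nondeg x fun y => z2_ne_one.1 (hc y))

/-- In dimension at least six the non-singular vectors detect every vector. -/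
theorem exists_nonsingular_B (h6 : 6 ≤ Module.finrank (ZMod 2) V) {z : V} (hz : z ≠ 0) :
    ∃ c, S.Q c = 1 ∧ S.B z c = 1 := by
  obtain ⟨y, hy⟩ := S.exists_B_one hz
  rcases z2 (S.Q y) with h0 | h1
  · obtain ⟨x, hx, hQ⟩ := S.exists_Q_add_B (W := S.lperp [z])
      (S.ni_of_lt (by have := S.finrank_lperp [z]; simp at this; omega)) y
    refine ⟨y + x, by rw [S.Q_add, h0, zero_add, hQ], ?_⟩
    rw [map_add, hy, S.mem_lperp.1 hx z (by simp), add_zero]
  · exact ⟨y, h1, hy⟩

/-- The transvection in the direction of a vector. -/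
def tv (c : V) : V ≃ₗ[ZMod 2] V :=
  LinearEquiv.ofInvolutive (LinearMap.id + (S.B c).smulRight c) fun x => by
    simp [S.B_self, v_add_self, add_assoc]

theorem tv_apply (c x : V) : S.tv c x = x + S.B c x • c := rfl

theorem tv_mul_self (c : V) : S.tv c * S.tv c = 1 := LinearEquiv.ext fun x => by
  show S.tv c (S.tv c x) = x
  simp [tv_apply, S.B_self, v_add_self, add_assoc]

theorem tv_of_ortho {c x : V} (h : S.B c x = 0) : S.tv c x = x := by simp [tv_apply, h]

/-- Preservation of the quadratic form. -/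
def Iso (θ : V ≃ₗ[ZMod 2] V) : Prop := ∀ x, S.Q (θ x) = S.Q x

omit [FiniteDimensional (ZMod 2) V] in
theorem Iso.B {S : QS V} {θ : V ≃ₗ[ZMod 2] V} (h : S.Iso θ) (x y : V) : S.B (θ x) (θ y) = S.B x y := by
  have h1 := S.Q_add (θ x) (θ y)
  rw [← map_add, h, h, h, S.Q_add] at h1
  exact (add_left_cancel h1).symm

theorem iso_tv {c : V} (hc : S.Q c = 1) : S.Iso (S.tv c) := fun x => by
  rw [tv_apply, S.Q_add, S.Q_smul, hc, mul_one, map_smul, smul_eq_mul, S.B_comm x c, add_assoc]
  rcases z2 (S.B c x) with h | h <;> simp [h, CharTwo.add_self_eq_zero]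

theorem conj_tv {θ : V ≃ₗ[ZMod 2] V} (hθ : S.Iso θ) (c : V) : θ * S.tv c * θ⁻¹ = S.tv (θ c) :=
  LinearEquiv.ext fun x => by
    obtain ⟨y, rfl⟩ := θ.surjective x
    show θ (S.tv c (θ.symm (θ y))) = S.tv (θ c) (θ y)
    rw [LinearEquiv.symm_apply_apply, tv_apply, tv_apply, hθ.B, map_add, map_smul]

/-- A product of two transvections. -/
def pair (c d : V) : V ≃ₗ[ZMod 2] V := S.tv c * S.tv d

theorem pair_apply (c d x : V) : S.pair c d x = S.tv c (S.tv d x) := rfl

theorem iso_pair {c d : V} (hc : S.Q c = 1) (hd : S.Q d = 1) : S.Iso (S.pair c d) := fun x => by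
  rw [pair_apply, S.iso_tv hc, S.iso_tv hd]

theorem conj_pair {θ : V ≃ₗ[ZMod 2] V} (hθ : S.Iso θ) (c d : V) :
    θ * S.pair c d * θ⁻¹ = S.pair (θ c) (θ d) := by
  rw [pair, pair, ← S.conj_tv hθ c, ← S.conj_tv hθ d]
  group

theorem pair_mul (c e d : V) : S.pair c e * S.pair e d = S.pair c d := by
  rw [pair, pair, pair, mul_assoc, ← mul_assoc (S.tv e), S.tv_mul_self, one_mul]

theorem pair_inv (c d : V) : (S.pair c d)⁻¹ = S.pair d c := by
  refine inv_eq_of_mul_eq_one_right ?_
  rw [pair_mul, pair, S.tv_mul_self]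

theorem pair_self (c : V) : S.pair c c = 1 := S.tv_mul_self c

/-- Transitivity of the pairs of transvections fixing a subspace, as an induction principle. -/
theorem reach (U : Submodule (ZMod 2) V) {v v' : V} (hv : v ∉ U) (hv' : v' ∉ U) (hQ : S.Q v = S.Q v')
    (hB : ∀ s ∈ U, S.B v s = S.B v' s)
    (hK : ∀ x y, (∀ s ∈ U, S.B x s = S.B v s) → S.Q x = S.Q v →
      S.NI (S.perp (U ⊔ Submodule.span (ZMod 2) {x, y})))
    (P : V → Prop)
    (hP : ∀ c d, S.Q c = 1 → S.Q d = 1 → c ∈ S.perp U → d ∈ S.perp U → ∀ x, P x → P (S.pair c d x))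
    (h0 : P v) : P v' := by
  have step : ∀ x y, (∀ s ∈ U, S.B x s = S.B v s) → S.Q x = S.Q v → (∀ s ∈ U, S.B y s = S.B v s) →
      S.B x y = 1 → S.Q y = S.Q x → P x → P y := by
    intro x y hx hQx hy hxy hQy hPx
    obtain ⟨e, he, hQe⟩ := S.exists_Q_one (hK x y hx hQx)
    have hc : S.Q (x + y) = 1 := by rw [S.Q_add, hxy, hQy, CharTwo.add_self_eq_zero, zero_add]
    have := hP (x + y) e hc hQe (fun s hs => by
        show S.B s (x + y) = 0
        rw [map_add, S.B_comm s x, S.B_comm s y, hx s hs, hy s hs, CharTwo.add_self_eq_zero])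
      (fun s hs => he s (Submodule.mem_sup_left hs)) x hPx
    rwa [pair_apply, S.tv_of_ortho (c := e) (x := x) (by
      rw [S.B_comm]; exact he x (Submodule.mem_sup_right (Submodule.subset_span (by simp)))), tv_apply,
      S.B_add_self_left, hxy, one_smul, v_add_add_cancel] at this
  by_cases hvv : v = v'
  · rwa [← hvv]
  rcases z2 (S.B v v') with h | h
  swap
  · exact step v v' (fun _ _ => rfl) rfl (fun s hs => (hB s hs).symm) h hQ.symm h0
  obtain ⟨μ, hμ, hμv⟩ := S.sep hv
  obtain ⟨w0, hw0v, hw0v', hw0U⟩ : ∃ w0, S.B v w0 = 1 ∧ S.B v' w0 = 1 ∧ ∀ s ∈ U, S.B s w0 = S.B s v := by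
    have hw : ∀ s ∈ U, S.B s (v + μ) = S.B s v := fun s hs => by
      rw [map_add, hμ s hs, add_zero]
    rcases z2 (S.B v' (v + μ)) with h1 | h1
    swap
    · exact ⟨v + μ, by rw [map_add, S.B_self, hμv, zero_add], h1, hw⟩
    have hnot : v' ∉ U ⊔ Submodule.span (ZMod 2) {v} := fun hm => by
      obtain ⟨s, hs, t, ht, e⟩ := Submodule.mem_sup.1 hm
      obtain ⟨a, rfl⟩ := Submodule.mem_span_singleton.1 ht
      rcases z2 a with rfl | rfl
      · rw [zero_smul, add_zero] at e
        exact hv' (e ▸ hs)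
      · have hsv : S.B v' v = 0 := by rw [S.B_comm]; exact h
        rw [← e] at hsv h1
        simp only [one_smul, map_add, LinearMap.add_apply, S.B_self, hμ s hs, hμv, add_zero, zero_add] at hsv h1
        rw [hsv, zero_add] at h1
        exact one_ne_zero h1
    obtain ⟨ν, hν, hνv⟩ := S.sep hnot
    refine ⟨v + μ + ν, ?_, ?_, fun s hs => ?_⟩
    · rw [map_add, map_add, S.B_self, hμv, hν v (Submodule.mem_sup_right (Submodule.mem_span_singleton_self v))]
      simp
    · rw [map_add, h1, hνv, zero_add]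
    · rw [map_add, hw s hs, hν s (Submodule.mem_sup_left hs), add_zero]
  obtain ⟨w, hwv, hwv', hwU, hQw⟩ : ∃ w, S.B v w = 1 ∧ S.B v' w = 1 ∧ (∀ s ∈ U, S.B w s = S.B v s) ∧
      S.Q w = S.Q v := by
    rcases z2 (S.Q w0 + S.Q v) with h1 | h1
    · exact ⟨w0, hw0v, hw0v', fun s hs => by rw [S.B_comm, hw0U s hs, S.B_comm],
        by rwa [add_eq_zero_iff_eq_neg, CharTwo.neg_eq] at h1⟩
    obtain ⟨z, hz, hQz⟩ := S.exists_Q_add_B (hK v v' (fun _ _ => rfl) rfl) w0
    refine ⟨w0 + z, ?_, ?_, fun s hs => ?_, ?_⟩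
    · rw [map_add, hw0v, hz v (Submodule.mem_sup_right (Submodule.subset_span (by simp))), add_zero]
    · rw [map_add, hw0v', hz v' (Submodule.mem_sup_right (Submodule.subset_span (by simp))), add_zero]
    · rw [S.B_comm, map_add, hz s (Submodule.mem_sup_left hs), hw0U s hs, add_zero, S.B_comm]
    · rw [S.Q_add, add_assoc, hQz, ← h1]
      rw [← add_assoc, CharTwo.add_self_eq_zero, zero_add]
  exact step w v' hwU hQw (fun s hs => (hB s hs).symm) (by rw [S.B_comm]; exact hwv')
    (by rw [← hQ, hQw]) (step v w (fun _ _ => rfl) rfl hwU hwv hQw h0)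

theorem ni_perp_of_small {K : Submodule (ZMod 2) V}
    (h : 2 * Module.finrank (ZMod 2) K < Module.finrank (ZMod 2) V) : S.NI (S.perp K) :=
  S.ni_of_lt (by have := S.finrank_perp K; omega)

theorem finrank_sup_pair_le (U : Submodule (ZMod 2) V) (x y : V) :
    Module.finrank (ZMod 2) ↥(U ⊔ Submodule.span (ZMod 2) ({x, y} : Set V)) ≤
      Module.finrank (ZMod 2) U + 2 := by
  have h1 := Submodule.finrank_sup_add_finrank_inf_eq U (Submodule.span (ZMod 2) ({x, y} : Set V))
  have h2 : Module.finrank (ZMod 2) (Submodule.span (ZMod 2) ({x, y} : Set V)) ≤ 2 := by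
    classical
    have h := finrank_span_finset_le_card (R := ZMod 2) ({x, y} : Finset V)
    rw [Finset.coe_pair, Set.finrank] at h
    exact h.trans Finset.card_le_two
  omega

/-- Transitivity for a small subspace. -/
theorem reach_small (U : Submodule (ZMod 2) V)
    (hU : 2 * (Module.finrank (ZMod 2) U + 2) < Module.finrank (ZMod 2) V) {v v' : V} (hv : v ∉ U) (hv' : v' ∉ U)
    (hQ : S.Q v = S.Q v') (hB : ∀ s ∈ U, S.B v s = S.B v' s) (P : V → Prop)
    (hP : ∀ c d, S.Q c = 1 → S.Q d = 1 → c ∈ S.perp U → d ∈ S.perp U → ∀ x, P x → P (S.pair c d x))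
    (h0 : P v) : P v' :=
  S.reach U hv hv' hQ hB
    (fun x y _ _ => S.ni_perp_of_small (by have := finrank_sup_pair_le U x y; omega)) P hP h0

theorem pair_move {c d x : V} (hcd : S.B c d = 0) (hx : S.B c x = 1) (hd : d ≠ c) (hc : c ≠ 0) :
    S.pair c d x ≠ x := by
  intro e
  rw [pair_apply, tv_apply, tv_apply, map_add, map_smul, hcd, smul_zero, add_zero, hx, one_smul, add_assoc,
    add_eq_left] at e
  rcases z2 (S.B d x) with h | h <;> simp [h] at e
  · exact hc e
  · exact hd (v_add_eq_zero.1 e)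

/-- A non-trivial group of isometries normalized by the pairs contains all of them. -/
theorem normalized_contains (h6 : 6 ≤ Module.finrank (ZMod 2) V) (N : Subgroup (V ≃ₗ[ZMod 2] V))
    (hiso : ∀ θ ∈ N, S.Iso θ)
    (hnorm : ∀ c d, S.Q c = 1 → S.Q d = 1 → ∀ θ ∈ N, S.pair c d * θ * (S.pair c d)⁻¹ ∈ N)
    (hne : N ≠ ⊥) {c d : V} (hc : S.Q c = 1) (hd : S.Q d = 1) : S.pair c d ∈ N := by
  have hQ0 : ∀ {x : V}, S.Q x = 1 → x ≠ 0 := fun h e => by simp [e, S.Q_zero] at h
  have comm : ∀ θ ∈ N, ∀ a b, S.Q a = 1 → S.Q b = 1 → S.pair (θ a) (θ b) * (S.pair a b)⁻¹ ∈ N := by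
    intro θ hθ a b ha hb
    rw [← S.conj_pair (hiso θ hθ), show θ * S.pair a b * θ⁻¹ * (S.pair a b)⁻¹ =
      θ * (S.pair a b * θ⁻¹ * (S.pair a b)⁻¹) by group]
    exact N.mul_mem hθ (hnorm a b ha hb _ (N.inv_mem hθ))
  have moves : ∀ θ : V ≃ₗ[ZMod 2] V, S.Iso θ → θ ≠ 1 → ∃ a, S.Q a = 1 ∧ θ a ≠ a := by
    intro θ hθ hne
    by_contra hno
    push Not at hno
    refine hne (LinearEquiv.ext fun x => ?_)
    show θ x = x
    by_contra hx
    obtain ⟨e, he, h1⟩ := S.exists_nonsingular_B h6 (z := θ x + x) (by rwa [ne_eq, v_add_eq_zero])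
    rw [map_add, LinearMap.add_apply] at h1
    nth_rw 1 [← hno e he] at h1
    rw [hθ.B, CharTwo.add_self_eq_zero] at h1
    exact zero_ne_one h1
  obtain ⟨θ, hθ, hθ1⟩ := (Subgroup.ne_bot_iff_exists_ne_one).1 hne |> fun ⟨⟨θ, hθ⟩, h⟩ =>
    (⟨θ, hθ, fun e => h (Subtype.ext e)⟩ : ∃ θ, θ ∈ N ∧ θ ≠ 1)
  obtain ⟨θ', hθ', e0, he0, hfix, hθ'1⟩ :
      ∃ θ' ∈ N, ∃ e0, S.Q e0 = 1 ∧ θ' e0 = e0 ∧ θ' ≠ 1 := by
    by_cases hf : ∃ e, S.Q e = 1 ∧ θ e = e
    · obtain ⟨e, he, h⟩ := hf
      exact ⟨θ, hθ, e, he, h, hθ1⟩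
    push Not at hf
    obtain ⟨a, ha, hmove⟩ := moves θ (hiso θ hθ) hθ1
    have hi := hiso θ hθ
    have hfe : ∀ x, S.B (θ a) x = S.B a (θ.symm x) := fun x => by
      conv_lhs => rw [← θ.apply_symm_apply x]
      exact hi.B _ _
    have ne1 : ∀ b, S.B a b = 0 → b ≠ θ a → b ≠ a → S.Q b = 1 → S.pair (θ a) (θ b) * (S.pair a b)⁻¹ ≠ 1 := by
      intro b hab hb hba hQb e
      rw [mul_inv_eq_one] at e
      have hnot : θ a ∉ Submodule.span (ZMod 2) {x | x ∈ [a, b]} := fun hm => by
        rw [show {x | x ∈ [a, b]} = ({a, b} : Set V) by ext; simp, Submodule.mem_span_pair] at hm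
        obtain ⟨s, t, hst⟩ := hm
        rcases z2 s with rfl | rfl <;> rcases z2 t with rfl | rfl <;> simp at hst
        · exact hQ0 (hi a ▸ ha) hst.symm
        · exact hb hst
        · exact hmove hst.symm
        · have := congrArg S.Q hst
          rw [S.Q_add, ha, hQb, hab, hi, ha] at this
          exact absurd this (by decide)
      obtain ⟨x, hx, hx1⟩ := S.sep hnot
      have h0 : S.pair a b x = x := by
        rw [pair_apply, S.tv_of_ortho (c := b) (hx b (Submodule.subset_span (by simp))),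
          S.tv_of_ortho (hx a (Submodule.subset_span (by simp)))]
      exact S.pair_move (by rw [hi.B]; exact hab) hx1 (fun e' => hba (θ.injective e'))
        (hQ0 (hi a ▸ ha)) (by rw [e, h0])
    rcases z2 (S.B a (θ a)) with h0 | h0
    · set W := S.lperp [a, θ.symm a]
      have haW : a ∈ W := S.mem_lperp.2 (by
        simp only [List.mem_cons, List.not_mem_nil, or_false, forall_eq_or_imp, forall_eq]
        exact ⟨S.B_self a, by rw [S.B_comm, ← hfe a, S.B_comm]; exact h0⟩)
      obtain ⟨b, hbW, hQb, hba, hb⟩ : ∃ b ∈ W, S.Q b = 1 ∧ b ≠ a ∧ b ≠ θ a := by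
        by_contra hno
        push Not at hno
        have hW4 : 4 ≤ Module.finrank (ZMod 2) W := by
          have h := S.finrank_lperp [a, θ.symm a]
          change _ ≤ Module.finrank (ZMod 2) W + _ at h
          simp only [List.length_cons, List.length_nil] at h; omega
        set Sp := Submodule.span (ZMod 2) {x | x ∈ [a, θ a]}
        have hout : ∀ x ∈ W, x ∉ Sp → S.B a x = 1 := fun x hx hxS => by
          have hx0 : S.Q x = 0 := z2_ne_one.1 fun h => hxS (by
            rcases eq_or_ne x a with rfl | hne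
            · exact Submodule.subset_span (by simp)
            · exact Submodule.subset_span (by simp [hno x hx h hne]))
          have hxa : S.Q (a + x) = 0 := z2_ne_one.1 fun h => hxS (by
            have hm : a + x ∈ Sp := by
              rcases eq_or_ne (a + x) a with e | hne
              · rw [e]; exact Submodule.subset_span (by simp)
              · exact Submodule.subset_span (by simp [hno _ (W.add_mem haW hx) h hne])
            rw [← v_add_add_cancel a x]
            exact Sp.add_mem (Submodule.subset_span (by simp)) hm)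
          rw [S.Q_add, ha, hx0, add_zero, add_eq_zero_iff_eq_neg, CharTwo.neg_eq] at hxa
          exact hxa.symm
        have h2 : Module.finrank (ZMod 2) Sp ≤ _ := finrank_span_list [a, θ a]
        simp only [List.length_cons, List.length_nil] at h2
        obtain ⟨x, hx, hxS⟩ := SetLike.not_le_iff_exists.1 fun hle : W ≤ Sp => by
          have := Submodule.finrank_mono hle; omega
        obtain ⟨y, hy, hyS⟩ := SetLike.not_le_iff_exists.1 fun hle : W ≤ Sp ⊔ Submodule.span (ZMod 2) {x} => by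
          have := Submodule.finrank_mono hle
          have h3 := Submodule.finrank_sup_add_finrank_inf_eq Sp (Submodule.span (ZMod 2) {x})
          have h4 : Module.finrank (ZMod 2) (Submodule.span (ZMod 2) ({x} : Set V)) ≤ 1 := by
            exact (finrank_span_le_card (R := ZMod 2) ({x} : Set V)).trans (by simp)
          omega
        have h5 := hout (x + y) (W.add_mem hx hy) fun hm => hyS (by
          rw [← v_add_add_cancel x y]
          exact Submodule.add_mem _ (Submodule.mem_sup_right (Submodule.mem_span_singleton_self x))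
            (Submodule.mem_sup_left hm))
        rw [map_add, hout x hx hxS, hout y hy fun hm => hyS (Submodule.mem_sup_left hm)] at h5
        exact absurd h5 (by decide)
      have hb1 := S.mem_lperp.1 hbW a (by simp)
      have hb2 := S.mem_lperp.1 hbW (θ.symm a) (by simp)
      refine ⟨_, comm θ hθ a b ha hQb, a, ha, ?_, ne1 b hb1 hb hba hQb⟩
      rw [S.pair_inv]
      show S.pair (θ a) (θ b) (S.pair b a a) = a
      rw [S.pair_apply b a, S.tv_of_ortho (c := a) (S.B_self a), pair_apply, S.tv_of_ortho (c := b) (by rw [S.B_comm]; exact hb1),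
        S.tv_of_ortho (c := θ b) (by
          rw [show S.B (θ b) a = S.B b (θ.symm a) by
            conv_lhs => rw [← θ.apply_symm_apply a]
            exact hi.B _ _, S.B_comm]
          exact hb2),
        S.tv_of_ortho (c := θ a) (by rw [S.B_comm]; exact h0)]
    · have hall : S.NI (S.lperp [a, θ a, θ.symm a]) := S.ni_of_plane h0 (fun x hx => S.mem_lperp.2 fun y hy =>
        S.mem_lperp.1 hx y (by simp only [List.mem_cons, List.not_mem_nil, or_false] at hy ⊢; tauto))
        (by have := S.finrank_lperp [a, θ a, θ.symm a]; simp only [List.length_cons, List.length_nil] at this; omega)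
      obtain ⟨b, hbW, hQb⟩ := S.exists_Q_one hall
      have hb1 := S.mem_lperp.1 hbW a (by simp)
      have hb2 := S.mem_lperp.1 hbW (θ a) (by simp)
      have hb3 := S.mem_lperp.1 hbW (θ.symm a) (by simp)
      have hba' : S.B (θ b) a = 0 := by
        conv_lhs => rw [← θ.apply_symm_apply a]
        rw [hi.B, S.B_comm]; exact hb3
      rcases z2 (S.B b (θ b)) with hbb | hbb
      · -- the roles of the two vectors exchange
        refine ⟨_, comm θ hθ b a hQb ha, b, hQb, ?_, fun e => ne1 b hb1 ?_ ?_ hQb ?_⟩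
        · rw [S.pair_inv]
          show S.pair (θ b) (θ a) (S.pair a b b) = b
          rw [S.pair_apply a b, S.tv_of_ortho (c := b) (S.B_self b), S.tv_of_ortho (c := a) hb1, pair_apply,
            S.tv_of_ortho (c := θ a) hb2, S.tv_of_ortho (c := θ b) (by rw [S.B_comm]; exact hbb)]
        · rintro rfl; rw [h0] at hb1; exact one_ne_zero hb1
        · rintro rfl; rw [S.B_comm, h0] at hb2; exact one_ne_zero hb2
        · have e' : S.pair (θ b) (θ a) = S.pair b a := mul_inv_eq_one.1 e
          rw [← S.pair_inv (θ b), ← S.pair_inv b, e', inv_inv, inv_mul_cancel]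
      · obtain ⟨e, heW, hQe⟩ := S.exists_Q_one (W := S.lperp [a, θ a, b, θ b]) (by
          by_contra hc
          set W := S.lperp [a, θ a, b, θ b] with hW
          have hrad : W ⊓ S.perp W = ⊥ := (Submodule.eq_bot_iff _).2 fun x hx => by
            obtain ⟨hxW, hxp⟩ := hx
            rw [SetLike.mem_coe, hW, lperp, S.perp_perp, show {y | y ∈ [a, θ a, b, θ b]} =
              ({a, θ a, b, θ b} : Set V) by ext; simp] at hxp
            simp only [Submodule.mem_span_insert, Submodule.mem_span_singleton] at hxp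
            obtain ⟨p1, -, ⟨p2, -, ⟨p3, -, ⟨p4, rfl⟩, rfl⟩, rfl⟩, rfl⟩ := hxp
            have k1 := S.mem_lperp.1 hxW a (by simp)
            have k2 := S.mem_lperp.1 hxW (θ a) (by simp)
            have k3 := S.mem_lperp.1 hxW b (by simp)
            have k4 := S.mem_lperp.1 hxW (θ b) (by simp)
            simp [S.B_self, h0, hbb, hb1, hb2, hba', S.B_comm a (θ b), S.B_comm (θ a) a, S.B_comm b a,
              S.B_comm b (θ a), S.B_comm (θ b) b, hi.B, S.B_comm (θ b) (θ a)] at k1 k2 k3 k4
            simp [k1, k2, k3, k4]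
          have hle : W ≤ S.perp W := fun x hx y hy => z2_ne_one.1 fun e => hc ⟨y, hy, x, hx, e⟩
          rw [inf_eq_left.2 hle] at hrad
          have := S.finrank_lperp [a, θ a, b, θ b]
          rw [← hW, hrad, finrank_bot] at this
          simp only [List.length_cons, List.length_nil] at this
          omega)
        refine ⟨_, comm θ hθ a b ha hQb, e, hQe, ?_, ne1 b hb1 ?_ ?_ hQb⟩
        · have k := fun y hy => S.mem_lperp.1 heW y hy
          rw [S.pair_inv]
          show S.pair (θ a) (θ b) (S.pair b a e) = e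
          rw [S.pair_apply b a, S.tv_of_ortho (c := a) (k a (by simp)), S.tv_of_ortho (c := b) (k b (by simp)),
            pair_apply, S.tv_of_ortho (c := θ b) (k (θ b) (by simp)), S.tv_of_ortho (c := θ a) (k (θ a) (by simp))]
        · rintro rfl; rw [h0] at hb1; exact one_ne_zero hb1
        · rintro rfl; rw [S.B_comm, h0] at hb2; exact one_ne_zero hb2
  have stepB : ∀ θ ∈ N, ∀ e0, S.Q e0 = 1 → θ e0 = e0 → ∀ a, S.Q a = 1 → S.pair (θ a) a ∈ N := by
    intro θ hθ e0 he0 hfix a ha
    have := comm θ hθ a e0 ha he0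
    rwa [hfix, S.pair_inv, S.pair_mul] at this
  obtain ⟨a, b, ha, hb, hab, hmem⟩ : ∃ a b, S.Q a = 1 ∧ S.Q b = 1 ∧ S.B a b = 1 ∧ S.pair a b ∈ N := by
    obtain ⟨x, hx, hmove⟩ := moves θ' (hiso θ' hθ') hθ'1
    have hi := hiso θ' hθ'
    have h1 := stepB θ' hθ' e0 he0 hfix x hx
    rcases z2 (S.B (θ' x) x) with h0 | h0
    swap
    · exact ⟨_, _, (hi x).trans hx, hx, h0, h1⟩
    obtain ⟨e, he, hQe⟩ := S.exists_Q_one (W := S.lperp [θ' x, x]) (S.ni_of_lt (by
      have := S.finrank_lperp [θ' x, x]; simp only [List.length_cons, List.length_nil] at this; omega))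
    obtain ⟨y, hy, hy1⟩ := S.exists_nonsingular_B h6 (z := θ' x + x) (by rwa [ne_eq, v_add_eq_zero])
    have h2 := stepB _ h1 e hQe (by
      rw [pair_apply, S.tv_of_ortho (c := x) (S.mem_lperp.1 he x (by simp)),
        S.tv_of_ortho (c := θ' x) (S.mem_lperp.1 he _ (by simp))]) y hy
    refine ⟨_, y, (hiso _ h1 y).trans hy, hy, ?_, h2⟩
    rw [pair_apply, tv_apply, tv_apply]
    simp only [map_add, map_smul, LinearMap.add_apply, LinearMap.smul_apply, smul_eq_mul, h0, S.B_self,
      mul_zero, add_zero, zero_add]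
    rw [map_add, LinearMap.add_apply] at hy1
    rcases z2 (S.B x y) with k | k <;> rcases z2 (S.B (θ' x) y) with k' | k' <;> simp [k, k'] at hy1 ⊢
  have one : ∀ c d, S.Q c = 1 → S.Q d = 1 → S.B c d = 1 → S.pair c d ∈ N := by
    intro c d hc hd hcd
    obtain ⟨d0, hd0, hcd0, hmem0⟩ : ∃ d0, S.Q d0 = 1 ∧ S.B c d0 = 1 ∧ S.pair c d0 ∈ N := by
      refine S.reach_small ⊥ (by rw [finrank_bot]; omega) (v := a) (v' := c)
        (by simpa using hQ0 ha) (by simpa using hQ0 hc) (ha.trans hc.symm)
        (fun s hs => by simp [(Submodule.mem_bot _).1 hs])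
        (fun x => ∃ d0, S.Q d0 = 1 ∧ S.B x d0 = 1 ∧ S.pair x d0 ∈ N) ?_ ⟨b, hb, hab, hmem⟩
      rintro u w hu hw - - x ⟨y, hy, hxy, hm⟩
      refine ⟨S.pair u w y, (S.iso_pair hu hw y).trans hy, ((S.iso_pair hu hw).B x y).trans hxy, ?_⟩
      rw [← S.conj_pair (S.iso_pair hu hw)]
      exact hnorm u w hu hw _ hm
    have hne : ∀ z, S.B c z = 1 → z ∉ Submodule.span (ZMod 2) {c} := fun z hz hm => by
      obtain ⟨s, rfl⟩ := Submodule.mem_span_singleton.1 hm
      simp [S.B_self] at hz
    refine (S.reach (Submodule.span (ZMod 2) {c}) (hne d0 hcd0) (hne d hcd) (hd0.trans hd.symm)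
      (fun s hs => ?_) (fun x y hx _ => ?_) (fun x => S.B c x = 1 ∧ S.pair c x ∈ N) ?_ ⟨hcd0, hmem0⟩).2
    · obtain ⟨s, rfl⟩ := Submodule.mem_span_singleton.1 hs
      rw [map_smul, map_smul, S.B_comm d0, hcd0, S.B_comm d, hcd]
    · have hcx : S.B c x = 1 := by
        rw [S.B_comm, hx c (Submodule.mem_span_singleton_self c), S.B_comm]; exact hcd0
      refine S.ni_of_plane hcx (fun z hz => S.mem_lperp.2 fun w hw => hz w ?_) ?_
      · simp only [List.mem_cons, List.not_mem_nil, or_false] at hw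
        rcases hw with rfl | rfl
        · exact Submodule.mem_sup_left (Submodule.mem_span_singleton_self _)
        · exact Submodule.mem_sup_right (Submodule.subset_span (by simp))
      · have h1 := S.finrank_perp (Submodule.span (ZMod 2) {c} ⊔ Submodule.span (ZMod 2) {x, y})
        have h2 := finrank_sup_pair_le (Submodule.span (ZMod 2) {c}) x y
        have h3 : Module.finrank (ZMod 2) (Submodule.span (ZMod 2) ({c} : Set V)) ≤ 1 := by
          exact (finrank_span_le_card (R := ZMod 2) ({c} : Set V)).trans (by simp)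
        omega
    · rintro u w hu hw hu' hw' x ⟨hx, hm⟩
      have hfc : S.pair u w c = c := by
        rw [pair_apply, S.tv_of_ortho (c := w) (by rw [S.B_comm]; exact hw' c (Submodule.mem_span_singleton_self c)),
          S.tv_of_ortho (c := u) (by rw [S.B_comm]; exact hu' c (Submodule.mem_span_singleton_self c))]
      refine ⟨?_, ?_⟩
      · have := (S.iso_pair hu hw).B c x
        rwa [hfc, hx] at this
      · have := hnorm u w hu hw _ hm
        rwa [S.conj_pair (S.iso_pair hu hw), hfc] at this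
  rcases z2 (S.B c d) with h0 | h0
  swap
  · exact one c d hc hd h0
  rcases eq_or_ne c d with rfl | hne
  · rw [S.pair_self]; exact N.one_mem
  obtain ⟨e, he, hce, hde⟩ : ∃ e, S.Q e = 1 ∧ S.B c e = 1 ∧ S.B d e = 1 := by
    obtain ⟨μ, hμ, h1⟩ := S.sep (U := Submodule.span (ZMod 2) {c + d}) (x := c) fun hm => by
      obtain ⟨s, hs⟩ := Submodule.mem_span_singleton.1 hm
      rcases z2 s with rfl | rfl <;> simp at hs
      · exact hQ0 hc hs.symm
      · exact hQ0 hd hs
    have h2 : S.B d μ = 1 := by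
      have h2 := hμ (c + d) (Submodule.mem_span_singleton_self _)
      replace h2 : S.B (c + d) μ = 0 := h2
      rw [map_add, LinearMap.add_apply, h1, add_eq_zero_iff_eq_neg, CharTwo.neg_eq] at h2
      exact h2.symm
    rcases z2 (S.Q μ) with hq | hq
    · obtain ⟨z, hz, hQz⟩ := S.exists_Q_add_B (W := S.lperp [c, d]) (S.ni_of_lt (by
        have := S.finrank_lperp [c, d]; simp only [List.length_cons, List.length_nil] at this; omega)) μ
      refine ⟨μ + z, by rw [S.Q_add, hq, zero_add, hQz], ?_, ?_⟩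
      · rw [map_add, h1, S.mem_lperp.1 hz c (by simp), add_zero]
      · rw [map_add, h2, S.mem_lperp.1 hz d (by simp), add_zero]
    · exact ⟨μ, hq, h1, h2⟩
  rw [← S.pair_mul c e d]
  exact N.mul_mem (one c e hc he hce) (one e d he hd (by rw [S.B_comm]; exact hde))

/-- An isometry commuting with all pairs is trivial. -/
theorem eq_one_of_commute (h6 : 6 ≤ Module.finrank (ZMod 2) V) {θ : V ≃ₗ[ZMod 2] V} (hθ : S.Iso θ)
    (h : ∀ c d, S.Q c = 1 → S.Q d = 1 → θ * S.pair c d = S.pair c d * θ) : θ = 1 := by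
  by_contra hne
  let N : Subgroup (V ≃ₗ[ZMod 2] V) := Subgroup.zpowers θ
  have hiso : ∀ x ∈ N, S.Iso x := fun x hx => by
    have : ∀ y ∈ Subgroup.closure {θ}, S.Iso y := fun y hy => by
      induction hy using Subgroup.closure_induction with
      | mem z hz => rwa [Set.mem_singleton_iff.1 hz]
      | one => exact fun _ => rfl
      | mul p q _ _ hp hq => exact fun z => (hp (q z)).trans (hq z)
      | inv p _ hp =>
        intro z
        have := hp (p.symm z)
        rw [LinearEquiv.apply_symm_apply] at this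
        exact this.symm
    exact this x (by rwa [← Subgroup.zpowers_eq_closure])
  have hnorm : ∀ c d, S.Q c = 1 → S.Q d = 1 → ∀ x ∈ N, S.pair c d * x * (S.pair c d)⁻¹ ∈ N := by
    intro c d hc hd x hx
    obtain ⟨n, rfl⟩ := hx
    have : Commute (S.pair c d) θ := (h c d hc hd).symm
    show S.pair c d * θ ^ n * (S.pair c d)⁻¹ ∈ N
    rw [(this.zpow_right n).eq, mul_inv_cancel_right]
    exact ⟨n, rfl⟩
  have hall := fun c d hc hd => S.normalized_contains h6 N hiso hnorm
    (by simpa [N, Subgroup.zpowers_eq_bot] using hne) (c := c) (d := d) hc hd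
  obtain ⟨c, -, hc⟩ := S.exists_Q_one (W := ⊤) (S.ni_of_lt (by rw [finrank_top]; omega))
  have hc0 : c ≠ 0 := fun e => by simp [e, S.Q_zero] at hc
  obtain ⟨d, hd, hcd⟩ := S.exists_nonsingular_B h6 hc0
  obtain ⟨z, hz0, hQz, hcz, hdz⟩ : ∃ z, z ≠ 0 ∧ S.Q z = 0 ∧ S.B c z = 0 ∧ S.B d z = 0 := by
    obtain ⟨x, hx, y, hy, hxy⟩ := S.ni_of_lt (W := S.lperp [c, d])
      (by have := S.finrank_lperp [c, d]; simp only [List.length_cons, List.length_nil] at this; omega)
    have hperp : ∀ z ∈ S.lperp [c, d], S.B c z = 0 ∧ S.B d z = 0 :=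
      fun z hz => ⟨S.mem_lperp.1 hz c (by simp), S.mem_lperp.1 hz d (by simp)⟩
    have hne0 : ∀ u v, S.B u v = 1 → u ≠ 0 := fun u v h e => by simp [e] at h
    rcases z2 (S.Q x) with hqx | hqx
    · exact ⟨x, hne0 x y hxy, hqx, hperp x hx⟩
    rcases z2 (S.Q y) with hqy | hqy
    · exact ⟨y, hne0 y x (by rw [S.B_comm]; exact hxy), hqy, hperp y hy⟩
    obtain ⟨w, hw, hw0⟩ := Submodule.exists_mem_ne_zero_of_ne_bot (p := S.lperp [c, d, x, y]) fun e => by
      have := S.finrank_lperp [c, d, x, y]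
      rw [e, finrank_bot] at this
      simp only [List.length_cons, List.length_nil] at this
      omega
    have k := fun v hv => S.mem_lperp.1 hw v hv
    rcases z2 (S.Q w) with hqw | hqw
    · exact ⟨w, hw0, hqw, k c (by simp), k d (by simp)⟩
    · refine ⟨x + w, ?_, ?_, ?_, ?_⟩
      · rw [ne_eq, v_add_eq_zero]
        rintro rfl
        have := k y (by simp)
        rw [S.B_comm, hxy] at this
        exact one_ne_zero this
      · rw [S.Q_add, hqx, hqw, k x (by simp)]; decide
      · rw [map_add, (hperp x hx).1, k c (by simp), add_zero]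
      · rw [map_add, (hperp x hx).2, k d (by simp), add_zero]
  have he : S.Q (d + z) = 1 := by rw [S.Q_add, hd, hQz, hdz, add_zero, add_zero]
  obtain ⟨m, hm⟩ := hall c d hc hd
  obtain ⟨n, hn⟩ := hall c (d + z) hc he
  have hcomm := LinearEquiv.congr_fun (show S.pair c d * S.pair c (d + z) = S.pair c (d + z) * S.pair c d by
    rw [← hm, ← hn]; exact ((Commute.refl θ).zpow_zpow m n).eq) d
  change S.pair c d (S.pair c (d + z) d) = S.pair c (d + z) (S.pair c d d) at hcomm
  have hde : S.B d (d + z) = 0 := by rw [map_add, S.B_self, hdz, add_zero]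
  have hce : S.B c (d + z) = 1 := by rw [map_add, hcd, hcz, add_zero]
  have h1 : S.pair c (d + z) d = d + c := by
    rw [pair_apply, S.tv_of_ortho (c := d + z) (by rw [S.B_comm]; exact hde), tv_apply, hcd, one_smul]
  have h2 : S.pair c d d = d + c := by
    rw [pair_apply, S.tv_of_ortho (c := d) (S.B_self d), tv_apply, hcd, one_smul]
  have h3 : S.pair c d (d + c) = c := by
    have k : S.B d (d + c) = 1 := by rw [map_add, S.B_self, S.B_comm d c, hcd, zero_add]
    rw [pair_apply, S.tv_apply d, k, one_smul, show d + c + d = c by rw [add_comm d c, add_assoc, v_add_self, add_zero],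
      S.tv_of_ortho (c := c) (S.B_self c)]
  have h4 : S.pair c (d + z) (d + c) = d + c + (d + z) := by
    have k : S.B (d + z) (d + c) = 1 := by
      rw [map_add (S.B (d + z)), S.B_comm (d + z) d, hde, S.B_comm (d + z) c, hce, zero_add]
    have k' : S.B c (d + c + (d + z)) = 0 := by
      rw [map_add (S.B c) (d + c), map_add (S.B c) d c, hcd, S.B_self, hce, add_zero, CharTwo.add_self_eq_zero]
    rw [pair_apply, S.tv_apply (d + z), k, one_smul, S.tv_of_ortho (c := c) k']
  rw [h1, h2, h3, h4, show d + c + (d + z) = c + (d + d + z) by abel, v_add_self, zero_add,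
    left_eq_add] at hcomm
  exact hz0 hcomm

end QS

end CfsgLib.ExtraTypeMax
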