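import Cfsg.Agent.Lib.GeomClasses.FrameBase
import Cfsg.Agent.Lib.ExtraTypeMax.QSpace

/-!
Shears of a vector space over two elements generate the alternating group; on a frame indexed by the space
they give, with the sign changes of the affine hyperplanes, all generators of the frame group.
-/

set_option autoImplicit false
set_option linter.unusedSectionVars false

namespace CfsgLib.ExtraTypeMax

open Module

variable {W : Type*} [AddCommGroup W] [Module (ZMod 2) W]

open Classical in
/-- The shear of a coset of a subspace in a direction of it. -/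
noncomputable def shear (U : Submodule (ZMod 2) W) (p v : W) (hv : v ∈ U) : Equiv.Perm W :=
  Function.Involutive.toPerm (fun x => if x + p ∈ U then x + v else x) fun x => by
    by_cases h : x + p ∈ U
    · have h' : x + v + p ∈ U := by rw [add_right_comm]; exact U.add_mem h hv
      simp only [h, h', if_true]
      rw [add_assoc, v_add_self, add_zero]
    · simp [h]

theorem shear_of_mem {U : Submodule (ZMod 2) W} {p v : W} (hv : v ∈ U) {x : W} (h : x + p ∈ U) :
    shear U p v hv x = x + v := if_pos h

theorem shear_of_not_mem {U : Submodule (ZMod 2) W} {p v : W} (hv : v ∈ U) {x : W} (h : x + p ∉ U) :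
    shear U p v hv x = x := if_neg h

theorem shear_mul_self (U : Submodule (ZMod 2) W) (p v : W) (hv : v ∈ U) :
    shear U p v hv * shear U p v hv = 1 := Equiv.ext fun x => by
  by_cases h : x + p ∈ U
  · have h' : x + v + p ∈ U := by rw [add_right_comm]; exact U.add_mem h hv
    rw [Equiv.Perm.mul_apply, shear_of_mem hv h, shear_of_mem hv h', Equiv.Perm.one_apply, add_assoc, v_add_self,
      add_zero]
  · rw [Equiv.Perm.mul_apply, shear_of_not_mem hv h, shear_of_not_mem hv h, Equiv.Perm.one_apply]

variable [FiniteDimensional (ZMod 2) W]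

theorem exists_not_mem {U : Submodule (ZMod 2) W} (h : finrank (ZMod 2) U < finrank (ZMod 2) W) : ∃ x, x ∉ U :=
  not_forall.1 fun hall => by
    rw [(Submodule.eq_top_iff'.2 hall), finrank_top] at h
    exact lt_irrefl _ h

theorem finrank_span_list_le (l : List W) : finrank (ZMod 2) (Submodule.span (ZMod 2) {x | x ∈ l}) ≤ l.length := by
  classical
  have e : {x | x ∈ l} = (l.toFinset : Set W) := by ext; simp
  rw [e]
  exact (finrank_span_finset_le_card l.toFinset).trans (List.toFinset_card_le l)

theorem exists_dual {U : Submodule (ZMod 2) W} {z : W} (hz : z ∉ U) :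
    ∃ φ : W →ₗ[ZMod 2] ZMod 2, (∀ x ∈ U, φ x = 0) ∧ φ z = 1 := by
  obtain ⟨φ, h1, h2⟩ := Submodule.exists_dual_map_eq_bot_of_notMem hz inferInstance
  refine ⟨φ, fun x hx => ?_, z2_ne_zero.1 h1⟩
  have := Submodule.mem_map_of_mem (f := φ) hx
  rwa [h2, Submodule.mem_bot] at this

variable (K : Subgroup (Equiv.Perm W))
  (hbase : ∀ φ ψ : W →ₗ[ZMod 2] ZMod 2, ∀ p v (hv : v ∈ LinearMap.ker φ ⊓ LinearMap.ker ψ),
    shear (LinearMap.ker φ ⊓ LinearMap.ker ψ) p v hv ∈ K)
include hbase

/-- All shears of subspaces of dimension at least two. -/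
theorem shear_mem (p : W) : ∀ (U : Submodule (ZMod 2) W), 2 ≤ finrank (ZMod 2) U → ∀ v (hv : v ∈ U),
    shear U p v hv ∈ K := by
  suffices H : ∀ c, ∀ U : Submodule (ZMod 2) W, finrank (ZMod 2) W - finrank (ZMod 2) U = c →
      2 ≤ finrank (ZMod 2) U → ∀ v (hv : v ∈ U), shear U p v hv ∈ K from fun U => H _ U rfl
  intro c
  induction c using Nat.strong_induction_on with
  | _ c ih =>
    intro U hc h2 v hv
    by_cases htop : U = ⊤
    · subst htop
      convert hbase 0 0 p v (by simp) using 1
      exact Equiv.ext fun x => (shear_of_mem hv trivial).trans (shear_of_mem _ (by simp)).symm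
    rcases eq_or_ne v 0 with rfl | hv0
    · rw [show shear U p 0 hv = 1 from Equiv.ext fun x => by
        by_cases h : x + p ∈ U
        · rw [shear_of_mem hv h, add_zero]; rfl
        · rw [shear_of_not_mem hv h]; rfl]
      exact K.one_mem
    obtain ⟨z, hz⟩ : ∃ z, z ∉ U := not_forall.1 fun hall => htop (Submodule.eq_top_iff'.2 hall)
    obtain ⟨φ, hφU, hφz⟩ := exists_dual hz
    obtain ⟨w, hw, hwv⟩ : ∃ w ∈ U, w ∉ Submodule.span (ZMod 2) {v} :=
      SetLike.not_le_iff_exists.1 fun hle => by
        have h1 := Submodule.finrank_mono hle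
        rw [finrank_span_singleton hv0] at h1
        omega
    obtain ⟨ψ, hψv, hψw⟩ := exists_dual hwv
    have hψv' : ψ v = 0 := hψv v (Submodule.mem_span_singleton_self v)
    set U' := U ⊔ Submodule.span (ZMod 2) {z} with hU'
    have hlt : U < U' := lt_of_le_of_ne le_sup_left fun e =>
      hz (e ▸ Submodule.mem_sup_right (Submodule.mem_span_singleton_self z))
    have hfr := Submodule.finrank_lt_finrank_of_lt hlt
    have hle' := U'.finrank_le
    have hg := ih _ (by omega) U' rfl (by omega) w (le_sup_left (a := U) hw)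
    have hvk : v ∈ LinearMap.ker φ ⊓ LinearMap.ker ψ :=
      ⟨LinearMap.mem_ker.2 (hφU v hv), LinearMap.mem_ker.2 hψv'⟩
    have hh := hbase φ ψ p v hvk
    have key : shear U p v hv = shear (LinearMap.ker φ ⊓ LinearMap.ker ψ) p v hvk *
        shear U' p w (le_sup_left (a := U) hw) *
          shear (LinearMap.ker φ ⊓ LinearMap.ker ψ) p v hvk *
        shear U' p w (le_sup_left (a := U) hw) := by
      refine Equiv.ext fun x => ?_
      simp only [Equiv.Perm.mul_apply]
      have hmem : ∀ {y}, y ∈ U' → (y ∈ U ↔ φ y = 0) := fun {y} hy => ⟨hφU y, fun h0 => by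
        obtain ⟨a, ha, b, hb, rfl⟩ := Submodule.mem_sup.1 hy
        obtain ⟨s, rfl⟩ := Submodule.mem_span_singleton.1 hb
        rw [map_add, map_smul, hφU a ha, hφz, zero_add, smul_eq_mul, mul_one] at h0
        rw [h0, zero_smul, add_zero]
        exact ha⟩
      have hvU' : v ∈ U' := le_sup_left (a := U) hv
      have hwU' : w ∈ U' := le_sup_left (a := U) hw
      by_cases hx : x + p ∈ U'
      · have h1 : x + w + p ∈ U' := by rw [add_right_comm]; exact U'.add_mem hx hwU'
        rw [shear_of_mem hwU' hx]
        by_cases hA : φ (x + p) = 0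
        · have hU := (hmem hx).2 hA
          rw [shear_of_mem hv hU]
          rcases z2 (ψ (x + p)) with hB | hB
          · have m1 : x + w + p ∉ LinearMap.ker φ ⊓ LinearMap.ker ψ := fun h => by
              have := h.2
              rw [SetLike.mem_coe, LinearMap.mem_ker, add_right_comm, map_add, hB, hψw, zero_add] at this
              exact one_ne_zero this
            have m2 : x + p ∈ LinearMap.ker φ ⊓ LinearMap.ker ψ := ⟨hA, hB⟩
            rw [shear_of_not_mem _ m1, shear_of_mem hwU' h1, add_assoc x w, v_add_self, add_zero,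
              shear_of_mem _ m2]
          · have m1 : x + w + p ∈ LinearMap.ker φ ⊓ LinearMap.ker ψ := by
              refine ⟨?_, ?_⟩ <;> rw [SetLike.mem_coe, LinearMap.mem_ker, add_right_comm, map_add]
              · rw [hA, hφU w hw, add_zero]
              · rw [hB, hψw, CharTwo.add_self_eq_zero]
            have h2 : x + w + v + p ∈ U' := by rw [add_right_comm]; exact U'.add_mem h1 hvU'
            have m2 : x + v + p ∉ LinearMap.ker φ ⊓ LinearMap.ker ψ := fun h => by
              have := h.2
              rw [SetLike.mem_coe, LinearMap.mem_ker, add_right_comm, map_add, hB, hψv', add_zero] at this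
              exact one_ne_zero this
            rw [shear_of_mem _ m1, shear_of_mem hwU' h2,
              show x + w + v + w = x + v by rw [add_right_comm x w v, add_assoc, v_add_self, add_zero],
              shear_of_not_mem _ m2]
        · have hU : x + p ∉ U := fun h => hA ((hmem hx).1 h)
          have m1 : x + w + p ∉ LinearMap.ker φ ⊓ LinearMap.ker ψ := fun h => hA (by
            have := h.1
            rwa [SetLike.mem_coe, LinearMap.mem_ker, add_right_comm, map_add, hφU w hw, add_zero] at this)
          have m2 : x + p ∉ LinearMap.ker φ ⊓ LinearMap.ker ψ := fun h => hA h.1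
          rw [shear_of_not_mem hv hU, shear_of_not_mem _ m1, shear_of_mem hwU' h1, add_assoc x w, v_add_self,
            add_zero, shear_of_not_mem _ m2]
      · have hU : x + p ∉ U := fun h => hx (le_sup_left (a := U) h)
        rw [shear_of_not_mem hv hU, shear_of_not_mem hwU' hx]
        by_cases hm : x + p ∈ LinearMap.ker φ ⊓ LinearMap.ker ψ
        · have h3 : x + v + p ∉ U' := fun h => hx (by
            have := U'.add_mem h hvU'
            rwa [add_right_comm (x + v), add_assoc x, v_add_self, add_zero] at this)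
          have m2 : x + v + p ∈ LinearMap.ker φ ⊓ LinearMap.ker ψ := by
            rw [add_right_comm]; exact Submodule.add_mem _ hm hvk
          rw [shear_of_mem _ hm, shear_of_not_mem hwU' h3, shear_of_mem _ m2, add_assoc, v_add_self, add_zero]
        · rw [shear_of_not_mem _ hm, shear_of_not_mem hwU' hx, shear_of_not_mem _ hm]
    rw [key]
    exact K.mul_mem (K.mul_mem (K.mul_mem hh hg) hh) hg

variable [DecidableEq W]

theorem shear_plane (p v u : W) (hu : u ∉ Submodule.span (ZMod 2) {v}) (hv0 : v ≠ 0) :
    Equiv.swap p (p + v) * Equiv.swap (p + u) (p + u + v) ∈ K := by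
  set U := Submodule.span (ZMod 2) ({v, u} : Set W) with hU
  have hv : v ∈ U := Submodule.subset_span (by simp)
  have huU : u ∈ U := Submodule.subset_span (by simp)
  have h2 : 2 ≤ finrank (ZMod 2) U := by
    have hlt : Submodule.span (ZMod 2) {v} < U := lt_of_le_of_ne
      (Submodule.span_mono (by simp)) fun e => hu (e ▸ huU)
    have := Submodule.finrank_lt_finrank_of_lt hlt
    rw [finrank_span_singleton hv0] at this
    omega
  have hsv : ∀ s : ZMod 2, u ≠ s • v := fun s e => hu (Submodule.mem_span_singleton.2 ⟨s, e.symm⟩)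
  have hu0 : u ≠ 0 := fun e => hsv 0 (by simp [e])
  have huv : u ≠ v := fun e => hsv 1 (by simp [e])
  convert shear_mem K hbase p U h2 v hv using 1
  refine Equiv.ext fun x => ?_
  rw [Equiv.Perm.mul_apply]
  have e1 : p + u ≠ p := by simpa using hu0
  have e2 : p + u ≠ p + v := by simpa using huv
  have e3 : p + u + v ≠ p := by
    rw [add_assoc]
    simpa [v_add_eq_zero] using huv
  have e4 : p + u + v ≠ p + v := by
    rw [add_right_comm]
    simpa using hu0
  by_cases hx : x + p ∈ U
  · rw [shear_of_mem hv hx]
    obtain ⟨a, b, hab⟩ := Submodule.mem_span_pair.1 hx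
    have hx' : x = p + (a • v + b • u) := by rw [hab, add_comm x, v_add_add_cancel]
    rcases z2 a with rfl | rfl <;> rcases z2 b with rfl | rfl <;>
      simp only [zero_smul, one_smul, add_zero, zero_add] at hx' <;> subst hx'
    · rw [Equiv.swap_apply_of_ne_of_ne e1.symm e3.symm, Equiv.swap_apply_left]
    · rw [Equiv.swap_apply_left, Equiv.swap_apply_of_ne_of_ne e3 e4]
    · rw [Equiv.swap_apply_of_ne_of_ne e2.symm e4.symm, Equiv.swap_apply_right, add_assoc, v_add_self, add_zero]
    · rw [show p + (v + u) = p + u + v by rw [add_comm v u, add_assoc], Equiv.swap_apply_right,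
        Equiv.swap_apply_of_ne_of_ne e1 e2, add_assoc, v_add_self, add_zero]
  · rw [shear_of_not_mem hv hx]
    have hne : ∀ y ∈ U, x ≠ p + y := fun y hy e => hx (by rw [e, add_comm, v_add_add_cancel]; exact hy)
    rw [Equiv.swap_apply_of_ne_of_ne (hne u huU) (by rw [add_assoc]; exact hne _ (U.add_mem huU hv)),
      Equiv.swap_apply_of_ne_of_ne (by simpa using hne 0 U.zero_mem) (hne v hv)]

theorem shear_pair (h3 : finrank (ZMod 2) W = 3) (p v : W) (hv0 : v ≠ 0) : Equiv.swap p (p + v) ∈ K := by
  obtain ⟨z, hz⟩ := exists_not_mem (U := Submodule.span (ZMod 2) {v}) (by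
    rw [finrank_span_singleton hv0]; omega)
  obtain ⟨φ, hφ, hφz⟩ := exists_dual hz
  obtain ⟨z', hz'⟩ := exists_not_mem (U := Submodule.span (ZMod 2) {x | x ∈ [v, z]}) (by
    have := finrank_span_list_le [v, z]
    simp only [List.length_cons, List.length_nil] at this ⊢
    omega)
  obtain ⟨ψ, hψ, hψz⟩ := exists_dual hz'
  have hφv : φ v = 0 := hφ v (Submodule.mem_span_singleton_self v)
  have hψv : ψ v = 0 := hψ v (Submodule.subset_span (by simp))
  have hψz0 : ψ z = 0 := hψ z (Submodule.subset_span (by simp))
  have hspan : Submodule.span (ZMod 2) {x | x ∈ [v, z, z']} = ⊤ := by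
    refine Submodule.eq_top_of_finrank_eq (le_antisymm (Submodule.finrank_le _) ?_)
    have hlt1 : Submodule.span (ZMod 2) {v} < Submodule.span (ZMod 2) {x | x ∈ [v, z]} :=
      lt_of_le_of_ne (Submodule.span_mono (by simp)) fun e => hz (e ▸ Submodule.subset_span (by simp))
    have hlt2 : Submodule.span (ZMod 2) {x | x ∈ [v, z]} < Submodule.span (ZMod 2) {x | x ∈ [v, z, z']} :=
      lt_of_le_of_ne (Submodule.span_mono fun x hx => by
          simp only [Set.mem_setOf_eq, List.mem_cons, List.not_mem_nil, or_false] at hx ⊢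
          tauto)
        fun e => hz' (e ▸ Submodule.subset_span (by simp))
    have a1 := Submodule.finrank_lt_finrank_of_lt hlt1
    have a2 := Submodule.finrank_lt_finrank_of_lt hlt2
    rw [finrank_span_singleton hv0] at a1
    omega
  have hker : ∀ y, φ y = 0 → ψ y = 0 → ∃ s : ZMod 2, y = s • v := fun y h1 h2 => by
    have hy : y ∈ Submodule.span (ZMod 2) ({v, z, z'} : Set W) := by
      rw [show ({v, z, z'} : Set W) = {x | x ∈ [v, z, z']} by ext; simp, hspan]; trivial
    obtain ⟨a, b, c, rfl⟩ := Submodule.mem_span_triple.1 hy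
    simp [hψv, hψz0, hψz] at h2
    simp [hφv, hφz, h2] at h1
    exact ⟨a, by simp [h1, h2]⟩
  have hvk : v ∈ LinearMap.ker φ ⊓ LinearMap.ker ψ := ⟨LinearMap.mem_ker.2 hφv, LinearMap.mem_ker.2 hψv⟩
  convert hbase φ ψ p v hvk using 1
  refine Equiv.ext fun x => ?_
  by_cases hx : x + p ∈ LinearMap.ker φ ⊓ LinearMap.ker ψ
  · rw [shear_of_mem _ hx]
    obtain ⟨s, hs⟩ := hker _ hx.1 hx.2
    have hx' : x = p + s • v := by rw [← hs, add_comm x, v_add_add_cancel]
    rcases z2 s with rfl | rfl
    · rw [zero_smul, add_zero] at hx'; subst hx'; exact Equiv.swap_apply_left _ _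
    · rw [one_smul] at hx'; subst hx'
      rw [Equiv.swap_apply_right, add_assoc, v_add_self, add_zero]
  · rw [shear_of_not_mem _ hx]
    refine Equiv.swap_apply_of_ne_of_ne (fun e => hx ?_) (fun e => hx ?_)
    · rw [e, v_add_self]; exact Submodule.zero_mem _
    · rw [e, add_comm, v_add_add_cancel]; exact hvk

/-- Products of two transpositions. -/
theorem double_swap_mem (h3 : 3 ≤ finrank (ZMod 2) W) {a b c d : W} (hab : a ≠ b) (hcd : c ≠ d) :
    Equiv.swap a b * Equiv.swap c d ∈ K := by
  rcases Nat.lt_or_ge 3 (finrank (ZMod 2) W) with h4 | h4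
  swap
  · have h := fun (x y : W) (hxy : x ≠ y) => shear_pair K hbase (by omega) x (x + y)
      (fun e => hxy (v_add_eq_zero.1 e))
    simp only [v_add_add_cancel] at h
    exact K.mul_mem (h a b hab) (h c d hcd)
  have key : ∀ {x y z : W}, x ≠ y → x ≠ z → y ≠ z → Equiv.swap x y * Equiv.swap x z ∈ K := by
    intro x y z hxy hxz hyz
    set v := x + y with hv
    set v' := x + z with hv'
    obtain ⟨u, hu⟩ := exists_not_mem (U := Submodule.span (ZMod 2) {t | t ∈ [v, v']}) (by
      have := finrank_span_list_le [v, v']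
      simp only [List.length_cons, List.length_nil] at this ⊢
      omega)
    obtain ⟨u', hu'⟩ := exists_not_mem (U := Submodule.span (ZMod 2) {t | t ∈ [v, v', u]}) (by
      have := finrank_span_list_le [v, v', u]
      simp only [List.length_cons, List.length_nil] at this ⊢
      omega)
    have hy : x + v = y := v_add_add_cancel x y
    have hz : x + v' = z := v_add_add_cancel x z
    have h1 := shear_plane K hbase x v u (fun h => hu (Submodule.span_mono (by simp) h))
      (fun e => hxy (v_add_eq_zero.1 e))
    have h2 := shear_plane K hbase x v' u' (fun h => hu' (Submodule.span_mono (by simp) h))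
      (fun e => hxz (v_add_eq_zero.1 e))
    rw [hy] at h1
    rw [hz] at h2
    set s := Equiv.swap (x + u) (x + u + v) with hs
    set s' := Equiv.swap (x + u') (x + u' + v') with hs'
    have huS : ∀ t ∈ Submodule.span (ZMod 2) {t | t ∈ [v, v']}, u ≠ t := fun t ht e => hu (e ▸ ht)
    have huS' : ∀ t ∈ Submodule.span (ZMod 2) {t | t ∈ [v, v', u]}, u' ≠ t := fun t ht e => hu' (e ▸ ht)
    have mv : v ∈ Submodule.span (ZMod 2) {t | t ∈ [v, v']} := Submodule.subset_span (by simp)
    have mv' : v' ∈ Submodule.span (ZMod 2) {t | t ∈ [v, v']} := Submodule.subset_span (by simp)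
    have nv : v ∈ Submodule.span (ZMod 2) {t | t ∈ [v, v', u]} := Submodule.subset_span (by simp)
    have nv' : v' ∈ Submodule.span (ZMod 2) {t | t ∈ [v, v', u]} := Submodule.subset_span (by simp)
    have nu : u ∈ Submodule.span (ZMod 2) {t | t ∈ [v, v', u]} := Submodule.subset_span (by simp)
    -- the point x + u + e differs from x + e' for e, e' in the span of v, v'
    have sep : ∀ e ∈ Submodule.span (ZMod 2) {t | t ∈ [v, v']}, ∀ e' ∈ Submodule.span (ZMod 2) {t | t ∈ [v, v']},
        x + u + e ≠ x + e' := fun e he e' he' h => huS (e + e') (Submodule.add_mem _ he he') (by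
      rw [add_assoc, add_right_inj] at h
      rw [← h, add_comm e, add_assoc, v_add_self, add_zero])
    have sep' : ∀ e ∈ Submodule.span (ZMod 2) {t | t ∈ [v, v', u]},
        ∀ e' ∈ Submodule.span (ZMod 2) {t | t ∈ [v, v', u]}, x + u' + e ≠ x + e' :=
      fun e he e' he' h => huS' (e + e') (Submodule.add_mem _ he he') (by
      rw [add_assoc, add_right_inj] at h
      rw [← h, add_comm e, add_assoc, v_add_self, add_zero])
    have z0 := Submodule.zero_mem (Submodule.span (ZMod 2) {t | t ∈ [v, v']})
    have n0 := Submodule.zero_mem (Submodule.span (ZMod 2) {t | t ∈ [v, v', u]})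
    have dis : ∀ {a b a' b' : W}, a ≠ a' → a ≠ b' → b ≠ a' → b ≠ b' →
        Commute (Equiv.swap a b) (Equiv.swap a' b') := fun {a b a' b'} p1 p2 p3 p4 => by
      refine Equiv.Perm.Disjoint.commute fun t => ?_
      by_cases ht : t = a' ∨ t = b'
      · left
        rcases ht with rfl | rfl
        · exact Equiv.swap_apply_of_ne_of_ne p1.symm p3.symm
        · exact Equiv.swap_apply_of_ne_of_ne p2.symm p4.symm
      · right
        push Not at ht
        exact Equiv.swap_apply_of_ne_of_ne ht.1 ht.2
    have c1 : Commute s (Equiv.swap x z) := dis (by simpa using sep 0 z0 0 z0)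
      (by have := sep 0 z0 v' mv'; rwa [hz, add_zero] at this)
      (by have := sep v mv 0 z0; rwa [add_zero] at this)
      (by have := sep v mv v' mv'; rwa [hz] at this)
    have c2 : Commute s' (Equiv.swap x y) := dis (by simpa using sep' 0 n0 0 n0)
      (by have := sep' 0 n0 v nv; rwa [hy, add_zero] at this)
      (by have := sep' v' nv' 0 n0; rwa [add_zero] at this)
      (by have := sep' v' nv' v nv; rwa [hy] at this)
    have c3 : Commute s s' := (dis (by have := sep' 0 n0 u nu; rwa [add_zero] at this)
      (by have := sep' 0 n0 (u + v) (Submodule.add_mem _ nu nv); rwa [add_zero, ← add_assoc] at this)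
      (by have := sep' v' nv' u nu; exact this)
      (by have := sep' v' nv' (u + v) (Submodule.add_mem _ nu nv); simpa only [add_assoc] using this)).symm
    have c4 : Commute s (Equiv.swap x y) := dis (by simpa using sep 0 z0 0 z0)
      (by have := sep 0 z0 v mv; rwa [hy, add_zero] at this)
      (by have := sep v mv 0 z0; rwa [add_zero] at this)
      (by have := sep v mv v mv; rwa [hy] at this)
    have c5 : Commute s' (Equiv.swap x z) := dis (by simpa using sep' 0 n0 0 n0)
      (by have := sep' 0 n0 v' nv'; rwa [hz, add_zero] at this)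
      (by have := sep' v' nv' 0 n0; rwa [add_zero] at this)
      (by have := sep' v' nv' v' nv'; rwa [hz] at this)
    set g := Equiv.swap x y * Equiv.swap x z with hg
    have hgg : Equiv.swap x y * s * (Equiv.swap x z * s') = g * (s * s') := by
      rw [hg, mul_assoc, ← mul_assoc s, c1.eq]; group
    have hc : Commute (s * s') g := ((c4.mul_right c1).mul_left (c2.mul_right c5))
    have hss : (s * s') * (s * s') = 1 := by
      rw [c3.symm.mul_mul_mul_comm, Equiv.swap_mul_self, Equiv.swap_mul_self, one_mul]
    have hsq : g * g ∈ K := by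
      have := K.mul_mem (K.mul_mem h1 h2) (K.mul_mem h1 h2)
      rwa [hgg, hc.mul_mul_mul_comm, hss, mul_one] at this
    have h3g : g * g * g = 1 := by
      have : Finite W := Module.finite_of_finite (ZMod 2)
      let : Fintype W := Fintype.ofFinite W
      have := (Equiv.Perm.isThreeCycle_swap_mul_swap_same hxy hxz hyz).orderOf
      rw [← pow_three', ← this]
      exact pow_orderOf_eq_one g
    rw [eq_inv_of_mul_eq_one_right h3g]
    exact K.inv_mem hsq
  by_cases hac : a = c
  · subst hac
    rcases eq_or_ne b d with rfl | hbd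
    · rw [Equiv.swap_mul_self]; exact K.one_mem
    · exact key hab hcd hbd
  rcases eq_or_ne b c with rfl | hbc
  · rw [Equiv.swap_comm a b]
    rcases eq_or_ne a d with rfl | had
    · rw [Equiv.swap_mul_self]; exact K.one_mem
    · exact key hab.symm hcd had
  rcases eq_or_ne a d with rfl | had
  · rw [Equiv.swap_comm c a]
    exact key hab (Ne.symm hcd) hbc
  rcases eq_or_ne b d with rfl | hbd
  · rw [Equiv.swap_comm a b, Equiv.swap_comm c b]
    exact key hab.symm (Ne.symm hcd) hac
  have := K.mul_mem (key hab hac hbc) (key (Ne.symm hac) hcd had)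
  rw [Equiv.swap_comm c a, mul_assoc, ← mul_assoc (Equiv.swap a c), Equiv.swap_mul_self, one_mul] at this
  exact this

end CfsgLib.ExtraTypeMax

namespace CfsgLib.ExtraTypeMax

open CfsgLib.GeomClasses CfsgLib.GeomClasses.Frame CfsgLib.Orth Module

variable {ι : Type} [Fintype ι] [DecidableEq ι] {F : Type*} [Field F] {q : QuadraticForm F (ι → F)} {n : ℕ}
  {b : Fin n → ι → F} {c : F} {W : Type*} [AddCommGroup W] [Module (ZMod 2) W] [FiniteDimensional (ZMod 2) W]
  [DecidableEq W]

theorem perm_sgn_conj (h : IsFrame q b c) (σ : Equiv.Perm (Fin n)) (K : Finset (Fin n)) :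
    h.perm σ * h.sgn K * (h.perm σ)⁻¹ = h.sgn (K.map σ.toEmbedding) := by
  rw [mul_inv_eq_iff_eq_mul]
  refine ext_app fun x => h.ext_co fun i => ?_
  rw [app_mul, app_mul, h.co_perm, h.co_sgn, h.co_sgn, h.co_perm]
  simp only [Finset.mem_map_equiv]

/-- The generators of the frame group from shears and sign changes of affine hyperplanes. -/
theorem hasGens_of_gates (h : IsFrame q b c) (X : Subgroup (O q)) (e : W ≃ Fin n)
    (h3 : 3 ≤ finrank (ZMod 2) W)
    (hperm : ∀ φ ψ : W →ₗ[ZMod 2] ZMod 2, ∀ p v (hv : v ∈ LinearMap.ker φ ⊓ LinearMap.ker ψ),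
      h.perm (e.permCongr (shear (LinearMap.ker φ ⊓ LinearMap.ker ψ) p v hv)) ∈ X)
    (hsign : ∀ (φ : W →ₗ[ZMod 2] ZMod 2) (s : ZMod 2),
      h.sgn (Finset.univ.filter fun i => φ (e.symm i) = s) ∈ X) : HasGens b X := by
  let π : Equiv.Perm W →* O q := MonoidHom.mk' (fun σ => h.perm (e.permCongr σ)) fun σ τ => by
    rw [← h.perm_mul]
    congr 1
    exact Equiv.ext fun x => by simp [Equiv.permCongr_apply]
  have hsw : ∀ {i j k l : Fin n}, i ≠ j → k ≠ l → h.perm (Equiv.swap i j * Equiv.swap k l) ∈ X := by
    intro i j k l hij hkl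
    have := double_swap_mem (X.comap π) (fun φ ψ p v hv => hperm φ ψ p v hv) h3
      (a := e.symm i) (b := e.symm j) (c := e.symm k) (d := e.symm l) (e.symm.injective.ne hij)
      (e.symm.injective.ne hkl)
    rw [Subgroup.mem_comap] at this
    convert this using 1
    show _ = h.perm (e.permCongr _)
    congr 1
    exact Equiv.ext fun x => by
      simp [Equiv.permCongr_apply, Equiv.Perm.mul_apply, ← e.injective.swap_apply]
  refine ⟨fun i j hij => ?_, fun i j k l hij hkl => ?_⟩
  · rw [← h.sgn_pair hij]
    have hne : e.symm i + e.symm j ≠ 0 := fun e0 => hij (e.symm.injective (v_add_eq_zero.1 e0))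
    obtain ⟨φ, -, hφ⟩ := exists_dual (U := (⊥ : Submodule (ZMod 2) W)) (by simpa using hne)
    obtain ⟨z, hz, hz0⟩ := Submodule.exists_mem_ne_zero_of_ne_bot (p := LinearMap.ker φ) fun e0 => by
      have h1 := φ.finrank_range_add_finrank_ker
      have h2 := (LinearMap.range φ).finrank_le
      rw [e0, finrank_bot] at h1
      rw [Module.finrank_self] at h2
      omega
    set S := Finset.univ.filter fun t => φ (e.symm t) = φ (e.symm i) with hS
    set k := e (e.symm j + z) with hk
    have hjS : j ∉ S := by
      simp only [hS, Finset.mem_filter, Finset.mem_univ, true_and]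
      intro e0
      rw [map_add, e0, CharTwo.add_self_eq_zero] at hφ
      exact zero_ne_one hφ
    have hkS : k ∉ S := by
      simp only [hS, hk, Finset.mem_filter, Finset.mem_univ, true_and, Equiv.symm_apply_apply, map_add]
      rw [LinearMap.mem_ker.1 hz, add_zero]
      simpa [hS] using hjS
    have hjk : j ≠ k := fun e0 => hz0 (by
      have := congrArg e.symm e0
      rwa [hk, Equiv.symm_apply_apply, left_eq_add] at this)
    have hiS : i ∈ S := by simp [hS]
    have hik : i ≠ k := fun e0 => hkS (e0 ▸ hiS)
    set σ : Equiv.Perm (Fin n) := Equiv.swap i j * Equiv.swap j k with hσ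
    have hmem := X.mul_mem (X.mul_mem (X.mul_mem (hsw hij hjk) (hsign φ (φ (e.symm i))))
      (X.inv_mem (hsw hij hjk))) (hsign φ (φ (e.symm i)))
    rw [perm_sgn_conj h, h.sgn_mul] at hmem
    convert hmem using 2
    ext t
    have hσi : σ i = j := by
      rw [hσ, Equiv.Perm.mul_apply, Equiv.swap_apply_of_ne_of_ne hij hik, Equiv.swap_apply_left]
    have hfix : ∀ t ∈ S, t ≠ i → σ t = t := fun t ht hti => by
      have htj : t ≠ j := fun e0 => hjS (e0 ▸ ht)
      have htk : t ≠ k := fun e0 => hkS (e0 ▸ ht)
      rw [hσ, Equiv.Perm.mul_apply, Equiv.swap_apply_of_ne_of_ne htj htk, Equiv.swap_apply_of_ne_of_ne hti htj]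
    rw [← hS, Finset.mem_symmDiff, Finset.mem_map, Finset.mem_insert, Finset.mem_singleton]
    simp only [Equiv.toEmbedding_apply]
    constructor
    · rintro (rfl | rfl)
      · refine Or.inr ⟨hiS, fun ⟨a, ha, hai⟩ => ?_⟩
        rcases eq_or_ne a t with rfl | hne'
        · rw [hσi] at hai; exact hij hai.symm
        · rw [hfix a ha hne'] at hai; exact hne' hai
      · exact Or.inl ⟨⟨i, hiS, hσi⟩, hjS⟩
    · rintro (⟨⟨a, ha, rfl⟩, ht⟩ | ⟨ht, hne'⟩)
      · rcases eq_or_ne a i with rfl | hai
        · exact Or.inr hσi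
        · exact absurd (by rw [hfix a ha hai]; exact ha) ht
      · left
        by_contra hti
        exact hne' ⟨t, ht, hfix t ht hti⟩
  · rw [← h.perm_swap hij, ← h.perm_swap hkl, ← h.perm_mul]
    exact hsw hij hkl

end CfsgLib.ExtraTypeMax
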