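import Cfsg.Agent.Lib.ExtraTypeMax.CaseOne

/-!
The gates of two orthogonal singular vectors in an overgroup that is not controlled by the normalizer.
-/

set_option autoImplicit false
set_option linter.unusedSectionVars false

namespace CfsgLib.ExtraTypeMax

open Matrix CfsgLib.GeomClasses

variable {ι : Type} [Fintype ι] [DecidableEq ι] {F : Type*} [Field F]
  {V : Type*} [AddCommGroup V] [Module (ZMod 2) V]

/-- The gates of two orthogonal singular vectors. -/
def Gate2 (S : QS V) (r : V → GL ι F) (X : Subgroup (GL ι F)) : Prop :=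
  ∀ a₁ a₂ t, a₁ ≠ 0 → S.Q a₁ = 0 → S.Q a₂ = 0 → S.B a₁ a₂ = 0 → S.B a₁ t = 0 → S.B a₂ t = 0 →
    ∀ A₁ A₂ T, PM A₁ (r a₁) → PM A₂ (r a₂) → PM T (r t) → InX X (1 + pr A₁ * pr A₂ * (mt T - 1))

namespace Ext

variable [FiniteDimensional (ZMod 2) V] {S : QS V} {f : (ι → F) → (ι → F) → F} {r : V → GL ι F}
  {G : Subgroup (GL ι F)} (E : Ext S f r G)
include E

theorem pm_commute {a b : V} (h : S.B a b = 0) {A B : GL ι F} (hA : PM A (r a)) (hB : PM B (r b)) :
    Commute (mt A) (mt B) := by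
  have h1 : Commute (mt (r a)) (mt (r b)) := congrArg Units.val (E.r_comm0 h)
  rcases hA with rfl | rfl <;> rcases hB with rfl | rfl
  · exact h1
  · exact h1.neg_right
  · exact h1.neg_left
  · exact h1.neg_left.neg_right

theorem commute_pr_of_B {a b : V} (h : S.B a b = 0) {A B : GL ι F} (hA : PM A (r a)) (hB : PM B (r b)) :
    Commute (pr A) (mt B) :=
  ((Commute.one_left _).add_left (E.pm_commute h hA hB)).smul_left _

theorem pr_idem_singular {a : V} (h : S.Q a = 0) {A : GL ι F} (hA : PM A (r a)) : pr A * pr A = pr A := by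
  have hA2 : A * A = 1 := by
    rcases hA with rfl | rfl <;> simp [E.r_sq, h]
  have e : mt A * mt A = 1 := congrArg Units.val hA2
  rw [pr, smul_mul_smul_comm, add_mul, mul_add, mul_add, one_mul, mul_one, one_mul, e,
    show 1 + mt A + (mt A + 1) = (2 : F) • (1 + mt A) by rw [two_smul]; abel, smul_smul]
  congr 1
  field_simp [E.two]

theorem pr_add_neg {A : GL ι F} : pr A + pr (-A) = 1 := by
  rw [pr, pr, mt_neg, ← smul_add, show 1 + mt A + (1 + -mt A) = (2 : F) • (1 : Matrix ι ι F) by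
    rw [two_smul]; abel, smul_smul, inv_mul_cancel₀ E.two, one_smul]

/-- Products of gates for one pair of singular vectors. -/
theorem gate_mul {a₁ a₂ c : V} (h1 : S.Q a₁ = 0) (h2 : S.Q a₂ = 0) (h12 : S.B a₁ a₂ = 0)
    (hc1 : S.B a₁ c = 0) (hc2 : S.B a₂ c = 0) {A₁ A₂ C D : GL ι F} (hA₁ : PM A₁ (r a₁))
    (hA₂ : PM A₂ (r a₂)) (hC : PM C (r c)) :
    (1 + pr A₁ * pr A₂ * (mt C - 1)) * (1 + pr A₁ * pr A₂ * (mt D - 1)) =
      1 + pr A₁ * pr A₂ * (mt (C * D) - 1) := by
  have hp : Commute (pr A₁) (pr A₂) :=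
    ((Commute.one_right _).add_right (E.commute_pr_of_B h12 hA₁ hA₂)).smul_right _
  set P := pr A₁ * pr A₂ with hP
  have hPP : P * P = P := by
    calc P * P = pr A₁ * pr A₁ * (pr A₂ * pr A₂) := by rw [hP]; exact hp.symm.mul_mul_mul_comm _ _
      _ = P := by rw [E.pr_idem_singular h1 hA₁, E.pr_idem_singular h2 hA₂]
  have hPC : (mt C - 1) * P = P * (mt C - 1) :=
    (((E.commute_pr_of_B hc1 hA₁ hC).mul_left (E.commute_pr_of_B hc2 hA₂ hC)).sub_right (Commute.one_right _)).eq.symm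
  calc (1 + P * (mt C - 1)) * (1 + P * (mt D - 1))
      = 1 + P * (mt C - 1) + P * (mt D - 1) + P * ((mt C - 1) * P) * (mt D - 1) := by noncomm_ring
    _ = _ := by rw [hPC, ← mul_assoc P, hPP, Units.val_mul]; noncomm_ring

variable [Fintype F] {X : Subgroup (GL ι F)} (hMX : E.M ≤ X) (hXG : X ≤ G)
include hMX hXG

/-- Failure of control at one singular vector gives every gate. -/
theorem gate2 {a : V} (hQ : S.Q a = 0) (ha : a ≠ 0) {x : GL ι F} (hx : x ∈ X) (hxa : x * r a = r a * x)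
    (hxM : x ∉ E.M) : Gate2 S r X := by
  intro a₁ a₂ t h0 hQ1 hQ2 h12 ht1 ht2 A₁ A₂ T hA₁ hA₂ hT
  obtain ⟨m, hm, -, hma⟩ := E.move ⊥ (by rw [finrank_bot]; have := E.eight; omega) (v := a) (v' := a₁)
    (by simpa using ha) (by simpa using h0) (by rw [hQ, hQ1]) (fun s hs => by simp [(Submodule.mem_bot _).1 hs])
  have hxa' : m * x * m⁻¹ * r a₁ = r a₁ * (m * x * m⁻¹) := by
    have h : Commute (m * x * m⁻¹) (m * r a * m⁻¹) := (Commute.conj_iff m).2 hxa
    rcases hma with e | e <;> rw [e] at h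
    · exact h.eq
    · exact (Commute.neg_right_iff.1 h).eq
  have hG1 : GateOne S r X a₁ := E.gateOne hMX hXG hQ1 h0 (X.mul_mem (X.mul_mem (hMX hm) hx) (X.inv_mem (hMX hm)))
    hxa' fun h => hxM (by
      have := E.M.mul_mem (E.M.mul_mem (E.M.inv_mem hm) h) hm
      simpa [mul_assoc] using this)
  -- non-singular third vectors
  have base : ∀ c C, S.Q c = 1 → S.B a₁ c = 0 → S.B a₂ c = 0 → PM C (r c) →
      InX X (1 + pr A₁ * pr A₂ * (mt C - 1)) := by
    intro c C hc hc1 hc2 hC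
    have hd : S.Q (c + a₂) = 1 := by rw [S.Q_add, hc, hQ2, S.B_comm, hc2, add_zero, add_zero]
    have hD : PM (C * A₂) (r (c + a₂)) := (hC.mul hA₂).trans (E.r_add _ _)
    have h := hG1 A₁ hA₁ c (c + a₂) hc hd hc1 (by rw [map_add, hc1, h12, add_zero]) C (C * A₂) hC hD
    obtain ⟨hC2, -⟩ := E.lift_facts hc hC
    obtain ⟨hD2, -⟩ := E.lift_facts hd hD
    have e2 : mt C * mt C = -1 := congrArg Units.val hC2
    have hg : mt (gp C (C * A₂)) = 1 + pr A₂ * (mt C - 1) := by
      rw [mt_gp E.two hC2 hD2, pmat, pr, Units.val_mul, smul_mul_assoc,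
        show (1 + mt C) * (1 + mt C * mt A₂) = (2 : F) • (1 : Matrix ι ι F) + (1 + mt A₂) * (mt C - 1) by
          simp only [add_mul, mul_add, one_mul, mul_one, mul_sub, two_smul, ← mul_assoc, e2,
            (E.pm_commute hc2 hA₂ hC).eq, neg_one_mul]
          abel,
        smul_add, smul_smul, inv_mul_cancel₀ E.two, one_smul]
    have hcom : Commute (pr A₂ * (mt C - 1)) (pr A₁) :=
      (((((Commute.one_right _).add_right (E.commute_pr_of_B h12 hA₁ hA₂)).smul_right _)).mul_right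
        ((E.commute_pr_of_B hc1 hA₁ hC).sub_right (Commute.one_right _))).symm
    have e : mt (gp C (C * A₂)) * pr A₁ + pr (-A₁) = 1 + pr A₁ * pr A₂ * (mt C - 1) := by
      rw [hg, add_mul, one_mul, hcom.eq, add_right_comm, E.pr_add_neg, mul_assoc]
    rwa [e] at h
  rcases z2 (S.Q t) with hq | hq
  swap
  · exact base t T hq ht1 ht2 hT
  obtain ⟨e, he, hQe⟩ := S.exists_Q_one (W := S.lperp [a₁, a₂, t]) (S.ni_of_lt (by
    have := S.finrank_lperp [a₁, a₂, t]; have := E.eight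
    simp only [List.length_cons, List.length_nil] at *; omega))
  have hm1 := S.mem_lperp.1 he a₁ (by simp)
  have hm2 := S.mem_lperp.1 he a₂ (by simp)
  have hm3 := S.mem_lperp.1 he t (by simp)
  set C := r (t + e)
  have hC' : PM (C⁻¹ * T) (r e) := by
    refine (((E.r_inv (t + e)).mul hT).trans (E.r_add _ _)).trans ?_
    rw [add_right_comm, v_add_self, zero_add]
    exact PM.refl _
  have h := (base (t + e) C (by rw [S.Q_add, hq, hQe, hm3, zero_add, add_zero])
    (by rw [map_add, ht1, hm1, add_zero]) (by rw [map_add, ht2, hm2, add_zero]) (PM.refl _)).mul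
    (base e (C⁻¹ * T) hQe hm1 hm2 hC')
  rwa [E.gate_mul hQ1 hQ2 h12 (by rw [map_add, ht1, hm1, add_zero]) (by rw [map_add, ht2, hm2, add_zero])
    hA₁ hA₂ (PM.refl _), mul_inv_cancel_left] at h

end Ext

end CfsgLib.ExtraTypeMax
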