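import Cfsg.Agent.Lib.ExtraTypeMax.Imprim
import Cfsg.Agent.Lib.ExtraTypeMax.Gates
import Cfsg.Agent.Lib.ExtraTypeMax.FrameGates
import Cfsg.Agent.Lib.GeomClasses.FrameSmall

/-!
The gates give the orthogonal commutator subgroup of the index set.
-/

set_option autoImplicit false
set_option linter.unusedSectionVars false

namespace CfsgLib.ExtraTypeMax

open Matrix Module CfsgLib.GeomClasses CfsgLib.GeomClasses.Frame CfsgLib.Orth

variable {ι : Type} [Fintype ι] [DecidableEq ι] {F : Type*} [Field F]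
  {V : Type*} [AddCommGroup V] [Module (ZMod 2) V] [FiniteDimensional (ZMod 2) V]
  {S : QS V} {f : (ι → F) → (ι → F) → F} {r : V → GL ι F} {G : Subgroup (GL ι F)}

theorem Ext.gate_any (E : Ext S f r G) {X : Subgroup (GL ι F)} (hR : E.R ≤ X) (hG2 : Gate2 S r X) {a₁ a₂ t : V}
    (h1 : S.Q a₁ = 0) (h2 : S.Q a₂ = 0) (h12 : S.B a₁ a₂ = 0) (ht1 : S.B a₁ t = 0) (ht2 : S.B a₂ t = 0)
    {A₁ A₂ T : GL ι F} (hA₁ : PM A₁ (r a₁)) (hA₂ : PM A₂ (r a₂)) (hT : PM T (r t)) :
    InX X (1 + pr A₁ * pr A₂ * (mt T - 1)) := by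
  have hone : pr (1 : GL ι F) = 1 := by
    rw [pr, Units.val_one, ← two_smul F (1 : Matrix ι ι F), smul_smul, inv_mul_cancel₀ E.two, one_smul]
  have hneg : pr (-1 : GL ι F) = 0 := by rw [pr, Units.val_neg, Units.val_one, add_neg_cancel, smul_zero]
  by_cases ha : a₁ = 0
  swap
  · exact hG2 a₁ a₂ t ha h1 h2 h12 ht1 ht2 A₁ A₂ T hA₁ hA₂ hT
  subst ha
  rw [E.r_zero] at hA₁
  rcases hA₁ with rfl | rfl
  swap
  · rw [hneg, zero_mul, zero_mul, add_zero]; exact InX.one X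
  rw [hone, one_mul]
  by_cases ha : a₂ = 0
  · subst ha
    rw [E.r_zero] at hA₂
    rcases hA₂ with rfl | rfl
    · rw [hone, one_mul, add_sub_cancel]
      exact InX.of_mem (hR ⟨t, hT⟩)
    · rw [hneg, zero_mul, add_zero]; exact InX.one X
  have := hG2 a₂ 0 t ha h2 S.Q_zero (map_zero _) ht2 (by rw [map_zero, LinearMap.zero_apply]) A₂ 1 T hA₂
    (by rw [E.r_zero]; exact PM.refl 1) hT
  rwa [hone, mul_one] at this

namespace Imp

noncomputable local instance subFintype' (U : Submodule (ZMod 2) V) : Fintype U :=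
  @Fintype.ofFinite U (Module.finite_of_finite (ZMod 2))

variable (D : Imp S r) (E : Ext S f r G)
include E

theorem sgn_χ_pm (e : D.U) (s : ZMod 2) : PM (sgn s * D.χ e) (r (e : V)) :=
  (pm_iff.2 ⟨s, rfl⟩ : PM (sgn s * D.χ e) (D.χ e)).trans (D.χ_pm e)

theorem pr_χ (e : D.U) (s : ZMod 2) :
    pr (sgn s * D.χ e) = D.phi (diagonal fun i => if S.B (e : V) (D.idx.symm i) = s then (1 : F) else 0) := by
  rw [pr, sgn_mul_mt, ← D.phi_χ E e, ← D.phi_one E, ← D.phi_smul, ← D.phi_add, ← D.phi_smul, ← diagonal_one,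
    ← diagonal_smul, diagonal_add, ← diagonal_smul]
  congr 2
  funext i
  simp only [Pi.smul_apply, smul_eq_mul]
  rcases z2 (S.B (e : V) (D.idx.symm i)) with h | h <;> rcases z2 s with rfl | rfl <;> simp [h]
  all_goals first
    | (rw [← two_mul, mul_one, inv_mul_cancel₀ E.two])
    | (rw [show (1 : F) + 1 = 2 by norm_num, inv_mul_cancel₀ E.two])

theorem pr_τ (x : D.W) : pr (D.τ x) = D.phi ((2 : F)⁻¹ • (1 + pmatrix (D.trans x))) := by
  rw [pr, ← D.phi_τ E x, ← D.phi_one E, ← D.phi_add, ← D.phi_smul]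

variable [Fintype F] {X : Subgroup (GL ι F)} (hR : E.R ≤ X) (hXG : X ≤ G) (hG2 : Gate2 S r X)
include hR hXG hG2

theorem mem_of_inX {A : Matrix (Fin D.n) (Fin D.n) F} (h : InX X (D.phi A)) :
    ∃ γ ∈ X.comap (D.phiO E), mt (γ : GL (Fin D.n) F) = A := by
  obtain ⟨g, hg, hgA⟩ := h
  obtain ⟨γ, hγ, hγg⟩ := D.exists_phiO E (E.gIso g (hXG hg)) hgA
  exact ⟨γ, by rw [Subgroup.mem_comap, hγg]; exact hg, hγ⟩

theorem shear_gate (φ ψ : D.W →ₗ[ZMod 2] ZMod 2) (p v : D.W)
    (hv : v ∈ LinearMap.ker φ ⊓ LinearMap.ker ψ) :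
    (frame0 E.two D.n).perm (D.idx.permCongr (shear (LinearMap.ker φ ⊓ LinearMap.ker ψ) p v hv)) ∈
      X.comap (D.phiO E) := by
  classical
  obtain ⟨e₁, he₁⟩ := D.exists_U_repr φ
  obtain ⟨e₂, he₂⟩ := D.exists_U_repr ψ
  have hv1 : φ v = 0 := LinearMap.mem_ker.1 hv.1
  have hv2 : ψ v = 0 := LinearMap.mem_ker.1 hv.2
  have hg := E.gate_any hR hG2 (D.tsU _ e₁.2) (D.tsU _ e₂.2) (D.tsU.B_eq e₁.2 e₂.2)
    (t := (v : V)) (by rw [he₁, hv1]) (by rw [he₂, hv2])
    (D.sgn_χ_pm E e₁ (φ p)) (D.sgn_χ_pm E e₂ (ψ p)) (D.τ_pm v)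
  rw [D.pr_χ E, D.pr_χ E, ← D.phi_mul E, ← D.phi_τ E v, ← D.phi_one E, ← D.phi_sub E, ← D.phi_mul E,
    ← D.phi_add, diagonal_mul_diagonal] at hg
  obtain ⟨γ, hγ, hγA⟩ := D.mem_of_inX E hR hXG hG2 hg
  convert hγ using 1
  refine Subtype.ext (Units.ext ?_)
  rw [D.mt_perm E, hγA]
  refine Matrix.ext fun i j => ?_
  obtain ⟨x, rfl⟩ := D.idx.surjective j
  simp only [Matrix.add_apply, Matrix.sub_apply, diagonal_mul, pmatrix, Matrix.of_apply, Matrix.one_apply,
    he₁, he₂, D.trans_apply E]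
  have hsh : D.idx.permCongr (shear (LinearMap.ker φ ⊓ LinearMap.ker ψ) p v hv) (D.idx x) =
      D.idx (shear (LinearMap.ker φ ⊓ LinearMap.ker ψ) p v hv x) := by
    rw [Equiv.permCongr_apply, Equiv.symm_apply_apply]
  simp only [hsh, Equiv.symm_apply_apply]
  have hmem : x + p ∈ LinearMap.ker φ ⊓ LinearMap.ker ψ ↔ φ x = φ p ∧ ψ x = ψ p := by
    simp only [Submodule.mem_inf, LinearMap.mem_ker, map_add]
    constructor <;> rintro ⟨a, b⟩
    · exact ⟨v_add_eq_zero.1 a, v_add_eq_zero.1 b⟩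
    · exact ⟨v_add_eq_zero.2 a, v_add_eq_zero.2 b⟩
  by_cases hU : x + p ∈ LinearMap.ker φ ⊓ LinearMap.ker ψ
  · rw [shear_of_mem hv hU]
    obtain ⟨a, b⟩ := hmem.1 hU
    by_cases hij : i = D.idx (x + v)
    · subst hij
      simp [map_add, hv1, hv2, a, b]
    · by_cases hij' : i = D.idx x
      · subst hij'
        simp [hij, a, b]
      · simp [hij, hij']
  · rw [shear_of_not_mem hv hU]
    by_cases hd : φ (D.idx.symm i) = φ p ∧ ψ (D.idx.symm i) = ψ p
    · have hij : i ≠ D.idx x := fun e => hU (hmem.2 (by subst e; simpa using hd))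
      have hij2 : i ≠ D.idx (x + v) := fun e => hU (hmem.2 (by
        subst e
        simpa [map_add, hv1, hv2] using hd))
      simp [hij, hij2]
    · rw [not_and_or] at hd
      rcases hd with h | h <;> simp [h]

theorem sign_gate (φ : D.W →ₗ[ZMod 2] ZMod 2) (s : ZMod 2) :
    (frame0 E.two D.n).sgn (Finset.univ.filter fun i => φ (D.idx.symm i) = s) ∈ X.comap (D.phiO E) := by
  obtain ⟨e, he⟩ := D.exists_U_repr φ
  have hmem : InX X (D.phi (diagonal fun i => if φ (D.idx.symm i) = s then (-1 : F) else 1)) := by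
    refine ⟨sgn (s + 1) * D.χ e, X.mul_mem (hR (E.sgn_mem_R _)) (hR ⟨e, D.χ_pm e⟩), ?_⟩
    rw [sgn_mul_mt, ← D.phi_χ E, ← D.phi_smul, ← diagonal_smul]
    congr 2
    funext i
    simp only [Pi.smul_apply, smul_eq_mul, he]
    rcases z2 (φ (D.idx.symm i)) with h | h <;> rcases z2 s with rfl | rfl <;>
      simp [h, CharTwo.add_self_eq_zero]
  obtain ⟨γ, hγ, hγA⟩ := D.mem_of_inX E hR hXG hG2 hmem
  convert hγ using 1
  refine Subtype.ext (Units.ext ?_)
  rw [D.mt_sgnK E, hγA]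
  simp

/-- The orthogonal commutator subgroup of the index set. -/
theorem omega_le (p : ℕ) [Fact p.Prime] [CharP F p] (hcard : Nat.card F = p) (hW : 3 ≤ finrank (ZMod 2) D.W) :
    commutator (O (sq0 F D.n)) ≤ X.comap (D.phiO E) := by
  classical
  have h := frame0 (F := F) E.two D.n
  set b : Fin D.n → Fin D.n → F := fun i => Pi.single i 1 with hb
  have hgens : HasGens b (X.comap (D.phiO E)) := hasGens_of_gates h _ D.idx hW
    (fun φ ψ p v hv => D.shear_gate E hR hXG hG2 φ ψ p v hv) (fun φ s => D.sign_gate E hR hXG hG2 φ s)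
  have hn : 8 ≤ D.n := by rw [D.n_eq]; exact le_trans (le_of_eq (by norm_num)) (Nat.pow_le_pow_right two_pos hW)
  -- two translations and a sign
  obtain ⟨z, hz⟩ := exists_not_mem (U := (⊥ : Submodule (ZMod 2) D.W)) (by rw [finrank_bot]; omega)
  obtain ⟨μ, -, hμz⟩ := exists_dual hz
  have hker : 2 ≤ finrank (ZMod 2) (LinearMap.ker μ) := by
    have h1 := μ.finrank_range_add_finrank_ker
    have h2 := (LinearMap.range μ).finrank_le
    rw [Module.finrank_self] at h2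
    omega
  obtain ⟨t₁, ht₁, ht₁0⟩ := Submodule.exists_mem_ne_zero_of_ne_bot (p := LinearMap.ker μ) fun e => by
    rw [e, finrank_bot] at hker; omega
  obtain ⟨t₂, ht₂, ht₂1⟩ : ∃ t₂ ∈ LinearMap.ker μ, t₂ ∉ Submodule.span (ZMod 2) {t₁} :=
    SetLike.not_le_iff_exists.1 fun hle => by
      have h1 := Submodule.finrank_mono hle
      rw [finrank_span_singleton ht₁0] at h1
      omega
  obtain ⟨e, he⟩ := D.exists_U_repr μ
  have hm1 : μ t₁ = 0 := LinearMap.mem_ker.1 ht₁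
  have hm2 : μ t₂ = 0 := LinearMap.mem_ker.1 ht₂
  have hg := E.gate_any hR hG2 (D.tsW _ t₁.2) (D.tsW _ t₂.2) (D.tsW.B_eq t₁.2 t₂.2)
    (t := (e : V)) (by rw [S.B_comm, he, hm1]) (by rw [S.B_comm, he, hm2])
    (D.τ_pm t₁) (D.τ_pm t₂) (D.χ_pm e)
  rw [D.pr_τ E, D.pr_τ E, ← D.phi_mul E, ← D.phi_χ E e, ← D.phi_one E, ← D.phi_sub E, ← D.phi_mul E,
    ← D.phi_add] at hg
  obtain ⟨γ, hγ, hγA⟩ := D.mem_of_inX E hR hXG hG2 hg
  have hap : ∀ j, app γ (b j) = b j + (sgF (μ (D.idx.symm j)) - 1 : F) • ((2 : F)⁻¹ * (2 : F)⁻¹) •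
      (b j + b (D.trans t₂ j) + (b (D.trans t₁ j) + b (D.trans t₁ (D.trans t₂ j)))) := by
    intro j
    rw [app_apply, hγA, add_mulVec, one_mulVec, ← mulVec_mulVec, sub_mulVec, one_mulVec]
    have hd : (diagonal fun i => (sgF (S.B (e : V) (D.idx.symm i)) : F)) *ᵥ b j - b j =
        (sgF (μ (D.idx.symm j)) - 1 : F) • b j := by
      rw [hb]
      refine funext fun i => ?_
      simp only [Pi.sub_apply, mulVec_diagonal, Pi.smul_apply, smul_eq_mul, he]
      rcases eq_or_ne i j with rfl | hij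
      · simp
      · simp [Pi.single_eq_of_ne hij]
    have hp : ∀ (σ : Equiv.Perm (Fin D.n)) (i : Fin D.n), pmatrix σ *ᵥ b i = b (σ i) := fun σ i => by
      rw [hb, mulVec_single_one]
      exact funext fun l => by simp [pmatrix, Pi.single_apply]
    rw [hd, mulVec_smul, ← mulVec_mulVec]
    simp only [smul_mulVec, add_mulVec, one_mulVec, mulVec_add, mulVec_smul, hp, smul_smul, smul_add, add_smul]
    module
  have hfix : ∀ j, μ (D.idx.symm j) = 0 → app γ (b j) = b j := fun j hj => by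
    rw [hap, hj, sgF_zero, sub_self, zero_smul, add_zero]
  have hne : ¬ Mono b γ := by
    intro hmono
    set j := D.idx z with hj
    obtain ⟨k, hk⟩ := hmono j
    rw [hap, hj, Equiv.symm_apply_apply, hμz, sgF_one, ← hj] at hk
    have n1 : D.trans t₁ j ≠ j := fun e' => ht₁0 (by
      have := congrArg D.idx.symm e'
      simpa [hj, D.trans_apply E] using this)
    have n2 : D.trans t₂ j ≠ j := fun e' => ht₂1 (by
      have := congrArg D.idx.symm e'
      simp [hj, D.trans_apply E] at this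
      rw [this]; exact zero_mem _)
    have n3 : D.trans t₁ (D.trans t₂ j) ≠ j := fun e' => ht₂1 (by
      have := congrArg D.idx.symm e'
      simp [hj, D.trans_apply E, add_assoc] at this
      rw [v_add_eq_zero] at this
      rw [this]; exact Submodule.mem_span_singleton_self _)
    have n4 : D.trans t₂ j ≠ D.trans t₁ j := fun e' => ht₂1 (by
      have := congrArg D.idx.symm e'
      simp [hj, D.trans_apply E] at this
      rw [this]; exact Submodule.mem_span_singleton_self _)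
    have n5 : D.trans t₁ (D.trans t₂ j) ≠ D.trans t₁ j := fun e' => n2 ((D.trans t₁).injective e')
    have h4 : ((-1 : F) - 1) * ((2 : F)⁻¹ * (2 : F)⁻¹) = -(2 : F)⁻¹ := by
      field_simp [E.two]; ring
    rw [smul_smul, h4] at hk
    have hh : (2 : F)⁻¹ ≠ 0 := inv_ne_zero E.two
    have c1 : (b j + (-(2 : F)⁻¹) • (b j + b (D.trans t₂ j) + (b (D.trans t₁ j) + b (D.trans t₁ (D.trans t₂ j))))) j
        = (2 : F)⁻¹ := by
      simp [hb, Pi.single_eq_of_ne n1.symm, Pi.single_eq_of_ne n2.symm, Pi.single_eq_of_ne n3.symm]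
      field_simp [E.two]; ring
    have c2 : (b j + (-(2 : F)⁻¹) • (b j + b (D.trans t₂ j) + (b (D.trans t₁ j) + b (D.trans t₁ (D.trans t₂ j)))))
        (D.trans t₁ j) = -(2 : F)⁻¹ := by
      simp [hb, Pi.single_eq_of_ne n1, Pi.single_eq_of_ne n4.symm, Pi.single_eq_of_ne n5.symm]
    have e1 : j = k := by
      by_contra hjk
      rcases hk with e' | e' <;> rw [e'] at c1 <;>
        simp [hb, Pi.single_eq_of_ne hjk, hh.symm] at c1 <;> exact E.two c1
    have e2 : D.trans t₁ j = k := by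
      by_contra hjk
      rcases hk with e' | e' <;> rw [e'] at c2 <;>
        simp [hb, Pi.single_eq_of_ne hjk, hh.symm] at c2 <;> exact E.two c2
    exact n1 (e2.trans e1.symm)
  have h0' : μ (D.idx.symm (D.idx 0)) = 0 := by rw [Equiv.symm_apply_apply, map_zero]
  have h1' : μ (D.idx.symm (D.idx t₁)) = 0 := by rw [Equiv.symm_apply_apply, hm1]
  obtain ⟨f', hf, hf3, hfn⟩ := h.exists_start hgens (by omega) hγ
    (a := D.idx 0) (a' := D.idx t₁) (fun e' => ht₁0 (D.idx.injective e').symm)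
    (Or.inl (hfix _ h0')) (Or.inl (hfix _ h1')) hne
  exact h.commutator_le_of_root hgens p hcard (by omega) hf hf3 hfn

end Imp

end CfsgLib.ExtraTypeMax
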