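import Cfsg.Agent.Lib.ExtraTypeMax.TSub
import Cfsg.Agent.Lib.GeomClasses.FrameBase

/-!
The matrix units of a pair of totally singular subspaces with commuting lifts: the space is a sum of copies of
the common fixed space, indexed by the second subspace.
-/

set_option autoImplicit false
set_option linter.unusedSectionVars false

namespace CfsgLib.ExtraTypeMax

open Matrix Module CfsgLib.GeomClasses CfsgLib.GeomClasses.Frame CfsgLib.Orth

variable {ι : Type} [Fintype ι] [DecidableEq ι] {F : Type*} [Field F]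
  {V : Type*} [AddCommGroup V] [Module (ZMod 2) V]

/-- The sign in the field. -/
def sgF (x : ZMod 2) : F := if x = 0 then 1 else -1

@[simp] theorem sgF_zero : (sgF 0 : F) = 1 := if_pos rfl

@[simp] theorem sgF_one : (sgF 1 : F) = -1 := if_neg one_ne_zero

theorem sgF_add (x y : ZMod 2) : (sgF (x + y) : F) = sgF x * sgF y := by
  rcases z2 x with rfl | rfl <;> rcases z2 y with rfl | rfl <;> simp [CharTwo.add_self_eq_zero]

theorem mt_sgn (x : ZMod 2) : mt (sgn x : GL ι F) = (sgF x : F) • (1 : Matrix ι ι F) := by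
  rcases z2 x with rfl | rfl <;> simp

theorem sgn_mul_mt (x : ZMod 2) (g : GL ι F) : mt (sgn x * g) = (sgF x : F) • mt g := by
  rw [Units.val_mul, mt_sgn, smul_mul_assoc, one_mul]

theorem Ext.pm_comm [FiniteDimensional (ZMod 2) V] {S : QS V} {f : (ι → F) → (ι → F) → F} {r : V → GL ι F}
    {G : Subgroup (GL ι F)} (E : Ext S f r G) {a b : V} {A B : GL ι F} (hA : PM A (r a)) (hB : PM B (r b)) :
    mt A * mt B = (sgF (S.B a b) : F) • (mt B * mt A) := by
  rw [← Units.val_mul, ← Units.val_mul, ← sgn_mul_mt]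
  congr 1
  obtain ⟨x, rfl⟩ := pm_iff.1 hA
  obtain ⟨y, rfl⟩ := pm_iff.1 hB
  rw [show sgn x * r a * (sgn y * r b) = sgn x * (r a * sgn y) * r b by simp only [mul_assoc], ← sgn_mul_comm,
    show sgn y * r b * (sgn x * r a) = sgn y * (r b * sgn x) * r a by simp only [mul_assoc], ← sgn_mul_comm,
    mul_assoc, mul_assoc, E.r_comm, ← mul_assoc, ← mul_assoc, ← mul_assoc, ← mul_assoc, ← mul_assoc, ← sgn_add,
    ← sgn_add, ← mul_assoc, ← sgn_add, ← sgn_add]
  congr 2
  ring_nf

/-- The matrix of a permutation. -/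
def pmatrix {n : ℕ} (σ : Equiv.Perm (Fin n)) : Matrix (Fin n) (Fin n) F :=
  Matrix.of fun i j => if i = σ j then 1 else 0

/-- The sum of squares. -/
noncomputable def sq0 (F : Type*) [Field F] (n : ℕ) : QuadraticForm F (Fin n → F) :=
  QuadraticMap.weightedSumSquares F fun _ : Fin n => (1 : F)

theorem polar_sq0 {n : ℕ} (x y : Fin n → F) : QuadraticMap.polar (sq0 F n) x y = 2 * (x ⬝ᵥ y) := by
  simp only [QuadraticMap.polar, sq0, QuadraticMap.weightedSumSquares_apply, dotProduct, smul_eq_mul, one_mul,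
    Pi.add_apply, Finset.mul_sum, ← Finset.sum_sub_distrib]
  exact Finset.sum_congr rfl fun i _ => by ring

theorem sq0_single {n : ℕ} (i : Fin n) : sq0 F n (Pi.single i 1) = 1 := by
  simp [sq0, QuadraticMap.weightedSumSquares_apply, Pi.single_apply]

theorem frame0 (h2 : (2 : F) ≠ 0) (n : ℕ) : IsFrame (sq0 F n) (fun i => Pi.single i (1 : F)) 1 where
  nondeg := by
    refine ⟨fun x hx => funext fun i => ?_, fun x hx => funext fun i => ?_⟩
    · have h := hx (Pi.single i 1)
      rw [QuadraticMap.polarBilin_apply_apply, polar_sq0, dotProduct_single, mul_one] at h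
      exact (mul_eq_zero.1 h).resolve_left h2
    · have h := hx (Pi.single i 1)
      rw [QuadraticMap.polarBilin_apply_apply, polar_sq0, single_dotProduct, one_mul] at h
      exact (mul_eq_zero.1 h).resolve_left h2
  two := h2
  c_ne := one_ne_zero
  val := sq0_single
  orth i j hij := by rw [polar_sq0, single_dotProduct, one_mul, Pi.single_eq_of_ne hij, mul_zero]
  card_eq := Fintype.card_fin n

theorem transpose_mul_self_O (h2 : (2 : F) ≠ 0) {n : ℕ} (g : O (sq0 F n)) :
    (mt (g : GL (Fin n) F))ᵀ * mt (g : GL (Fin n) F) = 1 := by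
  refine Matrix.ext fun i j => mul_left_cancel₀ h2 ?_
  have h := polar_app g (Pi.single i (1 : F)) (Pi.single j 1)
  rw [app_apply, app_apply, mulVec_single_one, mulVec_single_one, polar_sq0, polar_sq0, single_dotProduct,
    one_mul] at h
  rw [Matrix.mul_apply, Matrix.one_apply]
  simpa [dotProduct, Pi.single_apply] using h

theorem exists_O {n : ℕ} {A : Matrix (Fin n) (Fin n) F} (h : Aᵀ * A = 1) :
    ∃ g : O (sq0 F n), mt (g : GL (Fin n) F) = A := by
  refine ⟨⟨⟨A, Aᵀ, mul_eq_one_comm.1 h, h⟩, fun x _ => ?_⟩, rfl⟩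
  simp only [Units.coeHom_apply]
  rw [sq0, QuadraticMap.weightedSumSquares_apply, QuadraticMap.weightedSumSquares_apply]
  simp only [smul_eq_mul, one_mul]
  show (A *ᵥ x) ⬝ᵥ (A *ᵥ x) = x ⬝ᵥ x
  rw [dotProduct_mulVec, ← mulVec_transpose, mulVec_mulVec, h, one_mulVec]

/-- The data of two totally singular subspaces with commuting lifts. -/
structure Imp (S : QS V) (r : V → GL ι F) where
  U : Submodule (ZMod 2) V
  W : Submodule (ZMod 2) V
  χ : U → GL ι F
  τ : W → GL ι F
  tsU : S.TS U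
  tsW : S.TS W
  dim_eq : finrank (ZMod 2) U = finrank (ZMod 2) W
  pairing : ∀ x ∈ W, (∀ e ∈ U, S.B e x = 0) → x = 0
  χ_add : ∀ a b, χ (a + b) = χ a * χ b
  τ_add : ∀ a b, τ (a + b) = τ a * τ b
  χ_pm : ∀ a, PM (χ a) (r (a : V))
  τ_pm : ∀ a, PM (τ a) (r (a : V))
  n : ℕ
  idx : W ≃ Fin n

/-- Adjointness for a form. -/
def Adj (f : (ι → F) → (ι → F) → F) (m m' : Matrix ι ι F) : Prop := ∀ u v, f (m *ᵥ u) v = f u (m' *ᵥ v)

variable [FiniteDimensional (ZMod 2) V] {S : QS V} {f : (ι → F) → (ι → F) → F} {r : V → GL ι F}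
  {G : Subgroup (GL ι F)}

theorem exists_imp (E : Ext S f r G) {U W : Submodule (ZMod 2) V} (hU : S.TS U) (hW : S.TS W)
    (hd : finrank (ZMod 2) U = finrank (ZMod 2) W) (hp : ∀ x ∈ W, (∀ e ∈ U, S.B e x = 0) → x = 0) :
    ∃ D : Imp S r, D.U = U ∧ D.W = W := by
  obtain ⟨χ, hχ, hχ'⟩ := E.exists_lift hU
  obtain ⟨τ, hτ, hτ'⟩ := E.exists_lift hW
  have : Finite W := Module.finite_of_finite (ZMod 2)
  exact ⟨⟨U, W, χ, τ, hU, hW, hd, hp, hχ, hτ, hχ', hτ', Nat.card W, Finite.equivFin W⟩, rfl, rfl⟩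

namespace Ext

variable (E : Ext S f r G)
include E

theorem adj_lift {g : GL ι F} {a : V} (hg : PM g (r a)) (hsq : mt g * mt g = 1) : Adj f (mt g) (mt g) := by
  have hiso : Symp.IsIsometry f g := by
    rcases hg with e | e <;> rw [e]
    · exact E.r_iso a
    · intro u v
      rw [Units.val_neg, Matrix.neg_mulVec, Matrix.neg_mulVec, ← neg_one_smul F (mt (r a) *ᵥ u),
        ← neg_one_smul F (mt (r a) *ᵥ v), E.bil.smul_left, E.bil.smul_right, E.r_iso a u v]
      ring
  intro u v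
  have h := hiso u (mt g *ᵥ v)
  rwa [mulVec_mulVec, hsq, one_mulVec] at h

theorem adj_add {m m' n n' : Matrix ι ι F} (h : Adj f m m') (h' : Adj f n n') : Adj f (m + n) (m' + n') :=
  fun u v => by rw [add_mulVec, add_mulVec, E.bil.add_left, E.bil.add_right, h, h']

theorem adj_smul {m m' : Matrix ι ι F} (h : Adj f m m') (c : F) : Adj f (c • m) (c • m') :=
  fun u v => by rw [smul_mulVec, smul_mulVec, E.bil.smul_left, E.bil.smul_right, h]

theorem adj_zero : Adj f (0 : Matrix ι ι F) 0 := fun u v => by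
  have h1 := E.bil.smul_left (0 : F) 0 v
  have h2 := E.bil.smul_right (0 : F) u 0
  simp only [zero_smul, zero_mul] at h1 h2
  rw [zero_mulVec, zero_mulVec, h1, h2]

theorem adj_sum {α : Type*} (s : Finset α) (m m' : α → Matrix ι ι F) (h : ∀ a ∈ s, Adj f (m a) (m' a)) :
    Adj f (∑ a ∈ s, m a) (∑ a ∈ s, m' a) := by
  classical
  induction s using Finset.induction_on with
  | empty => simpa using E.adj_zero
  | insert a s ha ih =>
    rw [Finset.sum_insert ha, Finset.sum_insert ha]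
    exact E.adj_add (h a (Finset.mem_insert_self a s)) (ih fun b hb => h b (Finset.mem_insert_of_mem hb))

theorem adj_mul {m m' n n' : Matrix ι ι F} (h : Adj f m m') (h' : Adj f n n') : Adj f (m * n) (n' * m') :=
  fun u v => by rw [← mulVec_mulVec, ← mulVec_mulVec, h, h']

end Ext

namespace Imp

noncomputable local instance subFintype (U : Submodule (ZMod 2) V) : Fintype U :=
  @Fintype.ofFinite U (Module.finite_of_finite (ZMod 2))

variable (D : Imp S r)

/-- The projection on the common fixed space. -/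
noncomputable def P0 : Matrix ι ι F := ((Fintype.card D.U : ℕ) : F)⁻¹ • ∑ e, mt (D.χ e)

/-- The matrix units. -/
noncomputable def unit (i j : Fin D.n) : Matrix ι ι F :=
  mt (D.τ (D.idx.symm i)) * D.P0 * mt (D.τ (D.idx.symm j))

/-- The map of matrices. -/
noncomputable def phi (A : Matrix (Fin D.n) (Fin D.n) F) : Matrix ι ι F := ∑ i, ∑ j, A i j • D.unit i j

theorem n_eq : D.n = 2 ^ finrank (ZMod 2) D.W := by
  have h := Module.natCard_eq_pow_finrank (K := ZMod 2) (V := D.W)
  rwa [Nat.card_congr D.idx, Nat.card_fin, Nat.card_zmod] at h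

theorem χ_zero : D.χ 0 = 1 := by
  have h := D.χ_add 0 0
  rw [add_zero] at h
  exact left_eq_mul.1 h

theorem τ_zero : D.τ 0 = 1 := by
  have h := D.τ_add 0 0
  rw [add_zero] at h
  exact left_eq_mul.1 h

theorem τ_sq (x : D.W) : mt (D.τ x) * mt (D.τ x) = 1 := by
  rw [← Units.val_mul, ← D.τ_add, show x + x = 0 from Subtype.ext (v_add_self (x : V)), D.τ_zero, Units.val_one]

theorem χ_sq (x : D.U) : mt (D.χ x) * mt (D.χ x) = 1 := by
  rw [← Units.val_mul, ← D.χ_add, show x + x = 0 from Subtype.ext (v_add_self (x : V)), D.χ_zero, Units.val_one]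

theorem exists_U_repr (φ : D.W →ₗ[ZMod 2] ZMod 2) : ∃ e : D.U, ∀ x : D.W, S.B (e : V) x = φ x := by
  let L : D.W →ₗ[ZMod 2] Module.Dual (ZMod 2) D.U := (S.B.compl₁₂ D.W.subtype D.U.subtype)
  have hL : Function.Injective L := by
    rw [← LinearMap.ker_eq_bot]
    refine (Submodule.eq_bot_iff _).2 fun x hx => Subtype.ext (D.pairing x x.2 fun e he => ?_)
    rw [S.B_comm]
    exact LinearMap.congr_fun hx ⟨e, he⟩
  have hsurj := (LinearMap.injective_iff_surjective_of_finrank_eq_finrank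
    (by rw [Subspace.dual_finrank_eq, D.dim_eq])).1 hL
  let L' : D.U →ₗ[ZMod 2] Module.Dual (ZMod 2) D.W := (S.B.compl₁₂ D.U.subtype D.W.subtype)
  have hL' : Function.Injective L' := by
    rw [← LinearMap.ker_eq_bot]
    refine (Submodule.eq_bot_iff _).2 fun e he => ?_
    by_contra h0
    obtain ⟨μ, hμ, -⟩ := Submodule.exists_dual_map_eq_bot_of_notMem (p := (⊥ : Submodule (ZMod 2) D.U))
      (x := e) (by simpa using h0) inferInstance
    obtain ⟨x, hx⟩ := hsurj μ
    refine hμ ?_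
    rw [← hx]
    show S.B (x : V) e = 0
    rw [S.B_comm]
    exact LinearMap.congr_fun he x
  obtain ⟨e, he⟩ := (LinearMap.injective_iff_surjective_of_finrank_eq_finrank
    (by rw [Subspace.dual_finrank_eq, D.dim_eq])).1 hL' φ
  exact ⟨e, fun x => LinearMap.congr_fun he x⟩

variable (E : Ext S f r G)
include E

theorem card_U_ne : ((Fintype.card D.U : ℕ) : F) ≠ 0 := by
  rw [Module.card_eq_pow_finrank (K := ZMod 2), ZMod.card]
  push_cast
  exact pow_ne_zero _ E.two

theorem char_sum_U {x : D.W} (hx : x ≠ 0) : ∑ e : D.U, (sgF (S.B (e : V) x) : F) = 0 := by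
  obtain ⟨e0, h0⟩ : ∃ e0 : D.U, S.B (e0 : V) x = 1 := by
    by_contra hc
    push Not at hc
    exact hx (Subtype.ext (D.pairing x x.2 fun e he => z2_ne_one.1 (hc ⟨e, he⟩)))
  have h : ∑ e : D.U, (sgF (S.B (e : V) x) : F) = -∑ e : D.U, (sgF (S.B (e : V) x) : F) := by
    conv_lhs => rw [← Equiv.sum_comp (Equiv.addRight e0)]
    rw [← Finset.sum_neg_distrib]
    refine Finset.sum_congr rfl fun e _ => ?_
    rw [Equiv.coe_addRight, Submodule.coe_add, map_add, LinearMap.add_apply, h0, sgF_add, sgF_one, mul_neg_one]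
  rw [eq_neg_iff_add_eq_zero, ← two_mul] at h
  exact (mul_eq_zero.1 h).resolve_left E.two

theorem char_sum_W {e : D.U} (he : e ≠ 0) : ∑ x : D.W, (sgF (S.B (e : V) x) : F) = 0 := by
  obtain ⟨x0, h0⟩ : ∃ x0 : D.W, S.B (e : V) x0 = 1 := by
    by_contra hc
    push Not at hc
    obtain ⟨μ, hμ, -⟩ := Submodule.exists_dual_map_eq_bot_of_notMem (p := (⊥ : Submodule (ZMod 2) D.U))
      (x := e) (by simpa using he) inferInstance
    let L : D.W →ₗ[ZMod 2] Module.Dual (ZMod 2) D.U := (S.B.compl₁₂ D.W.subtype D.U.subtype)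
    have hL : Function.Injective L := by
      rw [← LinearMap.ker_eq_bot]
      refine (Submodule.eq_bot_iff _).2 fun x hx => Subtype.ext (D.pairing x x.2 fun e he => ?_)
      rw [S.B_comm]
      exact LinearMap.congr_fun hx ⟨e, he⟩
    obtain ⟨x, hx⟩ := (LinearMap.injective_iff_surjective_of_finrank_eq_finrank
      (by rw [Subspace.dual_finrank_eq, D.dim_eq])).1 hL μ
    refine hμ ?_
    rw [← hx]
    show S.B (x : V) e = 0
    rw [S.B_comm]
    exact z2_ne_one.1 (hc x)
  have h : ∑ x : D.W, (sgF (S.B (e : V) x) : F) = -∑ x : D.W, (sgF (S.B (e : V) x) : F) := by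
    conv_lhs => rw [← Equiv.sum_comp (Equiv.addRight x0)]
    rw [← Finset.sum_neg_distrib]
    refine Finset.sum_congr rfl fun x _ => ?_
    rw [Equiv.coe_addRight, Submodule.coe_add, map_add, h0, sgF_add, sgF_one, mul_neg_one]
  rw [eq_neg_iff_add_eq_zero, ← two_mul] at h
  exact (mul_eq_zero.1 h).resolve_left E.two

theorem χ_τ (e : D.U) (x : D.W) :
    mt (D.χ e) * mt (D.τ x) = (sgF (S.B (e : V) x) : F) • (mt (D.τ x) * mt (D.χ e)) :=
  E.pm_comm (D.χ_pm e) (D.τ_pm x)

theorem χ_P0 (e : D.U) : mt (D.χ e) * D.P0 = D.P0 := by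
  rw [P0, mul_smul_comm, Finset.mul_sum]
  congr 1
  conv_rhs => rw [← Equiv.sum_comp (Equiv.addLeft e)]
  refine Finset.sum_congr rfl fun x _ => ?_
  rw [← Units.val_mul, ← D.χ_add, Equiv.coe_addLeft]

open Classical in
theorem P0_τ_P0 (z : D.W) : D.P0 * mt (D.τ z) * D.P0 = if z = 0 then D.P0 else 0 := by
  have h : D.P0 * mt (D.τ z) * D.P0 =
      (((Fintype.card D.U : ℕ) : F)⁻¹ * ∑ e : D.U, (sgF (S.B (e : V) z) : F)) • (mt (D.τ z) * D.P0) := by
    nth_rw 1 [P0]
    rw [smul_mul_assoc, smul_mul_assoc, Finset.sum_mul, Finset.sum_mul, mul_smul, Finset.sum_smul]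
    refine congrArg _ (Finset.sum_congr rfl fun e _ => ?_)
    rw [D.χ_τ E, smul_mul_assoc, mul_assoc, D.χ_P0 E]
  rw [h]
  split_ifs with hz
  · subst hz
    rw [D.τ_zero, Units.val_one, one_mul]
    simp [D.card_U_ne E]
  · rw [D.char_sum_U E hz, mul_zero, zero_smul]

theorem unit_mul (i j k l : Fin D.n) : D.unit i j * D.unit k l = if j = k then D.unit i l else 0 := by
  rw [unit, unit, show ∀ a b c d e g : Matrix ι ι F, a * b * c * (d * e * g) = a * (b * (c * d) * e) * g from
    fun a b c d e g => by simp only [mul_assoc], ← Units.val_mul, ← D.τ_add, D.P0_τ_P0 E]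
  by_cases h : j = k
  · subst h
    rw [if_pos (Subtype.ext (v_add_self (D.idx.symm j : V))), if_pos rfl]
    rfl
  · rw [if_neg (fun e : D.idx.symm j + D.idx.symm k = 0 => h (D.idx.symm.injective (Subtype.ext
      (v_add_eq_zero.1 (congrArg Subtype.val e : (D.idx.symm j : V) + (D.idx.symm k : V) = 0))))), if_neg h,
      mul_zero, zero_mul]

theorem sum_unit : ∑ i, D.unit i i = 1 := by
  have h : ∀ i, D.unit i i = ((Fintype.card D.U : ℕ) : F)⁻¹ •
      ∑ e : D.U, (sgF (S.B (e : V) (D.idx.symm i)) : F) • mt (D.χ e) := fun i => by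
    rw [unit, P0, mul_smul_comm, smul_mul_assoc, Finset.mul_sum, Finset.sum_mul]
    refine congrArg _ (Finset.sum_congr rfl fun e _ => ?_)
    rw [mul_assoc, D.χ_τ E, mul_smul_comm, ← mul_assoc, D.τ_sq, one_mul]
  simp only [h, ← Finset.smul_sum]
  rw [Finset.sum_comm]
  simp only [← Finset.sum_smul]
  rw [Finset.sum_eq_single (0 : D.U) (fun e _ he => by
    rw [Equiv.sum_comp D.idx.symm fun x : D.W => (sgF (S.B (e : V) x) : F), D.char_sum_W E he, zero_smul])
    (fun h => absurd (Finset.mem_univ _) h)]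
  have hcard : Fintype.card D.U = D.n := by
    rw [Module.card_eq_pow_finrank (K := ZMod 2), ZMod.card, D.n_eq, D.dim_eq]
  simp [D.χ_zero, smul_smul, ← hcard, inv_mul_cancel₀ (D.card_U_ne E)]

theorem unit_phi (i j : Fin D.n) (B : Matrix (Fin D.n) (Fin D.n) F) :
    D.unit i j * D.phi B = ∑ l, B j l • D.unit i l := by
  rw [phi, Finset.mul_sum, Finset.sum_eq_single j]
  · rw [Finset.mul_sum]
    exact Finset.sum_congr rfl fun l _ => by rw [mul_smul_comm, D.unit_mul E, if_pos rfl]
  · intro k _ hk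
    rw [Finset.mul_sum]
    exact Finset.sum_eq_zero fun l _ => by rw [mul_smul_comm, D.unit_mul E, if_neg (Ne.symm hk), smul_zero]
  · exact fun h => absurd (Finset.mem_univ _) h

theorem phi_mul (A B : Matrix (Fin D.n) (Fin D.n) F) : D.phi (A * B) = D.phi A * D.phi B := by
  conv_rhs => rw [phi, Finset.sum_mul]
  rw [phi]
  refine Finset.sum_congr rfl fun i _ => ?_
  simp only [Finset.sum_mul, smul_mul_assoc, D.unit_phi E, Finset.smul_sum, smul_smul]
  rw [Finset.sum_comm]
  refine Finset.sum_congr rfl fun l _ => ?_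
  rw [Matrix.mul_apply, Finset.sum_smul]

theorem phi_diagonal (d : Fin D.n → F) : D.phi (diagonal d) = ∑ i, d i • D.unit i i := by
  refine Finset.sum_congr rfl fun i _ => ?_
  rw [Finset.sum_eq_single i (fun j _ hj => by rw [diagonal_apply_ne _ (Ne.symm hj), zero_smul])
    (fun h => absurd (Finset.mem_univ _) h), diagonal_apply_eq]

theorem phi_one : D.phi 1 = 1 := by
  rw [← diagonal_one, D.phi_diagonal E]
  simp [D.sum_unit E]

omit E in
theorem phi_add (A B : Matrix (Fin D.n) (Fin D.n) F) : D.phi (A + B) = D.phi A + D.phi B := by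
  simp only [phi, Matrix.add_apply, add_smul, Finset.sum_add_distrib]

omit E in
theorem phi_smul (c : F) (A : Matrix (Fin D.n) (Fin D.n) F) : D.phi (c • A) = c • D.phi A := by
  simp only [phi, Matrix.smul_apply, smul_eq_mul, mul_smul, Finset.smul_sum]

omit E in
theorem phi_zero : D.phi (0 : Matrix (Fin D.n) (Fin D.n) F) = 0 := by
  simp [phi]

theorem phi_sub (A B : Matrix (Fin D.n) (Fin D.n) F) : D.phi (A - B) = D.phi A - D.phi B := by
  rw [eq_sub_iff_add_eq, ← D.phi_add, sub_add_cancel]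

theorem phi_χ (e : D.U) : D.phi (diagonal fun i => (sgF (S.B (e : V) (D.idx.symm i)) : F)) = mt (D.χ e) := by
  rw [D.phi_diagonal E, ← mul_one (mt (D.χ e)), ← D.sum_unit E, Finset.mul_sum]
  refine Finset.sum_congr rfl fun i _ => ?_
  rw [unit, ← mul_assoc, ← mul_assoc, D.χ_τ E, smul_mul_assoc, smul_mul_assoc, mul_assoc (mt (D.τ _)) (mt (D.χ e)), D.χ_P0 E]

/-- The translation of the index set. -/
def trans (t : D.W) : Equiv.Perm (Fin D.n) := D.idx.permCongr (Equiv.addRight t)

theorem trans_apply (t : D.W) (i : Fin D.n) : D.trans t i = D.idx (D.idx.symm i + t) := rfl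

theorem phi_τ (t : D.W) : D.phi (pmatrix (D.trans t)) = mt (D.τ t) := by
  rw [← mul_one (mt (D.τ t)), ← D.sum_unit E, Finset.mul_sum, phi, Finset.sum_comm]
  refine Finset.sum_congr rfl fun j _ => ?_
  rw [Finset.sum_eq_single (D.trans t j)]
  · simp only [pmatrix, Matrix.of_apply, if_true, one_smul]
    rw [unit, unit, ← mul_assoc, ← mul_assoc, ← Units.val_mul, ← D.τ_add, D.trans_apply E, Equiv.symm_apply_apply,
      add_comm]
  · intro i _ hi
    simp only [pmatrix, Matrix.of_apply, if_neg hi, zero_smul]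
  · exact fun h => absurd (Finset.mem_univ _) h

theorem P0_ne : D.P0 ≠ 0 := fun h => by
  have := E.nonempty
  have h1 := D.sum_unit E
  simp [unit, h] at h1

theorem phi_inj {A : Matrix (Fin D.n) (Fin D.n) F} (h : D.phi A = 0) : A = 0 := by
  refine Matrix.ext fun i j => ?_
  have h1 : D.unit i i * D.phi A * D.unit j i = A i j • D.unit i i := by
    rw [D.unit_phi E, Finset.sum_mul, Finset.sum_eq_single j]
    · rw [smul_mul_assoc, D.unit_mul E, if_pos rfl]
    · intro l _ hl
      rw [smul_mul_assoc, D.unit_mul E, if_neg hl, smul_zero]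
    · exact fun h => absurd (Finset.mem_univ _) h
  rw [h, mul_zero, zero_mul, eq_comm] at h1
  refine (smul_eq_zero.1 h1).resolve_right fun hu => D.P0_ne E ?_
  have h2 : mt (D.τ (D.idx.symm i)) * D.unit i i * mt (D.τ (D.idx.symm i)) = D.P0 := by
    rw [unit, ← mul_assoc, ← mul_assoc, D.τ_sq, one_mul, mul_assoc, D.τ_sq, mul_one]
  rw [← h2, hu, mul_zero, zero_mul]

theorem phi_injective : Function.Injective D.phi := fun A B h =>
  sub_eq_zero.1 (D.phi_inj E (by rw [D.phi_sub E, h, sub_self]))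

/-- Commuting with the lifts. -/
theorem commute_phi {g : Matrix ι ι F} (hχ : ∀ e, Commute g (mt (D.χ e))) (hτ : ∀ x, Commute g (mt (D.τ x)))
    (A : Matrix (Fin D.n) (Fin D.n) F) : Commute g (D.phi A) := by
  refine Commute.sum_right _ _ _ fun i _ => Commute.sum_right _ _ _ fun j _ => Commute.smul_right ?_ _
  rw [unit, P0]
  exact ((hτ _).mul_right ((Commute.sum_right _ _ _ fun e _ => hχ e).smul_right _)).mul_right (hτ _)

theorem adj_P0 : Adj f D.P0 D.P0 :=
  E.adj_smul (E.adj_sum _ _ _ fun e _ => E.adj_lift (D.χ_pm e) (D.χ_sq e)) _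

theorem adj_phi (A : Matrix (Fin D.n) (Fin D.n) F) : Adj f (D.phi A) (D.phi Aᵀ) := by
  have h : D.phi Aᵀ = ∑ i, ∑ j, A i j • D.unit j i := by
    rw [phi, Finset.sum_comm]
    rfl
  rw [h]
  refine E.adj_sum _ _ _ fun i _ => E.adj_sum _ _ _ fun j _ => E.adj_smul ?_ _
  rw [unit, unit, mul_assoc (mt (D.τ (D.idx.symm j)))]
  exact E.adj_mul (E.adj_mul (E.adj_lift (D.τ_pm _) (D.τ_sq _)) (D.adj_P0 E))
    (E.adj_lift (D.τ_pm _) (D.τ_sq _))

/-- The map on the orthogonal group of the index set. -/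
noncomputable def phiO : O (sq0 F D.n) →* GL ι F :=
  (Units.map ({ toFun := D.phi, map_one' := D.phi_one E, map_mul' := D.phi_mul E } :
    Matrix (Fin D.n) (Fin D.n) F →* Matrix ι ι F)).comp (O (sq0 F D.n)).subtype

theorem mt_phiO (g : O (sq0 F D.n)) : mt (D.phiO E g) = D.phi (mt (g : GL (Fin D.n) F)) := rfl

theorem phiO_iso (g : O (sq0 F D.n)) : Symp.IsIsometry f (D.phiO E g) := fun u v => by
  rw [D.mt_phiO E, D.adj_phi E, mulVec_mulVec, ← D.phi_mul E, transpose_mul_self_O E.two, D.phi_one E,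
    one_mulVec]

/-- An isometry in the image comes from an orthogonal matrix. -/
theorem exists_phiO {g : GL ι F} (hg : Symp.IsIsometry f g) {A : Matrix (Fin D.n) (Fin D.n) F}
    (hA : mt g = D.phi A) : ∃ γ : O (sq0 F D.n), mt (γ : GL (Fin D.n) F) = A ∧ D.phiO E γ = g := by
  have h1 : D.phi (Aᵀ * A) = 1 := by
    refine Matrix.ext_of_mulVec_single fun i => ?_
    rw [one_mulVec]
    by_contra hne
    obtain ⟨w, hw⟩ := (E.nondeg _ (sub_ne_zero.2 hne)).1
    apply hw
    have h2 := hg w (Pi.single i 1)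
    rw [hA, D.adj_phi E, mulVec_mulVec, ← D.phi_mul E] at h2
    rw [show D.phi (Aᵀ * A) *ᵥ Pi.single i (1 : F) - Pi.single i 1 =
      D.phi (Aᵀ * A) *ᵥ Pi.single i (1 : F) + (-1 : F) • Pi.single i 1 by rw [neg_one_smul, sub_eq_add_neg],
      E.bil.add_right, E.bil.smul_right, h2]
    ring
  obtain ⟨γ, hγ⟩ := exists_O (D.phi_injective E (h1.trans (D.phi_one E).symm))
  exact ⟨γ, hγ, Units.ext (by rw [D.mt_phiO E, hγ, hA])⟩

theorem mt_perm (σ : Equiv.Perm (Fin D.n)) :
    mt (((frame0 E.two D.n).perm σ : O (sq0 F D.n)) : GL (Fin D.n) F) = pmatrix σ := by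
  refine Matrix.ext_of_mulVec_single fun j => ?_
  rw [← app_apply, (frame0 E.two D.n).perm_b, mulVec_single_one]
  exact funext fun i => by simp [pmatrix, Pi.single_apply]

theorem mt_sgnK (K : Finset (Fin D.n)) :
    mt (((frame0 E.two D.n).sgn K : O (sq0 F D.n)) : GL (Fin D.n) F) = diagonal fun i => if i ∈ K then -1 else 1 := by
  refine Matrix.ext_of_mulVec_single fun j => ?_
  rw [← app_apply, (frame0 E.two D.n).sgn_b, mulVec_single_one]
  refine funext fun i => ?_
  rcases eq_or_ne i j with rfl | h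
  · split_ifs <;> simp_all
  · split_ifs <;> simp [h, diagonal_apply_ne _ h]

end Imp

end CfsgLib.ExtraTypeMax
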