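import Mathlib

/-!
A finite group with a self-normalizing 2-subgroup that is abelian modulo a central involution, and is not
the whole group, has an invariant abelian subgroup of odd prime exponent.
-/

set_option autoImplicit false

namespace CfsgLib.ExtraTypeMax

variable {G₀ : Type*} [Group G₀]

theorem odd_invariant (K P : Subgroup G₀) [Finite K] (z : G₀) (hPK : P ≤ K) (hz : z ∈ P) (hz2 : z * z = 1)
    (hz1 : z ≠ 1) (hcen : ∀ x ∈ K, x * z = z * x) (hP2 : IsPGroup 2 P)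
    (hab : ∀ a ∈ P, ∀ b ∈ P, a * b * a⁻¹ * b⁻¹ = 1 ∨ a * b * a⁻¹ * b⁻¹ = z)
    (hsn : ∀ x ∈ K, (∀ a ∈ P, x * a * x⁻¹ ∈ P) → x ∈ P) (hne : ¬ K ≤ P) :
    ∃ (l : ℕ) (E : Set G₀), Odd l ∧ E ⊆ K ∧ (∃ e ∈ E, e ≠ 1) ∧ (∀ a ∈ E, a ^ l = 1) ∧
      (∀ a ∈ E, ∀ b ∈ E, a * b ∈ E ∧ a * b = b * a) ∧
      ∀ γ : G₀, γ * z = z * γ → (∀ x ∈ K, γ * x * γ⁻¹ ∈ K) → (∀ a ∈ P, γ * a * γ⁻¹ ∈ P) →
        ∀ e ∈ E, γ * e * γ⁻¹ ∈ E := by
  classical
  set zK : K := ⟨z, hPK hz⟩ with hzK
  have hzc : zK ∈ Subgroup.center K := Subgroup.mem_center_iff.2 fun x => Subtype.ext (hcen x x.2)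
  let Z := Subgroup.zpowers zK
  have hZle : Z ≤ Subgroup.center K := Subgroup.zpowers_le.2 hzc
  have hZnormal : Z.Normal := ⟨fun a ha g => by
    rw [(Subgroup.mem_center_iff.1 (hZle ha) g), mul_inv_cancel_right]; exact ha⟩
  have hzK2 : zK * zK = 1 := Subtype.ext hz2
  have memZ : ∀ x : K, x ∈ Z ↔ x = 1 ∨ x = zK := by
    intro x
    refine ⟨fun hx => ?_, fun hx => ?_⟩
    · obtain ⟨n, rfl⟩ := hx
      show zK ^ n = 1 ∨ zK ^ n = zK
      rcases Int.even_or_odd n with ⟨j, rfl⟩ | ⟨j, rfl⟩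
      · left
        rw [← two_mul, zpow_mul, zpow_ofNat, pow_two, hzK2, one_zpow]
      · right
        rw [zpow_add, zpow_mul, zpow_ofNat, pow_two, hzK2, one_zpow, one_mul, zpow_one]
    · rcases hx with rfl | rfl
      · exact one_mem _
      · exact Subgroup.mem_zpowers zK
  let π := QuotientGroup.mk' Z
  set Pq := (P.subgroupOf K).map π with hPq
  have hPqmem : ∀ x : K, π x ∈ Pq ↔ (x : G₀) ∈ P := by
    intro x
    refine ⟨fun ⟨y, hy, e⟩ => ?_, fun h => ⟨x, h, rfl⟩⟩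
    have h' : y⁻¹ * x ∈ Z := QuotientGroup.eq.1 e
    have hyx : (x : G₀) = y * ((y⁻¹ * x : K) : G₀) := by simp
    rw [hyx]
    refine P.mul_mem hy ?_
    rcases (memZ _).1 h' with e | e <;> rw [e]
    · exact P.one_mem
    · exact hz
  have hPqp : IsPGroup 2 Pq :=
    IsPGroup.map (hP2.of_equiv (Subgroup.subgroupOfEquivOfLe hPK).symm) π
  have hPqsn : ∀ q ∈ Subgroup.normalizer (Pq : Set (K ⧸ Z)), q ∈ Pq := by
    intro q hq
    obtain ⟨x, rfl⟩ := QuotientGroup.mk'_surjective Z q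
    rw [hPqmem]
    refine hsn x x.2 fun a ha => ?_
    have := (Subgroup.mem_normalizer_iff.1 hq (π ⟨a, hPK ha⟩)).1 ((hPqmem _).2 ha)
    rw [← map_inv, ← map_mul, ← map_mul] at this
    exact (hPqmem _).1 this
  obtain ⟨S, hS⟩ := hPqp.exists_le_sylow
  have hSeq : (S : Subgroup (K ⧸ Z)) = Pq := by
    by_contra hne'
    have : Group.IsNilpotent (S : Subgroup (K ⧸ Z)) := S.2.isNilpotent
    have hlt : Pq.subgroupOf S < ⊤ := lt_top_iff_ne_top.2 fun e =>
      hne' (le_antisymm (Subgroup.subgroupOf_eq_top.1 e) hS)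
    obtain ⟨y, hyN, hyP⟩ := SetLike.exists_of_lt (Group.normalizerCondition_of_isNilpotent _ hlt)
    refine hyP (Subgroup.mem_subgroupOf.2 (hPqsn _ (Subgroup.mem_normalizer_iff.2 fun w => ⟨fun hw => ?_, fun hw => ?_⟩)))
    · exact Subgroup.mem_subgroupOf.1 ((Subgroup.mem_normalizer_iff.1 hyN ⟨w, hS hw⟩).1 (Subgroup.mem_subgroupOf.2 hw))
    · have hwS : w ∈ S := by
        have := S.mul_mem (S.mul_mem (S.inv_mem y.2) (hS hw)) y.2
        change _ ∈ (S : Subgroup (K ⧸ Z)) at this ⊢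
        simpa [mul_assoc] using this
      exact Subgroup.mem_subgroupOf.1 ((Subgroup.mem_normalizer_iff.1 hyN ⟨w, hwS⟩).2 (Subgroup.mem_subgroupOf.2 hw))
  have hcomm : Subgroup.normalizer ((S : Subgroup (K ⧸ Z)) : Set (K ⧸ Z)) ≤
      Subgroup.centralizer ((S : Subgroup (K ⧸ Z)) : Set (K ⧸ Z)) := by
    rw [hSeq]
    intro q hq
    rw [Subgroup.mem_centralizer_iff]
    rintro _ ⟨b, hb, rfl⟩
    obtain ⟨a, ha, rfl⟩ := hPqsn q hq
    rw [← map_mul, ← map_mul]
    refine (QuotientGroup.eq.2 ((memZ _).2 ?_))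
    have h' := hab (a : G₀)⁻¹ (P.inv_mem ha) (b : G₀)⁻¹ (P.inv_mem hb)
    simp only [inv_inv] at h'
    rcases h' with e | e
    · left; exact Subtype.ext (by simpa [mul_assoc] using e)
    · right; exact Subtype.ext (by simpa [mul_assoc, hzK] using e)
  set O := (MonoidHom.transferSylow S hcomm).ker with hO
  have hOc := MonoidHom.ker_transferSylow_isComplement' S hcomm
  have hO2 : ¬ 2 ∣ Nat.card O := MonoidHom.not_dvd_card_ker_transferSylow S hcomm
  have hOne : O ≠ ⊥ := fun e => by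
    rw [← hO, e] at hOc
    have h1 := Subgroup.isComplement'_bot_left.1 hOc
    refine hne fun x hx => ?_
    have h2 : π ⟨x, hx⟩ ∈ (S : Subgroup (K ⧸ Z)) := by rw [h1]; trivial
    rw [hSeq, hPqmem] at h2
    exact h2
  obtain ⟨l, hl, hldvd⟩ := Nat.exists_prime_and_dvd (n := Nat.card O) fun e => hOne (Subgroup.card_eq_one.1 e)
  have : Fact l.Prime := ⟨hl⟩
  have hlodd : Odd l := hl.odd_of_ne_two fun e => hO2 (e ▸ hldvd)
  -- the action of the 2-group on the Sylow subgroups of the complement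
  let T := {L : Subgroup (K ⧸ Z) // L ≤ O ∧ IsPGroup l L ∧
    ∀ L', L' ≤ O → IsPGroup l L' → L ≤ L' → L' = L}
  have hconjT : ∀ (q : K ⧸ Z) (L : T), ∃ L' : T, (L' : Subgroup (K ⧸ Z)) = (L : Subgroup _).map (MulAut.conj q).toMonoidHom := by
    rintro q ⟨L, hLO, hLp, hLmax⟩
    refine ⟨⟨_, ?_, hLp.map _, fun L' hL'O hL'p hle => ?_⟩, rfl⟩
    · rintro _ ⟨x, hx, rfl⟩
      exact (inferInstance : O.Normal).conj_mem x (hLO hx) q
    · have h := hLmax (L'.map (MulAut.conj q⁻¹).toMonoidHom) (by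
        rintro _ ⟨x, hx, rfl⟩
        exact (inferInstance : O.Normal).conj_mem x (hL'O hx) q⁻¹) (hL'p.map _) (fun x hx =>
          ⟨q * x * q⁻¹, hle ⟨x, hx, rfl⟩, by simp [mul_assoc]⟩)
      rw [← h]
      ext x
      simp only [Subgroup.mem_map, MulEquiv.coe_toMonoidHom, MulAut.conj_apply]
      exact ⟨fun hx => ⟨q⁻¹ * x * q, ⟨x, hx, by simp⟩, by simp [mul_assoc]⟩,
        fun ⟨y, ⟨w, hw, hwy⟩, hyx⟩ => by rw [← hyx, ← hwy]; simpa [mul_assoc] using hw⟩
  -- every Sylow subgroup of the complement gives a point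
  have hsylow : ∀ L : Sylow l O, ∃ t : T, (t : Subgroup (K ⧸ Z)) = (L : Subgroup O).map O.subtype := fun L => by
    refine ⟨⟨_, Subgroup.map_subtype_le _, L.2.map _, fun L' hL'O hL'p hle => ?_⟩, rfl⟩
    have := L.3 (Q := L'.subgroupOf O) (hL'p.of_equiv (Subgroup.subgroupOfEquivOfLe hL'O).symm)
      (fun x hx => Subgroup.mem_subgroupOf.2 (hle ⟨x, hx, rfl⟩))
    rw [← this, Subgroup.subgroupOf_map_subtype, inf_eq_left.2 hL'O]
  have hmaxiff : ∀ t : T, ∃ L : Sylow l O, (t : Subgroup (K ⧸ Z)) = (L : Subgroup O).map O.subtype := fun ⟨L, hLO, hLp, hLmax⟩ => by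
    obtain ⟨S', hS'⟩ := (hLp.of_equiv (Subgroup.subgroupOfEquivOfLe hLO).symm).exists_le_sylow
    refine ⟨S', (hLmax _ (Subgroup.map_subtype_le _) (S'.2.map _) ?_).symm⟩
    rw [← inf_eq_left.2 hLO, ← Subgroup.subgroupOf_map_subtype]
    exact Subgroup.map_mono hS'
  have eT : Sylow l O ≃ T := Equiv.ofBijective (fun L => (hsylow L).choose)
    ⟨fun a b hab' => Sylow.ext (Subgroup.map_injective (Subgroup.subtype_injective O)
        (by rw [← (hsylow a).choose_spec, ← (hsylow b).choose_spec]; exact congrArg Subtype.val hab')),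
      fun t => by
        obtain ⟨L, hL⟩ := hmaxiff t
        exact ⟨L, Subtype.ext ((hsylow L).choose_spec.trans hL.symm)⟩⟩
  have hTodd : ¬ 2 ∣ Nat.card T := by
    rw [← Nat.card_congr eT, ← Classical.arbitrary (Sylow l O) |>.card_eq_index_normalizer.symm]
    exact fun h => hO2 (h.trans (Subgroup.index_dvd_card _))
  let act : MulAction (S : Subgroup (K ⧸ Z)) T :=
    { smul := fun q L => (hconjT q L).choose
      one_smul := fun L => Subtype.ext ((hconjT _ L).choose_spec.trans (by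
        ext x; simp [Subgroup.mem_map]))
      mul_smul := fun a b L => Subtype.ext (by
        refine (hconjT _ L).choose_spec.trans ?_
        show _ = ((hconjT a ((hconjT b L).choose)).choose : Subgroup (K ⧸ Z))
        rw [(hconjT a _).choose_spec, (hconjT b L).choose_spec, Subgroup.map_map]
        congr 1
        ext x; simp [mul_assoc]) }
  obtain ⟨L, hL⟩ := IsPGroup.nonempty_fixed_point_of_prime_not_dvd_card (α := T) S.2 hTodd
  obtain ⟨L1, hL1⟩ := hmaxiff L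
  have hfix : ∀ q ∈ Pq, ∀ x ∈ (L : Subgroup (K ⧸ Z)), q * x * q⁻¹ ∈ (L : Subgroup (K ⧸ Z)) := fun q hq x hx => by
    have h := congrArg Subtype.val (hL ⟨q, hSeq ▸ hq⟩)
    rw [show ((⟨q, hSeq ▸ hq⟩ : (S : Subgroup (K ⧸ Z))) • L : T) = (hconjT q L).choose from rfl,
      (hconjT q L).choose_spec] at h
    exact h.le ⟨x, hx, rfl⟩
  have huniq : ∀ L' : T, (∀ q ∈ Pq, ∀ x ∈ (L' : Subgroup (K ⧸ Z)), q * x * q⁻¹ ∈ (L' : Subgroup (K ⧸ Z))) →
      L' = L := by
    intro L' hL'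
    obtain ⟨L2, hL2⟩ := hmaxiff L'
    obtain ⟨y, hy⟩ := MulAction.exists_smul_eq O L1 L2
    have e : (L' : Subgroup (K ⧸ Z)) = (L : Subgroup (K ⧸ Z)).map (MulAut.conj (y : K ⧸ Z)).toMonoidHom := by
      rw [hL2, hL1, ← hy, Sylow.coe_subgroup_smul, Subgroup.map_map]
      ext x
      simp only [Subgroup.mem_map, Subgroup.mem_smul_pointwise_iff_exists]
      exact ⟨fun ⟨w, ⟨v, hv, hvw⟩, hwx⟩ => ⟨v, hv, by rw [← hwx, ← hvw]; simp [MulAut.conj, mul_assoc]⟩,
        fun ⟨v, hv, hvx⟩ => ⟨MulAut.conj y v, ⟨v, hv, rfl⟩, by rw [← hvx]; simp [MulAut.conj, mul_assoc]⟩⟩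
    let N := Subgroup.normalizer ((L : Subgroup (K ⧸ Z)) : Set (K ⧸ Z))
    have hmemN : ∀ q : K ⧸ Z, (∀ x ∈ (L : Subgroup (K ⧸ Z)), q * x * q⁻¹ ∈ (L : Subgroup (K ⧸ Z))) → q ∈ N :=
      fun q hq => Subgroup.mem_normalizer_iff.2 fun x => ⟨hq x, fun hx => by
        have hsub : (L : Subgroup (K ⧸ Z)).map (MulAut.conj q).toMonoidHom = L :=
          Subgroup.eq_of_le_of_card_ge (by rintro _ ⟨w, hw, rfl⟩; exact hq w hw)
            (Nat.card_congr ((L : Subgroup (K ⧸ Z)).equivMapOfInjective _ (MulAut.conj q).injective).toEquiv).le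
        obtain ⟨w, hw, e'⟩ := hsub.ge hx
        simp only [MulEquiv.coe_toMonoidHom, MulAut.conj_apply] at e'
        rwa [← mul_left_cancel (mul_right_cancel e')]⟩
    have hPN : (S : Subgroup (K ⧸ Z)) ≤ N := fun q hq => hmemN q (hfix q (hSeq ▸ hq))
    let S' : Sylow 2 (K ⧸ Z) := (y⁻¹ : K ⧸ Z) • S
    have hS'mem : ∀ q, q ∈ (S' : Subgroup (K ⧸ Z)) ↔ (y : K ⧸ Z) * q * (y : K ⧸ Z)⁻¹ ∈ Pq := fun q => by
      rw [← hSeq, Sylow.coe_subgroup_smul, Subgroup.mem_pointwise_smul_iff_inv_smul_mem]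
      simp [MulAut.smul_def]
    have hS'N : (S' : Subgroup (K ⧸ Z)) ≤ N := fun q hq => hmemN q fun x hx => by
      have h1 := hL' _ ((hS'mem q).1 hq) ((y : K ⧸ Z) * x * (y : K ⧸ Z)⁻¹) (e ▸ ⟨x, hx, rfl⟩)
      rw [e] at h1
      obtain ⟨w, hw, e'⟩ := h1
      simp only [MulEquiv.coe_toMonoidHom, MulAut.conj_apply] at e'
      have : w = q * x * q⁻¹ := by
        refine mul_left_cancel (a := (y : K ⧸ Z)) (mul_right_cancel (b := (y : K ⧸ Z)⁻¹) (e'.trans ?_))
        group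
      rwa [← this]
    obtain ⟨n, hn⟩ := MulAction.exists_smul_eq N (S.subtype hPN) (S'.subtype hS'N)
    have hn' : (n : K ⧸ Z) • S = S' := by
      refine Sylow.ext ?_
      have h := congrArg (fun T : Sylow 2 N => (T : Subgroup N).map N.subtype) hn
      simp only [Sylow.coe_subgroup_smul, Sylow.coe_subtype, Subgroup.subgroupOf_map_subtype] at h
      rw [inf_eq_left.2 hS'N] at h
      rw [← h, Sylow.coe_subgroup_smul]
      ext x
      simp only [Subgroup.mem_map, Subgroup.mem_smul_pointwise_iff_exists, Subgroup.mem_subgroupOf]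
      constructor
      · rintro ⟨v, hv, rfl⟩
        exact ⟨MulAut.conj n ⟨v, hPN hv⟩, ⟨⟨v, hPN hv⟩, hv, rfl⟩, by simp [MulAut.conj, MulAut.smul_def]⟩
      · rintro ⟨w, ⟨v, hv, rfl⟩, rfl⟩
        exact ⟨v, hv, by simp [MulAut.conj, MulAut.smul_def]⟩
    have hyn : (y : K ⧸ Z) * n ∈ Pq := by
      refine hPqsn _ ?_
      rw [← hSeq]
      exact Sylow.smul_eq_iff_mem_normalizer.1 (by rw [mul_smul, hn', smul_inv_smul])
    have hyN : (y : K ⧸ Z) ∈ N := by
      have := N.mul_mem (hPN (hSeq ▸ hyn)) (N.inv_mem n.2)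
      simpa using this
    refine Subtype.ext ?_
    rw [e]
    refine Subgroup.eq_of_le_of_card_ge ?_
      (Nat.card_congr ((L : Subgroup (K ⧸ Z)).equivMapOfInjective _ (MulAut.conj (y : K ⧸ Z)).injective).toEquiv).le
    rintro _ ⟨x, hx, rfl⟩
    exact (Subgroup.mem_normalizer_iff.1 hyN x).1 hx
  -- the elements of prime order over the centre of the Sylow subgroup
  set E : Set G₀ := {g | ∃ h : g ∈ K, π ⟨g, h⟩ ∈ (L : Subgroup (K ⧸ Z)) ∧
    (∀ x ∈ (L : Subgroup (K ⧸ Z)), x * π ⟨g, h⟩ = π ⟨g, h⟩ * x) ∧ g ^ l = 1} with hE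
  have hlz : z ^ l = z := by
    obtain ⟨j, rfl⟩ := hlodd
    rw [pow_succ, pow_mul, pow_two, hz2, one_pow, one_mul]
  refine ⟨l, E, hlodd, fun g ⟨h, _⟩ => h, ?_, fun a ⟨_, _, _, ha⟩ => ha, ?_, fun γ hγz hγK hγP e he => ?_⟩
  · have hLne : (L : Subgroup (K ⧸ Z)) ≠ ⊥ := fun e => by
      rw [hL1] at e
      have h1 : (L1 : Subgroup O) = ⊥ :=
        Subgroup.map_injective (Subgroup.subtype_injective O) (e.trans (Subgroup.map_bot _).symm)
      exact L1.ne_bot_of_dvd_card hldvd h1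
    have : Nontrivial (L : Subgroup (K ⧸ Z)) := (Subgroup.nontrivial_iff_ne_bot _).2 hLne
    have hcne : Nontrivial (Subgroup.center (L : Subgroup (K ⧸ Z))) := L.2.2.1.center_nontrivial
    have hdvd : l ∣ Nat.card (Subgroup.center (L : Subgroup (K ⧸ Z))) :=
      (L.2.2.1.to_subgroup _).nontrivial_iff_card.1 hcne |> fun ⟨n, hn, e⟩ => e ▸ dvd_pow_self l (by omega)
    obtain ⟨c, hc⟩ := exists_prime_orderOf_dvd_card' l hdvd
    obtain ⟨g, hg⟩ := QuotientGroup.mk'_surjective Z ((c : (L : Subgroup (K ⧸ Z))) : K ⧸ Z)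
    have hgl : g ^ l ∈ Z := by
      refine (QuotientGroup.eq_one_iff _).1 ?_
      show π (g ^ l) = 1
      rw [map_pow, hg]
      have := congrArg (fun u : Subgroup.center (L : Subgroup (K ⧸ Z)) => ((u : (L : Subgroup (K ⧸ Z))) : K ⧸ Z))
        (pow_orderOf_eq_one c)
      rw [hc] at this
      simpa using this
    have hg1 : π g ≠ 1 := fun e' => by
      rw [hg] at e'
      have h1 : c = 1 := Subtype.ext (Subtype.ext e')
      rw [h1, orderOf_one] at hc
      exact hl.one_lt.ne hc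
    have hcl : ∀ x ∈ (L : Subgroup (K ⧸ Z)), x * π g = π g * x := fun x hx => by
      rw [hg]
      exact congrArg Subtype.val (Subgroup.mem_center_iff.1 c.2 ⟨x, hx⟩)
    have hgL : π g ∈ (L : Subgroup (K ⧸ Z)) := by rw [hg]; exact (c : (L : Subgroup (K ⧸ Z))).2
    obtain ⟨g', hg'π, hg'l⟩ : ∃ g' : K, π g' = π g ∧ g' ^ l = 1 := by
      rcases (memZ _).1 hgl with e | e
      · exact ⟨g, rfl, e⟩
      · refine ⟨g * zK, ?_, ?_⟩
        · rw [map_mul, (QuotientGroup.eq_one_iff zK).2 (Subgroup.mem_zpowers _) |> fun h => (show π zK = 1 from h),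
            mul_one]
        · rw [(show Commute g zK from (Subgroup.mem_center_iff.1 hzc g)).mul_pow, e]
          exact Subtype.ext (by simp [hzK, hlz, hz2])
    refine ⟨g', ⟨g'.2, by rwa [hg'π], fun x hx => by rw [hg'π]; exact hcl x hx, ?_⟩, fun e' => hg1 ?_⟩
    · exact congrArg Subtype.val hg'l
    · rw [← hg'π, show g' = 1 from Subtype.ext e', map_one]
  · rintro a ⟨ha, haL, hac, hal⟩ b ⟨hb, hbL, hbc, hbl⟩
    have hc : a * b = b * a := by
      have h := hac _ hbL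
      rw [← map_mul, ← map_mul] at h
      rcases (memZ _).1 (QuotientGroup.eq.1 h) with e | e
      · have := congrArg Subtype.val e
        simp only [Subgroup.coe_mul, Subgroup.coe_inv, Subgroup.coe_one] at this
        exact (inv_mul_eq_one.1 this).symm
      · exfalso
        have e' : a * b = b * a * z := by
          have := congrArg Subtype.val e
          simp only [Subgroup.coe_mul, Subgroup.coe_inv, hzK] at this
          rw [← this, mul_inv_cancel_left]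
        have hconj : b⁻¹ * a * b = a * z := by rw [mul_assoc, e', ← mul_assoc, inv_mul_cancel_left]
        have := congrArg (· ^ l) hconj
        rw [show b⁻¹ * a * b = b⁻¹ * a * b⁻¹⁻¹ by rw [inv_inv], conj_pow, hal, mul_one, mul_inv_cancel,
          (show Commute a z from hcen a ha).mul_pow, hal, one_mul, hlz] at this
        exact hz1 this.symm
    refine ⟨⟨K.mul_mem ha hb, ?_, fun x hx => ?_, ?_⟩, hc⟩
    · rw [show (⟨a * b, K.mul_mem ha hb⟩ : K) = ⟨a, ha⟩ * ⟨b, hb⟩ from rfl, map_mul]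
      exact mul_mem haL hbL
    · rw [show (⟨a * b, K.mul_mem ha hb⟩ : K) = ⟨a, ha⟩ * ⟨b, hb⟩ from rfl, map_mul]
      exact (show Commute x (π ⟨a, ha⟩) from hac x hx).mul_right (hbc x hx)
    · rw [(show Commute a b from hc).mul_pow, hal, hbl, one_mul]
  · obtain ⟨he, heL, hec, hel⟩ := he
    let φ0 : K →* K :=
      { toFun := fun w => ⟨γ * w * γ⁻¹, hγK w w.2⟩
        map_one' := Subtype.ext (by simp)
        map_mul' := fun a b => Subtype.ext (by simp) }
    have hφinj : Function.Injective φ0 := fun a b e' =>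
      Subtype.ext (mul_left_cancel (mul_right_cancel (congrArg Subtype.val e')))
    have hφz : φ0 zK = zK := Subtype.ext (by
      show γ * z * γ⁻¹ = z
      rw [hγz, mul_inv_cancel_right])
    let φ : K ⧸ Z →* K ⧸ Z := QuotientGroup.map Z Z φ0 (fun x hx => by
      rcases (memZ x).1 hx with rfl | rfl
      · simp [one_mem]
      · rw [Subgroup.mem_comap, hφz]; exact Subgroup.mem_zpowers _)
    have hφπ : ∀ x : K, φ (π x) = π (φ0 x) := fun x => rfl
    have hφbij : Function.Bijective φ := by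
      refine Finite.surjective_iff_bijective.1 fun q => ?_
      obtain ⟨x, rfl⟩ := QuotientGroup.mk'_surjective Z q
      obtain ⟨w, rfl⟩ := (Finite.injective_iff_surjective.1 hφinj) x
      exact ⟨π w, hφπ w⟩
    have hφP : ∀ q ∈ Pq, φ q ∈ Pq := fun q hq => by
      obtain ⟨x, rfl⟩ := QuotientGroup.mk'_surjective Z q
      rw [hφπ, hPqmem]
      exact hγP x ((hPqmem x).1 hq)
    have hPφ : Pq.map φ = Pq := by
      refine Subgroup.eq_of_le_of_card_ge (by rintro _ ⟨q, hq, rfl⟩; exact hφP q hq) ?_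
      exact (Nat.card_congr (Pq.equivMapOfInjective φ hφbij.1).toEquiv).le
    have hOmem : ∀ q : K ⧸ Z, q ∈ O ↔ Odd (orderOf q) := fun q => by
      have hSp : ∀ a : (S : Subgroup (K ⧸ Z)), ∃ j, orderOf a = 2 ^ j := IsPGroup.iff_orderOf.1 S.2
      constructor
      · intro hq
        rw [← Nat.not_even_iff_odd, even_iff_two_dvd]
        exact fun h => hO2 (h.trans (orderOf_submonoid (⟨q, hq⟩ : O) ▸ orderOf_dvd_natCard (⟨q, hq⟩ : O)))
      · intro hq
        obtain ⟨j, hj⟩ := hSp (MonoidHom.transferSylow S hcomm q)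
        have hdiv := orderOf_map_dvd (MonoidHom.transferSylow S hcomm) q
        rw [hj] at hdiv
        rw [hO, MonoidHom.mem_ker, ← orderOf_eq_one_iff, hj]
        rcases Nat.eq_zero_or_pos j with rfl | hjp
        · rfl
        · exact absurd ((dvd_pow_self 2 hjp.ne').trans hdiv) (by rwa [← even_iff_two_dvd, Nat.not_even_iff_odd])
    have hφO : ∀ q, φ q ∈ O ↔ q ∈ O := fun q => by rw [hOmem, hOmem, orderOf_injective φ hφbij.1]
    obtain ⟨L', hL'⟩ : ∃ L' : T, (L' : Subgroup (K ⧸ Z)) = (L : Subgroup (K ⧸ Z)).map φ := by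
      refine ⟨⟨_, ?_, L.2.2.1.map _, fun L' hL'O hL'p hle => ?_⟩, rfl⟩
      · rintro _ ⟨x, hx, rfl⟩
        exact (hφO x).2 (L.2.1 hx)
      · have h := L.2.2.2 (L'.comap φ) (fun x hx => (hφO x).1 (hL'O hx))
          (hL'p.comap_of_injective φ hφbij.1) (fun x hx => hle ⟨x, hx, rfl⟩)
        rw [← h, Subgroup.map_comap_eq_self_of_surjective hφbij.2]
    have hLinv : (L : Subgroup (K ⧸ Z)).map φ = L := by
      rw [← hL']
      refine congrArg Subtype.val (huniq L' fun q hq x hx => ?_)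
      obtain ⟨q', hq', rfl⟩ := hPφ.ge hq
      rw [hL'] at hx ⊢
      obtain ⟨x', hx', rfl⟩ := hx
      exact ⟨_, hfix q' hq' x' hx', by simp⟩
    refine ⟨hγK e he, ?_, fun x hx => ?_, ?_⟩
    · show π (φ0 ⟨e, he⟩) ∈ _
      rw [← hφπ]
      exact hLinv.le ⟨_, heL, rfl⟩
    · show x * π (φ0 ⟨e, he⟩) = π (φ0 ⟨e, he⟩) * x
      obtain ⟨x', hx', rfl⟩ := hLinv.ge hx
      rw [← hφπ, ← map_mul, ← map_mul, hec x' hx']
    · rw [conj_pow, hel, mul_one, mul_inv_cancel]

end CfsgLib.ExtraTypeMax
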