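import Cfsg.Agent.Lib.ExtraTypeMax.Build
import Cfsg.Agent.Lib.ExtraTypeMax.Dichotomy
import Cfsg.Agent.Lib.ExtraTypeMax.GateOmega
import Cfsg.Agent.Lib.GeomClasses.OrthEich
import Cfsg.Agent.Lib.OrthFix.Omega

/-!
The normalizer of an extraspecial group of plus type is maximal in the orthogonal commutator group.
-/

set_option autoImplicit false
set_option linter.unusedSectionVars false

namespace CfsgLib.ExtraTypeMax

open Matrix Module QuadraticMap CfsgLib.GeomClasses CfsgLib.Orth CfsgLib.Maximal.TensorTools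

variable {ι : Type} [Fintype ι] [DecidableEq ι] {F : Type*} [Field F] [Fintype F]
  {V : Type*} [AddCommGroup V] [Module (ZMod 2) V] [FiniteDimensional (ZMod 2) V]
  {S : QS V} {f : (ι → F) → (ι → F) → F} {r : V → GL ι F} {G : Subgroup (GL ι F)}

/-- The linear map of matrices. -/
noncomputable def Imp.phiLin (D : Imp S r) : Matrix (Fin D.n) (Fin D.n) F →ₗ[F] Matrix ι ι F where
  toFun := D.phi
  map_add' := D.phi_add
  map_smul' c A := by rw [RingHom.id_apply]; exact D.phi_smul c A

theorem Imp.phi_surjective (D : Imp S r) (E : Ext S f r G) (hn : D.n = Fintype.card ι) :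
    Function.Surjective D.phi :=
  (LinearMap.injective_iff_surjective_of_finrank_eq_finrank (f := D.phiLin) (by
    simp [Module.finrank_matrix, hn])).1 (D.phi_injective E)

/-- With the gates, an overgroup of full size contains all commutators of isometries. -/
theorem Imp.commutator_iso_le (D : Imp S r) (E : Ext S f r G) (hn : D.n = Fintype.card ι) {X : Subgroup (GL ι F)}
    (hle : commutator (O (sq0 F D.n)) ≤ X.comap (D.phiO E)) (I : Subgroup (GL ι F))
    (hI : ∀ g ∈ I, Symp.IsIsometry f g) : ⁅I, I⁆ ≤ X := by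
  have h : I ≤ Subgroup.map (D.phiO E) ⊤ := fun g hg => by
    obtain ⟨A, hA⟩ := D.phi_surjective E hn (mt g)
    obtain ⟨γ, -, hγ⟩ := D.exists_phiO E (hI g hg) hA.symm
    exact ⟨γ, trivial, hγ⟩
  refine (Subgroup.commutator_mono h h).trans ?_
  rw [← Subgroup.map_commutator, Subgroup.map_le_iff_le_comap]
  exact hle

theorem exists_plus_imp (E : Ext S f r G) {k : ℕ} (hV : finrank (ZMod 2) V = 2 * k)
    (hpt : Cfsg.Geo.IsOfPlusType k E.R) : ∃ D : Imp S r, finrank (ZMod 2) D.W = k := by
  obtain ⟨A, hc, hsq, hA⟩ := hpt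
  obtain ⟨U, hU, hUk⟩ := E.exists_ts_of_elementary hc hsq hA
  have hle := hU.finrank_le
  obtain ⟨W, hW, hWd, hdis⟩ := QS.exists_compl hU (by omega)
  obtain ⟨D, -, hDW⟩ := exists_imp E hU hW hWd.symm fun x hx h => (Submodule.eq_bot_iff _).1 hdis x
    ⟨by rw [← hU.perp_eq (by omega)]; exact h, hx⟩
  exact ⟨D, by rw [hDW]; omega⟩

/-- The normalizer of an extraspecial group of plus type is maximal. -/
theorem maximal_plus {Q : (ι → F) → F} (hQ : Cfsg.Geo.IsNondegenerateQuadraticForm Q) (h13 : 13 ≤ Fintype.card ι)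
    (p k : ℕ) (hp : p.Prime) (hpo : Odd p) (hF : Fintype.card F = p) {R : Subgroup (GL ι F)}
    (hR : Cfsg.Geo.IsSymplecticTypeGroup 2 R)
    (hirr : Cfsg.Geo.ActsAbsolutelyIrreducibly (Cfsg.Geo.matrixSet R)) (hRD : R ≤ Cfsg.isometryGroup F Q)
    (hcard : Nat.card R = 2 ^ (1 + 2 * k)) (hZ : Nat.card (Subgroup.center R) = 2)
    (hpt : Cfsg.Geo.IsOfPlusType k R) :
    Cfsg.Geo.IsMaximalIn (Cfsg.Geo.omegaGL Q) (Cfsg.Geo.subgroupNormalizer R ⊓ Cfsg.Geo.omegaGL Q) := by
  classical
  have : Fact p.Prime := ⟨hp⟩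
  have : CharP F p := by
    obtain ⟨c, hc⟩ := CharP.exists F
    obtain ⟨e, hc', he⟩ := FiniteField.card F c
    rw [hF] at he
    have : p = c := by
      have h0 : p ∣ c ^ (e : ℕ) := he ▸ dvd_refl p
      have h1 := (Nat.dvd_prime hc').1 (hp.dvd_of_dvd_pow h0)
      exact h1.resolve_left hp.ne_one
    rw [this]; exact hc
  have hcardF : Nat.card F = p := by rw [Nat.card_eq_fintype_card, hF]
  have h2 : (2 : F) ≠ 0 := fun h => by
    have h' : ((2 : ℕ) : F) = 0 := by exact_mod_cast h
    rw [CharP.cast_eq_zero_iff F p, Nat.prime_dvd_prime_iff_eq hp Nat.prime_two] at h'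
    subst h'
    exact absurd hpo (by decide)
  set q := quadOf hQ with hqdef
  have hq := OrthTools.quadOf_nondegenerate hQ
  set f : (ι → F) → (ι → F) → F := QuadraticMap.polar Q with hfdef
  have hiso : ∀ g ∈ Cfsg.isometryGroup F Q, Symp.IsIsometry f g := fun g hg u v =>
    polar_app (Q := q) (⟨g, hg⟩ : O q) u v
  have hmem : ∀ g, Symp.IsIsometry f g → g ∈ Cfsg.isometryGroup F Q := fun g hg u v => by
    have h := hg u u
    rw [hfdef, show QuadraticMap.polar Q (mt g *ᵥ u) (mt g *ᵥ u) = 2 * q (mt g *ᵥ u) from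
      CfsgLib.Orth.polar_self' (Q := q) _, show QuadraticMap.polar Q u u = 2 * q u from
      CfsgLib.Orth.polar_self' (Q := q) _] at h
    exact mul_left_cancel₀ h2 h
  obtain ⟨S, r, E, hER, hι⟩ := build h2 (by omega) h13 hR hirr hcard hZ f hQ.polar_bilinear hQ.nondegenerate
    (fun g hg => hiso g (hRD hg)) (G := Cfsg.Geo.omegaGL Q)
    (fun g hg => hiso g (isometry_of_omega hg))
    (fun g hg => ⟨(⟨g, hmem g hg⟩ : O q) ^ 2, CfsgLib.OrthFix.sq_mem_commutator hq (Or.inl (by omega)) _,
      (map_pow (O q).subtype (⟨g, hmem g hg⟩ : O q) 2).trans (pow_two g)⟩)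
  subst hER
  have hk : 4 ≤ k := by
    by_contra h
    push Not at h
    have : 2 ^ k ≤ 2 ^ 3 := Nat.pow_le_pow_right two_pos (by omega)
    omega
  have hV : finrank (ZMod 2) (Fin (2 * k) → ZMod 2) = 2 * k := Module.finrank_fin_fun _
  have hn7 : 7 ≤ Fintype.card ι := by omega
  refine ⟨lt_of_le_of_ne inf_le_right fun he => ?_, fun X hle hXG => ?_⟩
  · have hΩ : Cfsg.Geo.omegaGL Q ≤ Subgroup.normalizer (E.R : Set (GL ι F)) := he.symm.le.trans inf_le_left
    have htop : ∀ x ∈ (⊤ : Submodule F (ι → F)), x ≠ 0 → ∃ y ∈ (⊤ : Submodule F (ι → F)), polar q x y ≠ 0 :=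
      fun x _ hx => by
        obtain ⟨a, ha⟩ := exists_polar_eq_one hq hx
        exact ⟨a, trivial, by rw [ha]; exact one_ne_zero⟩
    obtain ⟨a, -, ha⟩ := OrthEich.exists_value_in hq htop
      (by rw [finrank_top, Module.finrank_fintype_fun_eq_card]; omega) 1
    have hqa : q a ≠ 0 := by rw [ha]; exact one_ne_zero
    have ha2 : polar q a a ≠ 0 := by rw [polar_self', ha, mul_one]; exact h2
    set W := OrthTools.orth q (Submodule.span F {a}) with hW
    have hWd := OrthTools.finrank_orth hq (Submodule.span F {a})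
    rw [finrank_span_singleton (fun e : a = 0 => hqa (by rw [e, QuadraticMap.map_zero]))] at hWd
    have hWnd : ∀ x ∈ W, x ≠ 0 → ∃ y ∈ W, polar q x y ≠ 0 := fun x hx hx0 => by
      obtain ⟨y, -, hy⟩ := htop x trivial hx0
      have hxa : polar q a x = 0 := OrthTools.mem_orth.1 hx a (Submodule.mem_span_singleton_self a)
      refine ⟨y - (polar q a y / polar q a a) • a, OrthTools.mem_orth.2 fun z hz => ?_, ?_⟩
      · obtain ⟨t, rfl⟩ := Submodule.mem_span_singleton.1 hz
        rw [polar_smul_left, polar_sub_right, polar_smul_right, smul_eq_mul, smul_eq_mul,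
          div_mul_cancel₀ _ ha2, sub_self, mul_zero]
      · rwa [polar_sub_right, polar_smul_right, polar_comm (f := ⇑q) x a, hxa, smul_zero, sub_zero]
    obtain ⟨b, hbW, hb⟩ := OrthEich.exists_value_in hq hWnd (by rw [show finrank F W = Fintype.card ι - 1 from hWd]; omega) 1
    have hab : polar q a b = 0 := OrthTools.mem_orth.1 hbW a (Submodule.mem_span_singleton_self a)
    set γ : O q := refl q a * refl q b with hγ
    refine E.not_normal (γ := (γ : GL ι F)) ⟨γ, OrthEich.pair_mem hq hn7 hqa (by rw [ha, hb]), rfl⟩ (fun e => ?_)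
      (OrthTools.orth q (Submodule.span F ({a, b} : Set (ι → F)))) (fun x hx => ?_) ?_ hΩ
    · have h1 : app γ a = -a := by rw [hγ, app_mul, app_refl_of_ortho hab, app_refl_self hqa]
      rw [app_apply, e, Units.val_one, one_mulVec, eq_neg_iff_add_eq_zero, ← two_smul F] at h1
      exact hqa (by rw [(smul_eq_zero.1 h1).resolve_left h2, QuadraticMap.map_zero])
    · obtain ⟨hxa, hxb⟩ := OrthEich.mem_orth_pair.1 hx
      rw [← app_apply, hγ, app_mul, app_refl_of_ortho (x := x) (v := b) (by rw [polar_comm]; exact hxb),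
        app_refl_of_ortho (x := x) (v := a) (by rw [polar_comm]; exact hxa)]
    · have h1 := OrthTools.finrank_orth hq (Submodule.span F ({a, b} : Set (ι → F)))
      have h3 := OrthEich.finrank_pair_le (F := F) a b
      rw [h1]
      omega
  · by_cases hXM : X ≤ E.M
    · exact Or.inl (le_antisymm hXM hle)
    right
    refine le_antisymm hXG ?_
    have hMX : E.M ≤ X := hle
    have hG2 := E.gate2_of_not_le hMX hXG hXM
    obtain ⟨D, hDW⟩ := exists_plus_imp E hV hpt
    have hDn : D.n = Fintype.card ι := by rw [D.n_eq, hDW, hι]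
    have hΩ := D.omega_le E (E.R_le_M.trans hMX) hXG hG2 p hcardF (by omega)
    have := D.commutator_iso_le E hDn hΩ (Cfsg.isometryGroup F Q) hiso
    refine le_trans (le_of_eq ?_) this
    show (commutator (Cfsg.isometryGroup F Q)).map (Cfsg.isometryGroup F Q).subtype = _
    exact Subgroup.map_subtype_commutator _

end CfsgLib.ExtraTypeMax
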