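import Cfsg.Agent.Lib.ExtraTypeMax.Imprim

/-!
The tensor coordinates given by two totally singular subspaces: the common fixed space and its copies.
-/

set_option autoImplicit false
set_option linter.unusedSectionVars false

namespace CfsgLib.ExtraTypeMax

open Matrix Module CfsgLib.GeomClasses

variable {ι : Type} [Fintype ι] [DecidableEq ι] {F : Type*} [Field F]
  {V : Type*} [AddCommGroup V] [Module (ZMod 2) V] [FiniteDimensional (ZMod 2) V]
  {S : QS V} {f : (ι → F) → (ι → F) → F} {r : V → GL ι F} {G : Subgroup (GL ι F)}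

namespace Imp

variable (D : Imp S r)

/-- The common fixed space. -/
noncomputable def L0 : Submodule F (ι → F) := LinearMap.range D.P0.mulVecLin

/-- A vector of the coordinates in the copies of one fixed vector. -/
noncomputable def coord (c : Fin D.n → F) (l : ι → F) : ι → F := ∑ i, c i • (mt (D.τ (D.idx.symm i)) *ᵥ l)

theorem coord_smul (c : Fin D.n → F) (s : F) (l : ι → F) : D.coord c (s • l) = s • D.coord c l := by
  simp only [coord, mulVec_smul, Finset.smul_sum, smul_comm s]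

theorem smul_coord (c : Fin D.n → F) (s : F) (l : ι → F) : D.coord (s • c) l = s • D.coord c l := by
  simp only [coord, Pi.smul_apply, smul_eq_mul, mul_smul, Finset.smul_sum]

theorem coord_zero_right (c : Fin D.n → F) : D.coord c 0 = 0 := by simp [coord]

theorem coord_commute {g : Matrix ι ι F} (hτ : ∀ x, Commute g (mt (D.τ x))) (c : Fin D.n → F) (l : ι → F) :
    g *ᵥ D.coord c l = D.coord c (g *ᵥ l) := by
  simp only [coord, mulVec_sum, mulVec_smul, mulVec_mulVec, (hτ _).eq]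

variable (E : Ext S f r G)
include E

theorem P0_idem : D.P0 * D.P0 = D.P0 := by
  classical
  have h := D.P0_τ_P0 E 0
  rwa [D.τ_zero, Units.val_one, mul_one, if_pos rfl] at h

theorem mem_L0 {l : ι → F} : l ∈ D.L0 ↔ D.P0 *ᵥ l = l :=
  ⟨fun ⟨x, hx⟩ => by rw [← hx, mulVecLin_apply, mulVec_mulVec, D.P0_idem E], fun h => ⟨l, h⟩⟩

theorem P0_mem (x : ι → F) : D.P0 *ᵥ x ∈ D.L0 := ⟨x, rfl⟩

theorem expand (v : ι → F) :
    v = ∑ i, mt (D.τ (D.idx.symm i)) *ᵥ (D.P0 *ᵥ (mt (D.τ (D.idx.symm i)) *ᵥ v)) := by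
  conv_lhs => rw [← one_mulVec v, ← D.sum_unit E, sum_mulVec]
  exact Finset.sum_congr rfl fun i _ => by rw [unit, mulVec_mulVec, mulVec_mulVec]

theorem phi_unit (i j : Fin D.n) (A : Matrix (Fin D.n) (Fin D.n) F) :
    D.phi A * D.unit i j = ∑ l, A l i • D.unit l j := by
  rw [phi, Finset.sum_mul]
  refine Finset.sum_congr rfl fun l _ => ?_
  rw [Finset.sum_mul, Finset.sum_eq_single i]
  · rw [smul_mul_assoc, D.unit_mul E, if_pos rfl]
  · intro k _ hk
    rw [smul_mul_assoc, D.unit_mul E, if_neg hk, smul_zero]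
  · exact fun h => absurd (Finset.mem_univ _) h

theorem phi_τ_mulVec (A : Matrix (Fin D.n) (Fin D.n) F) (j : Fin D.n) {l : ι → F} (hl : l ∈ D.L0) :
    D.phi A *ᵥ (mt (D.τ (D.idx.symm j)) *ᵥ l) = D.coord (A.col j) l := by
  have hu : ∀ i, D.unit i j *ᵥ (mt (D.τ (D.idx.symm j)) *ᵥ l) = mt (D.τ (D.idx.symm i)) *ᵥ l := fun i => by
    rw [unit, mulVec_mulVec, mul_assoc, D.τ_sq, mul_one, ← mulVec_mulVec, (D.mem_L0 E).1 hl]
  rw [← hu j, mulVec_mulVec, D.phi_unit E, sum_mulVec]
  exact Finset.sum_congr rfl fun i _ => by rw [smul_mulVec, hu i]; rfl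

theorem phi_coord (A : Matrix (Fin D.n) (Fin D.n) F) (c : Fin D.n → F) {l : ι → F} (hl : l ∈ D.L0) :
    D.phi A *ᵥ D.coord c l = D.coord (A *ᵥ c) l := by
  conv_lhs => rw [coord, mulVec_sum]
  simp only [mulVec_smul, D.phi_τ_mulVec E A _ hl, coord, Finset.smul_sum, smul_smul]
  rw [Finset.sum_comm]
  refine Finset.sum_congr rfl fun i _ => ?_
  rw [← Finset.sum_smul, mulVec, dotProduct]
  exact congrArg (· • _) (Finset.sum_congr rfl fun j _ => mul_comm _ _)

theorem form_τ (i j : Fin D.n) {l l' : ι → F} (hl : l ∈ D.L0) (hl' : l' ∈ D.L0) :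
    f (mt (D.τ (D.idx.symm i)) *ᵥ l) (mt (D.τ (D.idx.symm j)) *ᵥ l') = if i = j then f l l' else 0 := by
  classical
  rw [E.adj_lift (D.τ_pm _) (D.τ_sq _)]
  conv_lhs => rw [← (D.mem_L0 E).1 hl]
  rw [D.adj_P0 E, ← (D.mem_L0 E).1 hl', mulVec_mulVec, mulVec_mulVec, mulVec_mulVec, mul_assoc D.P0, ← Units.val_mul, ← D.τ_add,
    D.P0_τ_P0 E]
  by_cases h : i = j
  · subst h
    rw [if_pos (Subtype.ext (v_add_self (D.idx.symm i : V))), if_pos rfl, (D.mem_L0 E).1 hl']
  · rw [if_neg (fun e : D.idx.symm i + D.idx.symm j = 0 => h (D.idx.symm.injective (Subtype.ext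
      (v_add_eq_zero.1 (congrArg Subtype.val e : (D.idx.symm i : V) + (D.idx.symm j : V) = 0))))), if_neg h,
      zero_mulVec]
    have := E.bil.smul_right (0 : F) l l
    simpa using this

theorem form_coord (c c' : Fin D.n → F) {l l' : ι → F} (hl : l ∈ D.L0) (hl' : l' ∈ D.L0) :
    f (D.coord c l) (D.coord c' l') = (c ⬝ᵥ c') * f l l' := by
  let Bf : LinearMap.BilinForm F (ι → F) :=
    LinearMap.mk₂ F f E.bil.add_left E.bil.smul_left E.bil.add_right E.bil.smul_right
  show Bf (D.coord c l) (D.coord c' l') = _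
  simp only [coord, map_sum, LinearMap.sum_apply, map_smul, LinearMap.smul_apply, smul_eq_mul]
  show ∑ i, c' i * ∑ j, c j * f (mt (D.τ (D.idx.symm j)) *ᵥ l) (mt (D.τ (D.idx.symm i)) *ᵥ l') = _
  simp only [D.form_τ E _ _ hl hl', mul_ite, mul_zero, Finset.sum_ite_eq', Finset.mem_univ, if_true,
    dotProduct, Finset.sum_mul]
  exact Finset.sum_congr rfl fun i _ => by ring

/-- The size of the fixed space. -/
theorem card_eq : Fintype.card ι = D.n * finrank F D.L0 := by
  let Φ : (Fin D.n → D.L0) →ₗ[F] (ι → F) :=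
    { toFun := fun w => ∑ i, mt (D.τ (D.idx.symm i)) *ᵥ (w i : ι → F)
      map_add' := fun w w' => by simp [mulVec_add, Finset.sum_add_distrib]
      map_smul' := fun s w => by simp [mulVec_smul, Finset.smul_sum] }
  have hinj : Function.Injective Φ := by
    rw [← LinearMap.ker_eq_bot]
    refine (Submodule.eq_bot_iff _).2 fun w hw => funext fun j => Subtype.ext ?_
    have h : D.P0 *ᵥ (mt (D.τ (D.idx.symm j)) *ᵥ Φ w) = (w j : ι → F) := by
      show D.P0 *ᵥ (mt (D.τ (D.idx.symm j)) *ᵥ ∑ i, mt (D.τ (D.idx.symm i)) *ᵥ (w i : ι → F)) = _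
      rw [mulVec_sum, mulVec_sum, Finset.sum_eq_single j]
      · rw [mulVec_mulVec (v := (w j : ι → F)), D.τ_sq, one_mulVec, (D.mem_L0 E).1 (w j).2]
      · intro i _ hij
        classical
        rw [← (D.mem_L0 E).1 (w i).2, mulVec_mulVec, mulVec_mulVec, mulVec_mulVec,
          mul_assoc D.P0, ← Units.val_mul, ← D.τ_add, D.P0_τ_P0 E,
          if_neg (fun e : D.idx.symm j + D.idx.symm i = 0 => hij (D.idx.symm.injective (Subtype.ext
            (v_add_eq_zero.1 (congrArg Subtype.val e : (D.idx.symm j : V) + (D.idx.symm i : V) = 0)))).symm),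
          zero_mulVec]
      · exact fun h => absurd (Finset.mem_univ _) h
    rw [LinearMap.mem_ker.1 hw, mulVec_zero, mulVec_zero] at h
    exact h.symm
  have hsurj : Function.Surjective Φ := fun v =>
    ⟨fun i => ⟨D.P0 *ᵥ (mt (D.τ (D.idx.symm i)) *ᵥ v), D.P0_mem E _⟩, (D.expand E v).symm⟩
  have h := (LinearEquiv.ofBijective Φ ⟨hinj, hsurj⟩).finrank_eq
  rw [Module.finrank_pi_fintype, Module.finrank_fintype_fun_eq_card] at h
  simpa using h.symm

end Imp

end CfsgLib.ExtraTypeMax
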