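import Cfsg.Agent.Lib.ExtraTypeMax.QSpace
import Cfsg.Agent.Lib.GeomClasses.Symp

/-!
A symplectic-type 2-group of isometries described by its quadratic space; elements of the normalizer
inducing products of two transvections.
-/

set_option autoImplicit false
set_option linter.unusedSectionVars false

namespace CfsgLib.ExtraTypeMax

open Matrix CfsgLib.GeomClasses

variable {ι : Type} [Fintype ι] [DecidableEq ι] {F : Type*} [Field F]

/-- The matrix of an element. -/
scoped notation:max "mt" => Units.val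

/-- Equality up to sign. -/
def PM (g h : GL ι F) : Prop := g = h ∨ g = -h

/-- A matrix is the matrix of an element of the subgroup. -/
def InX (X : Subgroup (GL ι F)) (m : Matrix ι ι F) : Prop := ∃ g ∈ X, mt g = m

theorem InX.mul {X : Subgroup (GL ι F)} {m m' : Matrix ι ι F} (h : InX X m) (h' : InX X m') :
    InX X (m * m') := by
  obtain ⟨g, hg, rfl⟩ := h
  obtain ⟨g', hg', rfl⟩ := h'
  exact ⟨g * g', X.mul_mem hg hg', rfl⟩

theorem InX.of_mem {X : Subgroup (GL ι F)} {g : GL ι F} (h : g ∈ X) : InX X (mt g) := ⟨g, h, rfl⟩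

theorem InX.one (X : Subgroup (GL ι F)) : InX X 1 := ⟨1, X.one_mem, rfl⟩

theorem InX.inv {X : Subgroup (GL ι F)} {m m' : Matrix ι ι F} (h : InX X m) (he : m * m' = 1) : InX X m' := by
  obtain ⟨g, hg, rfl⟩ := h
  refine ⟨g⁻¹, X.inv_mem hg, ?_⟩
  calc mt g⁻¹ = mt g⁻¹ * (mt g * m') := by rw [he, mul_one]
    _ = m' := by rw [← mul_assoc, ← Units.val_mul, inv_mul_cancel, Units.val_one, one_mul]

namespace PM

theorem refl (g : GL ι F) : PM g g := Or.inl rfl

theorem neg_self (g : GL ι F) : PM (-g) g := Or.inr rfl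

theorem symm {g h : GL ι F} (e : PM g h) : PM h g := by
  rcases e with rfl | rfl
  · exact Or.inl rfl
  · exact Or.inr (neg_neg h).symm

theorem trans {g h l : GL ι F} (e : PM g h) (e' : PM h l) : PM g l := by
  rcases e with rfl | rfl <;> rcases e' with rfl | rfl
  · exact Or.inl rfl
  · exact Or.inr rfl
  · exact Or.inr rfl
  · exact Or.inl (neg_neg l)

theorem mul {g h g' h' : GL ι F} (e : PM g h) (e' : PM g' h') : PM (g * g') (h * h') := by
  rcases e with rfl | rfl <;> rcases e' with rfl | rfl <;> simp [PM]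

theorem inv {g h : GL ι F} (e : PM g h) : PM g⁻¹ h⁻¹ := by
  rcases e with rfl | rfl
  · exact refl _
  · rw [inv_neg]; exact neg_self _

theorem conj {g h : GL ι F} (x : GL ι F) (e : PM g h) : PM (x * g * x⁻¹) (x * h * x⁻¹) :=
  ((refl x).mul e).mul (refl _)

end PM

theorem mt_neg (g : GL ι F) : mt (-g) = -mt g := rfl

theorem gl_one_mulVec (x : ι → F) : mt (1 : GL ι F) *ᵥ x = x := by rw [Units.val_one, Matrix.one_mulVec]

theorem mem_mul_iso {f : (ι → F) → (ι → F) → F} {g : GL ι F} (hg : Symp.IsIsometry f g) :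
    Symp.IsIsometry f g⁻¹ := fun u v => by
  have h := hg (mt g⁻¹ *ᵥ u) (mt g⁻¹ *ᵥ v)
  rw [gl_mulVec_inv_mulVec, gl_mulVec_inv_mulVec] at h
  exact h.symm

variable {V : Type*} [AddCommGroup V] [Module (ZMod 2) V]

/-- The sign. -/
def sgn (x : ZMod 2) : GL ι F := if x = 0 then 1 else -1

@[simp] theorem sgn_zero : (sgn 0 : GL ι F) = 1 := if_pos rfl

@[simp] theorem sgn_one : (sgn 1 : GL ι F) = -1 := if_neg one_ne_zero

theorem sgn_add (x y : ZMod 2) : (sgn (x + y) : GL ι F) = sgn x * sgn y := by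
  rcases z2 x with rfl | rfl <;> rcases z2 y with rfl | rfl <;> simp [CharTwo.add_self_eq_zero]

theorem sgn_mul_comm (x : ZMod 2) (g : GL ι F) : sgn x * g = g * sgn x := by
  rcases z2 x with rfl | rfl <;> simp

theorem sgn_sq (x : ZMod 2) : (sgn x : GL ι F) * sgn x = 1 := by
  rcases z2 x with rfl | rfl <;> simp

theorem pm_iff {g h : GL ι F} : PM g h ↔ ∃ x, g = sgn x * h := by
  refine ⟨fun e => ?_, fun ⟨x, e⟩ => ?_⟩
  · rcases e with rfl | rfl
    · exact ⟨0, by simp⟩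
    · exact ⟨1, by simp⟩
  · rcases z2 x with rfl | rfl <;> simp [PM, e]

/-- The data of a symplectic-type group of isometries. -/
structure Ext (S : QS V) (f : (ι → F) → (ι → F) → F) (r : V → GL ι F) (G : Subgroup (GL ι F)) : Prop where
  two : (2 : F) ≠ 0
  bil : Cfsg.Geo.IsBilinearForm f
  nondeg : Cfsg.Geo.IsNondegenerateForm f
  gIso : ∀ g ∈ G, Symp.IsIsometry f g
  sqG : ∀ g, Symp.IsIsometry f g → g * g ∈ G
  r_add : ∀ a b, PM (r a * r b) (r (a + b))
  r_zero : r 0 = 1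
  r_sq : ∀ a, r a * r a = sgn (S.Q a)
  r_comm : ∀ a b, r a * r b = sgn (S.B a b) * (r b * r a)
  r_iso : ∀ a, Symp.IsIsometry f (r a)
  irred : ∀ W : Submodule F (ι → F), (∀ a, ∀ x ∈ W, mt (r a) *ᵥ x ∈ W) → W = ⊥ ∨ W = ⊤
  abs : ∀ m : Matrix ι ι F, (∀ a, m * mt (r a) = mt (r a) * m) → ∃ c : F, m = c • 1
  eight : 8 ≤ Module.finrank (ZMod 2) V
  card : Fintype.card ι ^ 2 = 2 ^ Module.finrank (ZMod 2) V

/-- Inducing a linear map. -/
def Ind (r : V → GL ι F) (g : GL ι F) (θ : V → V) : Prop := ∀ a, PM (g * r a * g⁻¹) (r (θ a))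

/-- The matrix of the element inducing two transvections. -/
noncomputable def pmat (C D : GL ι F) : Matrix ι ι F := (2 : F)⁻¹ • ((1 + mt C) * (1 + mt D))

open Classical in
/-- The element inducing two transvections. -/
noncomputable def gp (C D : GL ι F) : GL ι F := if h : IsUnit (pmat C D) then h.unit else 1

theorem mt_gp (h2 : (2 : F) ≠ 0) {C D : GL ι F} (hC : C * C = -1) (hD : D * D = -1) :
    mt (gp C D) = pmat C D := by
  have hu : ∀ {E : GL ι F}, E * E = -1 → (1 + mt E) * (1 - mt E) = (2 : F) • 1 ∧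
      (1 - mt E) * (1 + mt E) = (2 : F) • 1 := fun {E} hE => by
    have e : mt E * mt E = -1 := congrArg Units.val hE
    constructor <;> simp only [add_mul, mul_add, sub_mul, mul_sub, one_mul, mul_one, e, two_smul] <;> abel
  have h1 : pmat C D * ((2 : F)⁻¹ • ((1 - mt D) * (1 - mt C))) = 1 := by
    rw [pmat, smul_mul_smul_comm, mul_assoc, ← mul_assoc (1 + mt D), (hu hD).1, smul_mul_assoc, one_mul,
      mul_smul_comm, (hu hC).1, smul_smul, smul_smul]
    rw [show (2 : F)⁻¹ * (2 : F)⁻¹ * 2 * 2 = 1 by field_simp, one_smul]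
  have hU : IsUnit (pmat C D) := ⟨⟨_, _, h1, mul_eq_one_comm.1 h1⟩, rfl⟩
  rw [gp, dif_pos hU]
  exact hU.unit_spec

namespace Ext

variable [FiniteDimensional (ZMod 2) V] {S : QS V} {f : (ι → F) → (ι → F) → F} {r : V → GL ι F}
  {G : Subgroup (GL ι F)} (E : Ext S f r G)
include E

theorem sixteen : 16 ≤ Fintype.card ι := by
  by_contra hc
  push Not at hc
  have h1 : Fintype.card ι ^ 2 < 16 ^ 2 := Nat.pow_lt_pow_left hc two_ne_zero
  have h2 : 2 ^ 8 ≤ 2 ^ Module.finrank (ZMod 2) V := Nat.pow_le_pow_right two_pos E.eight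
  rw [E.card] at h1
  norm_num at h1 h2
  omega

theorem nonempty : Nonempty ι := Fintype.card_pos_iff.1 (by have := E.sixteen; omega)

theorem neg_ne (g : GL ι F) : -g ≠ g := fun e => by
  have := E.nonempty
  have h1 : -(1 : GL ι F) = 1 := by
    have := congrArg (· * g⁻¹) e
    simpa using this
  obtain ⟨i⟩ := E.nonempty
  have h2 := congrArg (fun M : Matrix ι ι F => M i i) (congrArg Units.val h1)
  simp only [Units.val_neg, Units.val_one, Matrix.neg_apply, Matrix.one_apply_eq] at h2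
  exact E.two (by linear_combination -h2)

theorem sgn_inj {x y : ZMod 2} (h : (sgn x : GL ι F) = sgn y) : x = y := by
  rcases z2 x with rfl | rfl <;> rcases z2 y with rfl | rfl <;> simp at h ⊢
  · exact E.neg_ne 1 h.symm
  · exact E.neg_ne 1 h

theorem r_comm0 {a b : V} (h : S.B a b = 0) : r a * r b = r b * r a := by rw [E.r_comm, h, sgn_zero, one_mul]

theorem r_comm1 {a b : V} (h : S.B a b = 1) : r a * r b = -(r b * r a) := by
  rw [E.r_comm, h, sgn_one, neg_one_mul]

theorem r_inv (a : V) : PM (r a)⁻¹ (r a) := by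
  rw [pm_iff]
  refine ⟨S.Q a, inv_eq_of_mul_eq_one_right ?_⟩
  rw [← mul_assoc, ← sgn_mul_comm, mul_assoc, E.r_sq, sgn_sq]

theorem r_conj (a b : V) : r a * r b * (r a)⁻¹ = sgn (S.B a b) * r b := by
  rw [E.r_comm, mul_assoc, mul_inv_cancel_right]

theorem r_inj {a b : V} (h : PM (r a) (r b)) : a = b := by
  rw [← v_add_eq_zero]
  refine S.nondeg _ fun y => ?_
  obtain ⟨x, hx⟩ := pm_iff.1 h
  have h1 := E.r_conj y a
  rw [hx] at h1
  rw [← mul_assoc, ← sgn_mul_comm, mul_assoc (sgn x), mul_assoc (sgn x), E.r_conj y b, ← mul_assoc, ← mul_assoc,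
    ← sgn_add, ← sgn_add] at h1
  have h2 := E.sgn_inj (mul_right_cancel h1)
  rw [add_comm x] at h2
  rw [map_add, LinearMap.add_apply, S.B_comm a, S.B_comm b, ← add_right_cancel h2, CharTwo.add_self_eq_zero]

/-- The group of the signed lifts. -/
def R : Subgroup (GL ι F) where
  carrier := {g | ∃ a, PM g (r a)}
  mul_mem' := fun ⟨a, ha⟩ ⟨b, hb⟩ => ⟨a + b, (ha.mul hb).trans (E.r_add a b)⟩
  one_mem' := ⟨0, by rw [E.r_zero]; exact PM.refl 1⟩
  inv_mem' := fun ⟨a, ha⟩ => ⟨a, ha.inv.trans (E.r_inv a)⟩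

theorem mem_R {g : GL ι F} : g ∈ E.R ↔ ∃ a, PM g (r a) := Iff.rfl

theorem r_mem_R (a : V) : r a ∈ E.R := ⟨a, PM.refl _⟩

theorem sgn_mem_R (x : ZMod 2) : (sgn x : GL ι F) ∈ E.R :=
  ⟨0, pm_iff.2 ⟨x, by rw [E.r_zero, mul_one]⟩⟩

theorem exists_nonsingular_partner {c : V} (hc : c ≠ 0) : ∃ d, S.Q d = 1 ∧ S.B c d = 1 :=
  S.exists_nonsingular_B (by have := E.eight; omega) hc

theorem neg_one_mem : (-1 : GL ι F) ∈ G := by
  obtain ⟨c, -, hc⟩ := S.exists_Q_one (W := ⊤) (S.ni_of_lt (by rw [finrank_top]; have := E.eight; omega))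
  have h := E.sqG _ (E.r_iso c)
  rwa [E.r_sq, hc, sgn_one] at h

theorem pm_mem {g h : GL ι F} (e : PM g h) (hh : h ∈ G) : g ∈ G := by
  rcases e with rfl | rfl
  · exact hh
  · rw [show -h = -1 * h from (neg_one_mul h).symm]; exact G.mul_mem E.neg_one_mem hh

theorem iso_sub (g : GL ι F) (hg : Symp.IsIsometry f g) (hsq : g * g = -1) (u v : ι → F) :
    f (mt g *ᵥ u) v + f u (mt g *ᵥ v) = 0 := by
  have h := hg u (mt g *ᵥ v)
  rw [← gl_mul_mulVec, hsq] at h
  have e : ((-1 : GL ι F) : Matrix ι ι F) *ᵥ v = (-1 : F) • v := by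
    rw [Units.val_neg, Units.val_one, Matrix.neg_mulVec, Matrix.one_mulVec, neg_one_smul]
  rw [e, E.bil.smul_right] at h
  linear_combination -h

/-- The hypotheses on a lift of a non-singular vector. -/
theorem lift_facts {c : V} {C : GL ι F} (hc : S.Q c = 1) (hC : PM C (r c)) :
    C * C = -1 ∧ Symp.IsIsometry f C := by
  rcases hC with rfl | rfl
  · exact ⟨by rw [E.r_sq, hc, sgn_one], E.r_iso c⟩
  · refine ⟨by rw [neg_mul_neg, E.r_sq, hc, sgn_one], fun u v => ?_⟩
    rw [Units.val_neg, Matrix.neg_mulVec, Matrix.neg_mulVec, ← neg_one_smul F (mt (r c) *ᵥ u),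
      ← neg_one_smul F (mt (r c) *ᵥ v), E.bil.smul_left, E.bil.smul_right, E.r_iso c u v]
    ring

theorem gp_iso {c d : V} {C D : GL ι F} (hc : S.Q c = 1) (hd : S.Q d = 1) (hC : PM C (r c)) (hD : PM D (r d)) :
    Symp.IsIsometry f (gp C D) := by
  obtain ⟨hC2, hCi⟩ := E.lift_facts hc hC
  obtain ⟨hD2, hDi⟩ := E.lift_facts hd hD
  have hsim : ∀ {T : GL ι F}, T * T = -1 → Symp.IsIsometry f T → ∀ u v,
      f ((1 + mt T) *ᵥ u) ((1 + mt T) *ᵥ v) = 2 * f u v := fun {T} hT hTi u v => by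
    rw [Matrix.add_mulVec, Matrix.add_mulVec, Matrix.one_mulVec, Matrix.one_mulVec, E.bil.add_left,
      E.bil.add_right, E.bil.add_right, hTi u v]
    linear_combination E.iso_sub T hTi hT u v
  intro u v
  rw [show ((gp C D : GL ι F) : Matrix ι ι F) = pmat C D from mt_gp E.two hC2 hD2, pmat]
  rw [Matrix.smul_mulVec, Matrix.smul_mulVec, E.bil.smul_left, E.bil.smul_right, ← Matrix.mulVec_mulVec,
    ← Matrix.mulVec_mulVec, hsim hC2 hCi, hsim hD2 hDi]
  field_simp [E.two]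

theorem tv_conj {d : V} {D : GL ι F} (hd : S.Q d = 1) (hD : PM D (r d)) (z : V) :
    ∃ Z : GL ι F, PM Z (r (S.tv d z)) ∧ (1 + mt D) * mt (r z) = mt Z * (1 + mt D) := by
  obtain ⟨hD2, -⟩ := E.lift_facts hd hD
  have e2 : mt D * mt D = -1 := congrArg Units.val hD2
  rcases z2 (S.B d z) with h | h
  · refine ⟨r z, by rw [S.tv_of_ortho h]; exact PM.refl _, ?_⟩
    have hc : D * r z = r z * D := by
      rcases hD with rfl | rfl
      · exact E.r_comm0 h
      · rw [neg_mul, mul_neg, E.r_comm0 h]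
    have hc' : mt D * mt (r z) = mt (r z) * mt D := congrArg Units.val hc
    rw [add_mul, mul_add, one_mul, mul_one, hc']
  · have hZ : PM (D * r z) (r (S.tv d z)) := by
      rw [QS.tv_apply, h, one_smul, add_comm]
      exact (hD.mul (PM.refl _)).trans (E.r_add d z)
    refine ⟨D * r z, hZ, ?_⟩
    have hc : D * r z = -(r z * D) := by
      rcases hD with rfl | rfl
      · exact E.r_comm1 h
      · rw [neg_mul, mul_neg, E.r_comm1 h]
    have hc' : mt D * mt (r z) = -(mt (r z) * mt D) := congrArg Units.val hc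
    have e3 : mt D * mt (r z) * mt D = mt (r z) := by
      rw [hc', neg_mul, mul_assoc, e2, mul_neg, mul_one, neg_neg]
    rw [Units.val_mul, add_mul, mul_add, one_mul, mul_one, e3]
    abel

/-- The conjugation action of the element. -/
theorem gp_conj {c d : V} {C D : GL ι F} (hc : S.Q c = 1) (hd : S.Q d = 1) (hC : PM C (r c)) (hD : PM D (r d)) :
    Ind r (gp C D) (S.pair c d) := by
  obtain ⟨hC2, -⟩ := E.lift_facts hc hC
  obtain ⟨hD2, -⟩ := E.lift_facts hd hD
  intro z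
  obtain ⟨Z, hZ, eZ⟩ := E.tv_conj hd hD z
  obtain ⟨Z', hZ', eZ'⟩ := E.tv_conj hc hC (S.tv d z)
  rcases hZ with hZ | hZ
  · rw [hZ] at eZ
    have e : gp C D * r z = Z' * gp C D := Units.ext (by
      rw [Units.val_mul, Units.val_mul, show ((gp C D : GL ι F) : Matrix ι ι F) = pmat C D from mt_gp E.two hC2 hD2,
        pmat, smul_mul_assoc, mul_smul_comm, mul_assoc, eZ, ← mul_assoc, eZ', mul_assoc])
    rw [e, mul_inv_cancel_right]
    exact hZ'
  · rw [hZ, mt_neg] at eZ
    have e : gp C D * r z = -Z' * gp C D := Units.ext (by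
      rw [Units.val_mul, Units.val_mul, show ((gp C D : GL ι F) : Matrix ι ι F) = pmat C D from mt_gp E.two hC2 hD2,
        pmat, smul_mul_assoc, mul_smul_comm, mul_assoc, eZ, ← mul_assoc, mul_neg, eZ']
      simp only [Units.val_neg, neg_mul, mul_assoc])
    rw [e, mul_inv_cancel_right]
    exact (PM.neg_self Z').trans hZ'

theorem gp_split {c d e : V} {C D T : GL ι F} (hc : S.Q c = 1) (hd : S.Q d = 1) (he : S.Q e = 1)
    (hC : PM C (r c)) (hD : PM D (r d)) (hT : PM T (r e)) : gp C T * gp (-T) D = gp C D := by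
  obtain ⟨hC2, -⟩ := E.lift_facts hc hC
  obtain ⟨hD2, -⟩ := E.lift_facts hd hD
  obtain ⟨hT2, -⟩ := E.lift_facts he hT
  obtain ⟨hT2', -⟩ := E.lift_facts he ((PM.neg_self T).trans hT)
  apply Units.ext
  show mt (gp C T) * mt (gp (-T) D) = mt (gp C D)
  rw [mt_gp E.two hC2 hT2, mt_gp E.two hT2' hD2, mt_gp E.two hC2 hD2, pmat, pmat, pmat, smul_mul_smul_comm,
    mt_neg]
  have e2 : mt T * mt T = -1 := congrArg Units.val hT2
  have e3 : (1 + mt T) * (1 + -mt T) = (2 : F) • (1 : Matrix ι ι F) := by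
    simp only [add_mul, mul_add, one_mul, mul_one, mul_neg, e2, neg_neg, two_smul]
    abel
  rw [mul_assoc, ← mul_assoc (1 + mt T), e3, smul_mul_assoc, one_mul, mul_smul_comm, smul_smul]
  congr 1
  field_simp [E.two]

theorem gp_cube {c d : V} {C D : GL ι F} (hc : S.Q c = 1) (hd : S.Q d = 1) (hC : PM C (r c)) (hD : PM D (r d))
    (hB : S.B c d = 1) : gp C D * gp C D * gp C D = -1 := by
  obtain ⟨hC2, -⟩ := E.lift_facts hc hC
  obtain ⟨hD2, -⟩ := E.lift_facts hd hD
  have hanti : C * D = -(D * C) := by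
    rcases hC with rfl | rfl <;> rcases hD with rfl | rfl <;>
      simp only [neg_mul, mul_neg, neg_neg, E.r_comm1 hB]
  have a : mt C * mt D = -(mt D * mt C) := congrArg Units.val hanti
  have c2 : mt C * mt C = -1 := congrArg Units.val hC2
  have d2 : mt D * mt D = -1 := congrArg Units.val hD2
  set N := mt C + mt D + mt C * mt D with hN
  have dc : mt D * mt C = -(mt C * mt D) := by rw [a, neg_neg]
  have hN2 : N * N = (-3 : F) • 1 := by
    have t1 : mt C * (mt C * mt D) = -mt D := by rw [← mul_assoc, c2, neg_one_mul]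
    have t2 : mt C * mt D * mt C = mt D := by rw [mul_assoc, dc, mul_neg, t1, neg_neg]
    have t3 : mt D * (mt C * mt D) = mt C := by
      rw [← mul_assoc, dc, neg_mul, mul_assoc, d2, mul_neg, mul_one, neg_neg]
    have t4 : mt C * mt D * mt D = -mt C := by rw [mul_assoc, d2, mul_neg, mul_one]
    have t5 : mt C * mt D * (mt C * mt D) = -1 := by rw [← mul_assoc, t2, d2]
    simp only [hN, add_mul, mul_add, c2, d2, dc, t1, t2, t3, t4, t5]
    module
  have hg : mt (gp C D) = (2 : F)⁻¹ • (1 + N) := by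
    rw [mt_gp E.two hC2 hD2, pmat, hN]
    congr 1
    simp only [add_mul, mul_add, one_mul, mul_one]
    abel
  apply Units.ext
  show mt (gp C D) * mt (gp C D) * mt (gp C D) = -1
  rw [hg, smul_mul_smul_comm, smul_mul_smul_comm]
  have e : (1 + N) * (1 + N) * (1 + N) = (-8 : F) • 1 := by
    simp only [add_mul, mul_add, one_mul, mul_one, hN2, smul_mul_assoc]
    module
  rw [e, smul_smul, show (2 : F)⁻¹ * (2 : F)⁻¹ * (2 : F)⁻¹ * -8 = -1 by field_simp [E.two]; ring, neg_one_smul]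

theorem gp_mem_one {c d : V} {C D : GL ι F} (hc : S.Q c = 1) (hd : S.Q d = 1) (hC : PM C (r c))
    (hD : PM D (r d)) (hB : S.B c d = 1) :
    gp C D ∈ G ∧ ∀ T, Symp.IsIsometry f T → T * gp C D * T⁻¹ ∈ G := by
  have hgi := E.gp_iso hc hd hC hD
  have h3 := E.gp_cube hc hd hC hD hB
  have e : gp C D = -((gp C D)⁻¹ * (gp C D)⁻¹) := by
    calc gp C D = (gp C D * gp C D * gp C D) * ((gp C D)⁻¹ * (gp C D)⁻¹) := by group
      _ = _ := by rw [h3, neg_one_mul]
  have hmem : ∀ T, Symp.IsIsometry f T → T * gp C D * T⁻¹ ∈ G := fun T hT => by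
    rw [e, mul_neg, neg_mul, show T * ((gp C D)⁻¹ * (gp C D)⁻¹) * T⁻¹ =
      (T * (gp C D)⁻¹ * T⁻¹) * (T * (gp C D)⁻¹ * T⁻¹) by group]
    exact E.pm_mem (PM.neg_self _) (E.sqG _ (Symp.isometry_mul (Symp.isometry_mul hT (mem_mul_iso hgi))
      (mem_mul_iso hT)))
  exact ⟨by simpa using hmem 1 (fun u v => by simp), hmem⟩

theorem exists_mid {c d : V} (hc : S.Q c = 1) (hd : S.Q d = 1) :
    ∃ e, S.Q e = 1 ∧ S.B c e = 1 ∧ S.B d e = 1 := by
  have hc0 : c ≠ 0 := fun e => by simp [e, S.Q_zero] at hc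
  rcases eq_or_ne c d with rfl | hne
  · obtain ⟨e, he, h⟩ := E.exists_nonsingular_partner hc0
    exact ⟨e, he, h, h⟩
  obtain ⟨μ, hμ, h1⟩ := S.sep (U := Submodule.span (ZMod 2) {c + d}) (x := c) fun hm => by
    obtain ⟨s, hs⟩ := Submodule.mem_span_singleton.1 hm
    rcases z2 s with rfl | rfl <;> simp at hs
    · exact hc0 hs.symm
    · rw [hs, S.Q_zero] at hd; exact zero_ne_one hd
  have h2 : S.B d μ = 1 := by
    have h2 : S.B (c + d) μ = 0 := hμ (c + d) (Submodule.mem_span_singleton_self _)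
    rw [map_add, LinearMap.add_apply, h1, add_eq_zero_iff_eq_neg, CharTwo.neg_eq] at h2
    exact h2.symm
  rcases z2 (S.Q μ) with hq | hq
  · obtain ⟨z, hz, hQz⟩ := S.exists_Q_add_B (W := S.lperp [c, d]) (S.ni_of_lt (by
      have := S.finrank_lperp [c, d]; have := E.eight
      simp only [List.length_cons, List.length_nil] at *; omega)) μ
    refine ⟨μ + z, by rw [S.Q_add, hq, zero_add, hQz], ?_, ?_⟩
    · rw [map_add, h1, S.mem_lperp.1 hz c (by simp), add_zero]
    · rw [map_add, h2, S.mem_lperp.1 hz d (by simp), add_zero]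
  · exact ⟨μ, hq, h1, h2⟩

theorem gp_mem_G {c d : V} {C D : GL ι F} (hc : S.Q c = 1) (hd : S.Q d = 1) (hC : PM C (r c))
    (hD : PM D (r d)) : gp C D ∈ G := by
  obtain ⟨e, he, hce, hde⟩ := E.exists_mid hc hd
  rw [← E.gp_split hc hd he hC hD (PM.refl _)]
  exact G.mul_mem (E.gp_mem_one hc he hC (PM.refl _) hce).1
    (E.gp_mem_one he hd (PM.neg_self _) hD (by rw [S.B_comm]; exact hde)).1

theorem nonsingular_mem {c : V} (hc : S.Q c = 1) : r c ∈ G := by
  have hc0 : c ≠ 0 := fun e => by simp [e, S.Q_zero] at hc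
  obtain ⟨d, hd, hcd⟩ := E.exists_nonsingular_partner hc0
  obtain ⟨z, hdz, hcz⟩ : ∃ z, S.B d z = 0 ∧ S.B c z = 1 := by
    obtain ⟨z, hz, h⟩ := S.sep (U := Submodule.span (ZMod 2) {d}) (x := c) fun hm => by
      obtain ⟨s, hs⟩ := Submodule.mem_span_singleton.1 hm
      rw [← hs, map_smul, LinearMap.smul_apply, S.B_self, smul_zero] at hcd
      exact zero_ne_one hcd
    exact ⟨z, hz d (Submodule.mem_span_singleton_self d), h⟩
  have hz : S.pair c d z = z + c := by
    rw [QS.pair_apply, S.tv_of_ortho hdz, QS.tv_apply, hcz, one_smul]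
  obtain ⟨hg, hgT⟩ := E.gp_mem_one hc hd (PM.refl _) (PM.refl _) hcd
  have h := E.gp_conj hc hd (PM.refl _) (PM.refl _) z
  rw [hz] at h
  refine E.pm_mem (h := gp (r c) (r d) * (r z * (gp (r c) (r d))⁻¹ * (r z)⁻¹)) ?_ (G.mul_mem hg ?_)
  · have e : PM (r (z + c) * (r z)⁻¹) (r c) := by
      refine (((PM.refl (r (z + c))).mul (E.r_inv z)).trans (E.r_add _ _)).trans ?_
      rw [add_comm z c, add_assoc, v_add_self, add_zero]
      exact PM.refl _
    rw [show gp (r c) (r d) * (r z * (gp (r c) (r d))⁻¹ * (r z)⁻¹) =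
      gp (r c) (r d) * r z * (gp (r c) (r d))⁻¹ * (r z)⁻¹ by group]
    exact ((h.mul (PM.refl _)).trans e).symm
  · have := G.inv_mem (hgT _ (E.r_iso z))
    simpa [mul_assoc] using this

theorem R_le : E.R ≤ G := by
  rintro g ⟨a, ha⟩
  refine E.pm_mem ha ?_
  rcases z2 (S.Q a) with h | h
  swap
  · exact E.nonsingular_mem h
  rcases eq_or_ne a 0 with rfl | ha0
  · rw [E.r_zero]; exact G.one_mem
  obtain ⟨c, hc, hac⟩ := E.exists_nonsingular_partner ha0
  have hac' : S.Q (a + c) = 0 := by rw [S.Q_add, h, hc, hac, zero_add, CharTwo.add_self_eq_zero]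
  obtain ⟨e, he, hee⟩ := S.exists_Q_one (W := S.lperp [a]) (S.ni_of_lt (by
    have := S.finrank_lperp [a]; have := E.eight
    simp only [List.length_cons, List.length_nil] at *; omega))
  have hae : S.Q (a + e) = 1 := by rw [S.Q_add, h, hee, S.mem_lperp.1 he a (by simp), zero_add, add_zero]
  have := G.mul_mem (E.nonsingular_mem hae) (E.nonsingular_mem hee)
  refine E.pm_mem ?_ this
  refine ((E.r_add _ _).trans ?_).symm
  rw [add_assoc, v_add_self, add_zero]
  exact PM.refl _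

/-- The stabilizer of the group in the ambient group. -/
def M : Subgroup (GL ι F) := Subgroup.normalizer (E.R : Set (GL ι F)) ⊓ G

theorem mem_norm_of_ind {g : GL ι F} {θ : V → V} (h : Ind r g θ) (hθ : Function.Surjective θ) :
    g ∈ Subgroup.normalizer (E.R : Set (GL ι F)) := by
  rw [Subgroup.mem_normalizer_iff]
  intro x
  constructor
  · rintro ⟨a, ha⟩
    exact ⟨θ a, (ha.conj g).trans (h a)⟩
  · rintro ⟨b, hb⟩
    obtain ⟨a, rfl⟩ := hθ b
    refine ⟨a, ?_⟩
    have := (hb.trans (h a).symm).conj g⁻¹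
    simpa [mul_assoc] using this

theorem gp_mem_M {c d : V} {C D : GL ι F} (hc : S.Q c = 1) (hd : S.Q d = 1) (hC : PM C (r c))
    (hD : PM D (r d)) : gp C D ∈ E.M :=
  ⟨E.mem_norm_of_ind (E.gp_conj hc hd hC hD) (S.pair c d).surjective, E.gp_mem_G hc hd hC hD⟩

theorem R_le_M : E.R ≤ E.M := le_inf Subgroup.le_normalizer E.R_le

theorem gp_commute {c d s : V} {C D : GL ι F} (hc : S.Q c = 1) (hd : S.Q d = 1) (hC : PM C (r c))
    (hD : PM D (r d)) (hcs : S.B c s = 0) (hds : S.B d s = 0) : gp C D * r s = r s * gp C D := by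
  obtain ⟨hC2, -⟩ := E.lift_facts hc hC
  obtain ⟨hD2, -⟩ := E.lift_facts hd hD
  have h1 : ∀ {T : GL ι F} {t : V}, PM T (r t) → S.B t s = 0 → Commute (mt T) (mt (r s)) := fun {T t} hT hts => by
    have h := E.r_comm0 hts
    rcases hT with rfl | rfl
    · exact congrArg Units.val h
    · exact (Commute.neg_left (show Commute (mt (r t)) (mt (r s)) from congrArg Units.val h))
  apply Units.ext
  show mt (gp C D) * mt (r s) = mt (r s) * mt (gp C D)
  rw [mt_gp E.two hC2 hD2, pmat, smul_mul_assoc, mul_smul_comm]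
  congr 1
  exact (((Commute.one_left _).add_left (h1 hC hcs)).mul_left ((Commute.one_left _).add_left (h1 hD hds))).eq

/-- Transitivity in the stabilizer, fixing a subspace. -/
theorem move (U : Submodule (ZMod 2) V)
    (hU : 2 * (Module.finrank (ZMod 2) U + 2) < Module.finrank (ZMod 2) V) {v v' : V} (hv : v ∉ U) (hv' : v' ∉ U)
    (hQ : S.Q v = S.Q v') (hB : ∀ s ∈ U, S.B v s = S.B v' s) :
    ∃ m ∈ E.M, (∀ s ∈ U, m * r s = r s * m) ∧ PM (m * r v * m⁻¹) (r v') := by
  refine S.reach_small U hU hv hv' hQ hB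
    (fun x => ∃ m ∈ E.M, (∀ s ∈ U, m * r s = r s * m) ∧ PM (m * r v * m⁻¹) (r x)) ?_
    ⟨1, E.M.one_mem, fun _ _ => by simp, by simp [PM]⟩
  rintro c d hc hd hcU hdU x ⟨m, hm, hms, hmv⟩
  refine ⟨gp (r c) (r d) * m, E.M.mul_mem (E.gp_mem_M hc hd (PM.refl _) (PM.refl _)) hm, fun s hs => ?_, ?_⟩
  · rw [mul_assoc, hms s hs, ← mul_assoc,
      E.gp_commute hc hd (PM.refl _) (PM.refl _) (by rw [S.B_comm]; exact hcU s hs)
        (by rw [S.B_comm]; exact hdU s hs), mul_assoc]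
  · have h := ((hmv.conj (gp (r c) (r d))).trans (E.gp_conj hc hd (PM.refl _) (PM.refl _) x))
    simpa [mul_assoc] using h

theorem exists_ind {g : GL ι F} (hg : g ∈ Subgroup.normalizer (E.R : Set (GL ι F))) :
    ∃ θ : V → V, Ind r g θ := by
  have : ∀ a, ∃ b, PM (g * r a * g⁻¹) (r b) := fun a =>
    E.mem_R.1 ((Subgroup.mem_normalizer_iff.1 hg _).1 (E.r_mem_R a))
  choose θ hθ using this
  exact ⟨θ, hθ⟩

theorem ind_Q {g : GL ι F} {θ : V → V} (h : Ind r g θ) (a : V) : S.Q (θ a) = S.Q a := by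
  have e : r (θ a) * r (θ a) = g * (r a * r a) * g⁻¹ := by
    rcases (h a).symm with e | e <;> rw [e] <;> simp [mul_assoc]
  rw [E.r_sq, E.r_sq, ← sgn_mul_comm, mul_assoc, mul_inv_cancel, mul_one] at e
  exact E.sgn_inj e

theorem ind_add {g : GL ι F} {θ : V → V} (h : Ind r g θ) (a b : V) : θ (a + b) = θ a + θ b := by
  refine E.r_inj ((h (a + b)).symm.trans ((((E.r_add a b).symm).conj g).trans ?_))
  refine PM.trans ?_ (E.r_add (θ a) (θ b))
  rw [show g * (r a * r b) * g⁻¹ = (g * r a * g⁻¹) * (g * r b * g⁻¹) by group]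
  exact (h a).mul (h b)

/-- An isometry centralizing the group up to sign lies in it. -/
theorem mem_R_of_fix {g : GL ι F} (hg : Symp.IsIsometry f g) (h : Ind r g id) : g ∈ E.R := by
  choose φ hφ using fun a => pm_iff.1 (h a)
  have hadd : ∀ a b, φ (a + b) = φ a + φ b := fun a b => by
    obtain ⟨x, hx⟩ := pm_iff.1 (E.r_add a b)
    have e1 : g * (r a * r b) * g⁻¹ = sgn (φ a + φ b) * (r a * r b) := by
      rw [show g * (r a * r b) * g⁻¹ = (g * r a * g⁻¹) * (g * r b * g⁻¹) by group, hφ a, hφ b, sgn_add,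
        mul_assoc, mul_assoc, ← mul_assoc (r (id a)), ← sgn_mul_comm, mul_assoc, id, id]
    rw [hx] at e1
    have e2 : g * (sgn x * r (a + b)) * g⁻¹ = sgn x * (sgn (φ (a + b)) * r (id (a + b))) := by
      rw [← hφ, ← mul_assoc g, ← sgn_mul_comm]; group
    rw [e2, id, ← mul_assoc, ← mul_assoc, ← sgn_add, ← sgn_add] at e1
    have := E.sgn_inj (mul_right_cancel e1)
    rw [add_comm x] at this
    exact add_right_cancel this
  obtain ⟨e, he⟩ := S.repr ⊤ (AddMonoidHom.toZModLinearMap 2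
    (AddMonoidHom.mk' (fun x : (⊤ : Submodule (ZMod 2) V) => φ x) fun a b => hadd a b))
  have hcom : ∀ a, ((r e)⁻¹ * g) * r a = r a * ((r e)⁻¹ * g) := fun a => by
    have h1 : g * r a = sgn (φ a) * r a * g := mul_inv_eq_iff_eq_mul.1 (hφ a)
    have h2 : φ a = S.B e a := by rw [S.B_comm]; exact he ⟨a, trivial⟩
    rw [h2, ← E.r_conj] at h1
    rw [mul_assoc, h1]
    group
  obtain ⟨c, hc⟩ := E.abs (mt ((r e)⁻¹ * g)) fun a => congrArg Units.val (hcom a)
  have hiso : Symp.IsIsometry f ((r e)⁻¹ * g) := Symp.isometry_mul (mem_mul_iso (E.r_iso e)) hg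
  obtain ⟨v, hv⟩ : ∃ v : ι → F, v ≠ 0 := ⟨fun _ => 1, fun e => by
    obtain ⟨i⟩ := E.nonempty
    exact one_ne_zero (congrFun e i)⟩
  obtain ⟨w, hw⟩ := (E.nondeg v hv).2
  have h2 := hiso v w
  rw [show (((r e)⁻¹ * g : GL ι F) : Matrix ι ι F) = c • 1 from hc, Matrix.smul_mulVec, Matrix.smul_mulVec,
    Matrix.one_mulVec, Matrix.one_mulVec, E.bil.smul_left, E.bil.smul_right, ← mul_assoc] at h2
  have hc2 : c * c = 1 := mul_right_cancel₀ hw (h2.trans (one_mul _).symm)
  have hpm : PM ((r e)⁻¹ * g) 1 := by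
    rcases mul_self_eq_one_iff.1 hc2 with rfl | rfl
    · exact Or.inl (Units.ext (by rw [hc, one_smul]; rfl))
    · exact Or.inr (Units.ext (by rw [hc, neg_one_smul]; rfl))
  refine ⟨e, ?_⟩
  have := (PM.refl (r e)).mul hpm
  rwa [mul_inv_cancel_left, mul_one] at this

/-- An element with a large fixed space does not normalize the group. -/
theorem not_normal {γ : GL ι F} (hγ : γ ∈ G) (hne : γ ≠ 1) (W : Submodule F (ι → F))
    (hW : ∀ x ∈ W, mt γ *ᵥ x = x) (hdim : Fintype.card ι ≤ Module.finrank F W + 2) :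
    ¬ G ≤ Subgroup.normalizer (E.R : Set (GL ι F)) := by
  intro hle
  have h16 := E.sixteen
  obtain ⟨θ, hθ⟩ := E.exists_ind (hle hγ)
  have hfix : ∀ a, θ a = a ∧ γ * r a = r a * γ := fun a => by
    set T : (ι → F) ≃ₗ[F] (ι → F) :=
      LinearEquiv.ofBijective (Matrix.mulVecLin (mt (r a)))
        ⟨gl_mulVec_injective (r a), fun y => ⟨mt (r a)⁻¹ *ᵥ y, gl_mulVec_inv_mulVec (r a) y⟩⟩
    set c := γ * r a * γ⁻¹ * (r a)⁻¹ with hc
    set W' := W ⊓ W.map (T : (ι → F) →ₗ[F] (ι → F)) with hW'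
    have hfixc : ∀ x ∈ W', mt c *ᵥ x = x := by
      rintro x ⟨hx, y, hy, rfl⟩
      show mt c *ᵥ (mt (r a) *ᵥ y) = mt (r a) *ᵥ y
      have h1 : mt γ⁻¹ *ᵥ y = y := by conv_lhs => rw [← hW y hy]; rw [gl_inv_mulVec_mulVec]
      rw [← gl_mul_mulVec, hc, show γ * r a * γ⁻¹ * (r a)⁻¹ * r a = γ * (r a * γ⁻¹) by group,
        gl_mul_mulVec, gl_mul_mulVec, h1]
      exact hW _ hx
    have hW'dim : Fintype.card ι ≤ Module.finrank F W' + 4 := by
      have h1 := Submodule.finrank_sup_add_finrank_inf_eq W (W.map (T : (ι → F) →ₗ[F] (ι → F)))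
      have h2 := (W ⊔ W.map (T : (ι → F) →ₗ[F] (ι → F))).finrank_le
      rw [LinearEquiv.finrank_map_eq T W] at h1
      rw [Module.finrank_fintype_fun_eq_card] at h2
      rw [hW']
      omega
    have hmem : PM c (r (θ a + a)) :=
      (((hθ a).mul (E.r_inv a)).trans (E.r_add _ _))
    by_cases hw : θ a + a = 0
    · refine ⟨v_add_eq_zero.1 hw, ?_⟩
      rw [hw, E.r_zero] at hmem
      rcases hmem with e | e
      · rw [hc, mul_inv_eq_one, mul_inv_eq_iff_eq_mul] at e; exact e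
      · exfalso
        obtain ⟨x, hx, hx0⟩ := Submodule.exists_mem_ne_zero_of_ne_bot (p := W') fun e0 => by
          rw [e0, finrank_bot] at hW'dim; omega
        have h1 := hfixc x hx
        rw [e, mt_neg, Matrix.neg_mulVec, Units.val_one, Matrix.one_mulVec, neg_eq_iff_add_eq_zero,
          ← two_smul F x] at h1
        exact hx0 ((smul_eq_zero.1 h1).resolve_left E.two)
    · exfalso
      obtain ⟨b, hb⟩ := S.exists_B_one hw
      have hanti : c * r b = -(r b * c) := by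
        rcases hmem with e | e <;> rw [e] <;> simp [E.r_comm1 hb]
      set Tb : (ι → F) ≃ₗ[F] (ι → F) :=
        LinearEquiv.ofBijective (Matrix.mulVecLin (mt (r b)))
          ⟨gl_mulVec_injective (r b), fun y => ⟨mt (r b)⁻¹ *ᵥ y, gl_mulVec_inv_mulVec (r b) y⟩⟩
      have hdis : W' ⊓ W'.map (Tb : (ι → F) →ₗ[F] (ι → F)) = ⊥ := by
        refine (Submodule.eq_bot_iff _).2 ?_
        rintro x ⟨hx, y, hy, rfl⟩
        have h1 : mt c *ᵥ (mt (r b) *ᵥ y) = mt (r b) *ᵥ y := hfixc _ hx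
        rw [← gl_mul_mulVec, hanti, mt_neg, Matrix.neg_mulVec, gl_mul_mulVec, hfixc y hy,
          neg_eq_iff_add_eq_zero, ← two_smul F] at h1
        exact (smul_eq_zero.1 h1).resolve_left E.two
      have h1 := Submodule.finrank_sup_add_finrank_inf_eq W' (W'.map (Tb : (ι → F) →ₗ[F] (ι → F)))
      have h2 := (W' ⊔ W'.map (Tb : (ι → F) →ₗ[F] (ι → F))).finrank_le
      rw [hdis, finrank_bot, LinearEquiv.finrank_map_eq Tb W'] at h1
      rw [Module.finrank_fintype_fun_eq_card] at h2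
      omega
  obtain ⟨c, hc⟩ := E.abs (mt γ) fun a => congrArg Units.val (hfix a).2
  obtain ⟨x, hx, hx0⟩ := Submodule.exists_mem_ne_zero_of_ne_bot (p := W) fun e0 => by
    rw [e0, finrank_bot] at hdim; omega
  have h1 := hW x hx
  rw [hc, Matrix.smul_mulVec, Matrix.one_mulVec] at h1
  have : c = 1 := by
    obtain ⟨i, hi⟩ := Function.ne_iff.1 hx0
    have h2 := congrFun h1 i
    rw [Pi.smul_apply, smul_eq_mul] at h2
    exact mul_eq_right₀ hi |>.1 h2
  exact hne (Units.ext (by rw [hc, this, one_smul]; rfl))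

end Ext

end CfsgLib.ExtraTypeMax
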