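import Cfsg.Agent.Lib.ExtraTypeMax.Block
import Cfsg.Agent.Lib.ExtraTypeMax.OddPart

/-!
An overgroup containing an element that centralizes a singular vector and lies outside the normalizer
contains the split products of two transvections for that vector.
-/

set_option autoImplicit false
set_option linter.unusedSectionVars false

namespace CfsgLib.ExtraTypeMax

open Matrix CfsgLib.GeomClasses

variable {ι : Type} [Fintype ι] [DecidableEq ι] {F : Type*} [Field F]
  {V : Type*} [AddCommGroup V] [Module (ZMod 2) V]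

/-- The part of the overgroup trivial on the second eigenspace. -/
def kpart (X : Subgroup (GL ι F)) (A : GL ι F) : Subgroup (GL ι F) where
  carrier := {g | g ∈ X ∧ g * A = A * g ∧ mt g * pr (-A) = pr (-A)}
  mul_mem' := fun {g h} ⟨g1, g2, g3⟩ ⟨h1, h2, h3⟩ => ⟨X.mul_mem g1 h1,
    ((show Commute g A from g2).mul_left h2).eq, by rw [Units.val_mul, mul_assoc, h3, g3]⟩
  one_mem' := ⟨X.one_mem, by simp, by simp⟩
  inv_mem' := fun {g} ⟨g1, g2, g3⟩ => ⟨X.inv_mem g1, ((show Commute g A from g2).inv_left).eq, by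
    nth_rw 1 [← g3]
    rw [← mul_assoc, ← Units.val_mul, inv_mul_cancel, Units.val_one, one_mul]⟩

theorem mem_kpart {X : Subgroup (GL ι F)} {A g : GL ι F} :
    g ∈ kpart X A ↔ g ∈ X ∧ g * A = A * g ∧ mt g * pr (-A) = pr (-A) := Iff.rfl

/-- The split gate of one singular vector. -/
def GateOne (S : QS V) (r : V → GL ι F) (X : Subgroup (GL ι F)) (a : V) : Prop :=
  ∀ A, PM A (r a) → ∀ c d, S.Q c = 1 → S.Q d = 1 → S.B a c = 0 → S.B a d = 0 →
    ∀ C D, PM C (r c) → PM D (r d) → InX X (mt (gp C D) * pr A + pr (-A))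

namespace Ext

variable [FiniteDimensional (ZMod 2) V] {S : QS V} {f : (ι → F) → (ι → F) → F} {r : V → GL ι F}
  {G : Subgroup (GL ι F)} (E : Ext S f r G) {a b : V} {A : GL ι F} (H : Blk S r a b A)
  {X : Subgroup (GL ι F)} (hMX : E.M ≤ X) (hXG : X ≤ G)
include E H hMX hXG

theorem gp_comm_A {c d : wsub S a b} {C D : GL ι F} (hc : S.Q (c : V) = 1) (hd : S.Q (d : V) = 1)
    (hC : PM C (r (c : V))) (hD : PM D (r (d : V))) : gp C D * A = A * gp C D := by
  have h := E.gp_commute hc hd hC hD (s := a) (by rw [S.B_comm]; exact (E.w_perp H c).1)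
    (by rw [S.B_comm]; exact (E.w_perp H d).1)
  rcases H.lift with e | e <;> rw [e] <;> simp [h]

theorem conjP {g h h' : GL ι F} (hg : g * A = A * g) (e : mt h * pr A = mt h' * pr A) :
    mt (g * h * g⁻¹) * pr A = mt (g * h' * g⁻¹) * pr A := by
  have hg' : mt g⁻¹ * pr A = pr A * mt g⁻¹ := E.commute_pr H ((Commute.inv_left (show Commute g A from hg)).eq)
  simp only [Units.val_mul, mul_assoc, hg']
  rw [← mul_assoc (mt h), e, mul_assoc]

theorem neg_A_kpart : (-A) ∈ kpart X A := by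
  refine ⟨hMX (E.R_le_M ⟨a, (PM.neg_self A).trans H.lift⟩), by simp, ?_⟩
  exact E.A_mul_pr H.neg

theorem pi_mem (c : wsub S a b) (x : ZMod 2) :
    ∃ g ∈ kpart X A, mt g * pr A = mt (sgn x * r (c : V)) * pr A := by
  have hsign : ∀ {m : GL ι F}, (∃ g ∈ kpart X A, mt g * pr A = mt m * pr A) →
      ∃ g ∈ kpart X A, mt g * pr A = mt (sgn x * m) * pr A := by
    rintro m ⟨g, hg, e⟩
    rcases z2 x with rfl | rfl
    · exact ⟨g, hg, by simpa using e⟩
    · refine ⟨-A * g, (kpart X A).mul_mem (E.neg_A_kpart H hMX hXG) hg, ?_⟩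
      have hgA : mt g * pr A = pr A * mt g := E.commute_pr H hg.2.1
      rw [Units.val_mul, mul_assoc, hgA, ← mul_assoc, mt_neg, neg_mul, E.A_mul_pr H, neg_mul, ← hgA, e]
      simp
  refine hsign ?_
  have hns : ∀ c : wsub S a b, S.Q (c : V) = 1 → ∃ g ∈ kpart X A, mt g * pr A = mt (r (c : V)) * pr A := by
    intro c hc
    set C := r (c : V)
    set D := C * A with hD
    have hCA : C * A = A * C := E.w_commute H c
    have hac : S.B a (c : V) = 0 := (E.w_perp H c).1
    have hD' : PM D (r ((c : V) + a)) := ((PM.refl C).mul H.lift).trans (E.r_add _ _)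
    have hQd : S.Q ((c : V) + a) = 1 := by
      rw [S.Q_add, hc, H.singular, S.B_comm, hac, add_zero, add_zero]
    obtain ⟨hC2, -⟩ := E.lift_facts hc (PM.refl C)
    obtain ⟨hD2, -⟩ := E.lift_facts hQd hD'
    have e2 : mt C * mt C = -1 := congrArg Units.val hC2
    have hm : mt (gp C D) = (2 : F)⁻¹ • ((1 + mt C) * (1 + mt C * mt A)) := by
      rw [mt_gp E.two hC2 hD2, pmat, hD, Units.val_mul]
    have hP : mt (gp C D) * pr A = mt C * pr A := by
      rw [hm, smul_mul_assoc, mul_assoc, add_mul 1 (mt C * mt A), one_mul, mul_assoc (mt C), E.A_mul_pr H]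
      rw [add_mul 1 (mt C), one_mul, mul_add (mt C), ← mul_assoc, e2, neg_one_mul,
        show pr A + mt C * pr A + (mt C * pr A + -pr A) = (2 : F) • (mt C * pr A) by rw [two_smul]; abel,
        smul_smul, inv_mul_cancel₀ E.two, one_smul]
    have hQ : mt (gp C D) * pr (-A) = pr (-A) := by
      have hAn : mt A * pr (-A) = -pr (-A) := by
        have := E.A_mul_pr H.neg
        rw [mt_neg, neg_mul] at this
        exact neg_eq_iff_eq_neg.1 this
      rw [hm, smul_mul_assoc, mul_assoc, add_mul 1 (mt C * mt A), one_mul, mul_assoc (mt C), hAn, mul_neg]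
      rw [add_mul 1 (mt C), one_mul, mul_add (mt C), mul_neg, ← mul_assoc, e2, neg_one_mul, neg_neg,
        show pr (-A) + -(mt C * pr (-A)) + (mt C * pr (-A) + pr (-A)) = (2 : F) • pr (-A) by rw [two_smul]; abel,
        smul_smul, inv_mul_cancel₀ E.two, one_smul]
    refine ⟨gp C D, ⟨hMX (E.gp_mem_M hc hQd (PM.refl C) hD'), ?_, hQ⟩, hP⟩
    have h := E.gp_commute hc hQd (PM.refl C) hD' (s := a) (by rw [S.B_comm]; exact hac)
      (by rw [map_add, LinearMap.add_apply, S.B_comm, hac, S.B_self, add_zero])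
    rcases H.lift with e | e <;> rw [e] <;> simp [h]
  rcases z2 (S.Q (c : V)) with h0 | h1
  swap
  · exact hns c h1
  obtain ⟨e, he, hQe⟩ := (E.SW H).exists_Q_one (W := (E.SW H).lperp [c]) ((E.SW H).ni_of_lt (by
    have := (E.SW H).finrank_lperp [c]; have := E.six_le H
    simp only [List.length_cons, List.length_nil] at *; omega))
  have hce : S.B (c : V) e = 0 := (E.SW H).mem_lperp.1 he c (by simp)
  rw [QS.restrict_Q] at hQe
  obtain ⟨g1, hg1, e1⟩ := hns (c + e) (by rw [Submodule.coe_add, S.Q_add, h0, hQe, hce, zero_add, add_zero])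
  obtain ⟨g2, hg2, e2⟩ := hns e hQe
  obtain ⟨t, ht⟩ := pm_iff.1 (E.r_add ((c + e : wsub S a b) : V) e)
  have hce' : ((c + e : wsub S a b) : V) + e = c := by
    rw [Submodule.coe_add, add_assoc, v_add_self, add_zero]
  rw [hce'] at ht
  have e12 : mt (g1 * g2) * pr A = mt (sgn t * r (c : V)) * pr A := by
    rw [← ht, Units.val_mul, mul_assoc, e2, E.w_pr H e, ← mul_assoc, e1, mul_assoc, ← E.w_pr H e, ← mul_assoc,
      Units.val_mul]
  rcases z2 t with rfl | rfl
  · exact ⟨_, (kpart X A).mul_mem hg1 hg2, by simpa using e12⟩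
  · refine ⟨-A * (g1 * g2), (kpart X A).mul_mem (E.neg_A_kpart H hMX hXG) ((kpart X A).mul_mem hg1 hg2), ?_⟩
    have hgA : mt (g1 * g2) * pr A = pr A * mt (g1 * g2) := E.commute_pr H ((kpart X A).mul_mem hg1 hg2).2.1
    rw [Units.val_mul (-A), mul_assoc, hgA, ← mul_assoc, mt_neg, neg_mul, E.A_mul_pr H, neg_mul, ← hgA, e12]
    simp

/-- The lifts of the residual group inside the part. -/
def rpart : Subgroup (GL ι F) where
  carrier := {g | g ∈ kpart X A ∧ ∃ (c : wsub S a b) (x : ZMod 2), mt g * pr A = mt (sgn x * r (c : V)) * pr A}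
  mul_mem' := fun {g h} ⟨hg, c, x, eg⟩ ⟨hh, d, y, eh⟩ => by
    refine ⟨(kpart X A).mul_mem hg hh, c + d, ?_⟩
    obtain ⟨t, ht⟩ := pm_iff.1 (E.r_add (c : V) d)
    refine ⟨x + y + t, ?_⟩
    rw [Units.val_mul, mul_assoc, eh, E.commute_pr H (E.sgn_w_commute H y d), ← mul_assoc, eg, mul_assoc,
      ← E.commute_pr H (E.sgn_w_commute H y d), ← mul_assoc, ← Units.val_mul, Submodule.coe_add, sgn_add, sgn_add,
      mul_assoc (sgn x * sgn y) (sgn t), ← ht]
    congr 2
    rw [mul_assoc (sgn x), ← mul_assoc (r (c : V)), ← sgn_mul_comm, mul_assoc, mul_assoc]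
  one_mem' := ⟨(kpart X A).one_mem, 0, 0, by simp [E.r_zero]⟩
  inv_mem' := fun {g} ⟨hg, c, x, eg⟩ => by
    obtain ⟨t, ht⟩ := pm_iff.1 ((((PM.refl (sgn x)).mul (PM.refl (r (c : V)))).inv).trans
      (show PM (sgn x * r (c : V))⁻¹ (r (c : V)) from
        ((pm_iff.2 ⟨x, rfl⟩ : PM (sgn x * r (c : V)) (r (c : V))).inv).trans (E.r_inv _)))
    refine ⟨(kpart X A).inv_mem hg, c, t, ?_⟩
    rw [← ht]
    have hu : mt (sgn x * r (c : V))⁻¹ * pr A = pr A * mt (sgn x * r (c : V))⁻¹ :=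
      E.commute_pr H ((show Commute _ A from E.sgn_w_commute H x c).inv_left).eq
    calc mt g⁻¹ * pr A = mt g⁻¹ * (mt (sgn x * r (c : V)) * pr A) * mt (sgn x * r (c : V))⁻¹ := by
          rw [mul_assoc, mul_assoc, ← hu, ← mul_assoc (mt (sgn x * r (c : V))), ← Units.val_mul, mul_inv_cancel,
            Units.val_one, one_mul]
      _ = _ := by
          rw [← eg, ← mul_assoc, ← Units.val_mul, inv_mul_cancel, Units.val_one, one_mul, hu]

theorem norma_of_conj {g : GL ι F} (hg : g * A = A * g)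
    (h : ∀ k ∈ E.rpart H (X := X), g * k * g⁻¹ ∈ E.rpart H (X := X)) : NormA S r a b A g := by
  intro c
  obtain ⟨k, hk, e⟩ := E.pi_mem H hMX hXG c 0
  obtain ⟨-, d, x, hd⟩ := h k ⟨hk, c, 0, e⟩
  rw [sgn_zero, one_mul] at e
  exact ⟨d, x, (E.conjP H hMX hXG hg e).symm.trans hd⟩

/-- The normalizer of the residual group in the part is larger than it. -/
def Big : Prop := ∃ k ∈ kpart X A, NormA S r a b A k ∧ k ∉ E.rpart H (X := X)

variable [Fintype F]

theorem kpart_le (h : ¬ E.Big H (X := X)) : kpart X A ≤ E.rpart H (X := X) := by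
  classical
  by_contra hne
  set P0 := E.rpart H (X := X) with hP0
  set z : GL ι F := -A with hz
  have hz2 : z * z = 1 := by rw [hz, neg_mul_neg, E.A_sq H]
  have hz1 : z ≠ 1 := fun e => E.A_ne_neg_one H (by rw [← neg_neg A, ← hz, e])
  have hzP : z ∈ P0 := ⟨E.neg_A_kpart H hMX hXG, 0, 1, by
    rw [hz, mt_neg, neg_mul, E.A_mul_pr H, ZeroMemClass.coe_zero, E.r_zero]; simp⟩
  have hext : ∀ {g g' : GL ι F}, g ∈ kpart X A → g' ∈ kpart X A → mt g * pr A = mt g' * pr A → g = g' :=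
    fun hg hg' e => Units.ext (E.ext_pr H e (hg.2.2.trans hg'.2.2.symm))
  have hsgnP : ∀ g ∈ kpart X A, ∀ x, mt g * pr A = mt (sgn x : GL ι F) * pr A → g = 1 ∨ g = z := by
    intro g hg x e
    rcases z2 x with rfl | rfl
    · exact Or.inl (hext hg (kpart X A).one_mem (by simpa using e))
    · refine Or.inr (hext hg (E.neg_A_kpart H hMX hXG) ?_)
      rw [e, hz, mt_neg, neg_mul, E.A_mul_pr H]; simp
  have hP2 : IsPGroup 2 P0 := by
    intro g
    refine ⟨2, Subtype.ext ?_⟩
    obtain ⟨hgK, c, x, e⟩ := g.2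
    rw [Subgroup.coe_pow, Subgroup.coe_one]
    have hgA := E.commute_pr H hgK.2.1
    have e2 : mt ((g : GL ι F) * (g : GL ι F)) * pr A = mt (sgn (S.Q (c : V)) : GL ι F) * pr A := by
      rw [Units.val_mul, mul_assoc, e, E.commute_pr H (E.sgn_w_commute H x c), ← mul_assoc, e, mul_assoc,
        ← E.commute_pr H (E.sgn_w_commute H x c), ← mul_assoc, ← Units.val_mul, mul_assoc (sgn x),
        ← mul_assoc (r (c : V)), ← sgn_mul_comm, mul_assoc, E.r_sq, ← mul_assoc, sgn_sq, one_mul]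
    rw [show (2 : ℕ) ^ 2 = 2 * 2 from rfl, pow_mul, pow_two, pow_two]
    rcases hsgnP _ ((kpart X A).mul_mem hgK hgK) _ e2 with h1 | h1 <;> rw [h1]
    · simp
    · exact hz2
  have hab : ∀ g ∈ P0, ∀ g' ∈ P0, g * g' * g⁻¹ * g'⁻¹ = 1 ∨ g * g' * g⁻¹ * g'⁻¹ = z := by
    rintro g ⟨hgK, c, x, eg⟩ g' ⟨hgK', d, y, eg'⟩
    have hmul : mt (g * g') * pr A = mt (sgn x * r (c : V) * (sgn y * r (d : V))) * pr A := by
      rw [Units.val_mul, mul_assoc, eg', E.commute_pr H (E.sgn_w_commute H y d), ← mul_assoc, eg, mul_assoc,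
        ← E.commute_pr H (E.sgn_w_commute H y d), ← mul_assoc, ← Units.val_mul]
    have hmul' : mt (g' * g) * pr A = mt (sgn y * r (d : V) * (sgn x * r (c : V))) * pr A := by
      rw [Units.val_mul, mul_assoc, eg, E.commute_pr H (E.sgn_w_commute H x c), ← mul_assoc, eg', mul_assoc,
        ← E.commute_pr H (E.sgn_w_commute H x c), ← mul_assoc, ← Units.val_mul]
    have e : mt (g * g') * pr A = mt (sgn (S.B (c : V) d) : GL ι F) * (mt (g' * g) * pr A) := by
      rw [hmul, hmul', ← mul_assoc (mt (sgn (S.B (c : V) d) : GL ι F)), ← Units.val_mul]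
      congr 2
      have sw : ∀ (x y : ZMod 2) (u v : GL ι F), sgn x * u * (sgn y * v) = sgn x * sgn y * (u * v) := fun x y u v => by
        rw [mul_assoc, ← mul_assoc u, ← sgn_mul_comm, mul_assoc, mul_assoc]
      rw [sw, sw, E.r_comm (c : V) d, ← mul_assoc, ← mul_assoc (sgn (S.B (c : V) d) : GL ι F) (sgn y * sgn x),
        sgn_mul_comm y (sgn x), ← sgn_mul_comm (S.B (c : V) d) (sgn x * sgn y)]
    rcases z2 (S.B (c : V) d) with k | k <;> rw [k] at e
    · left
      rw [mul_inv_eq_one, mul_inv_eq_iff_eq_mul]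
      exact hext ((kpart X A).mul_mem hgK hgK') ((kpart X A).mul_mem hgK' hgK) (by simpa using e)
    · right
      have : g * g' = z * (g' * g) := by
        refine hext ((kpart X A).mul_mem hgK hgK') ((kpart X A).mul_mem (E.neg_A_kpart H hMX hXG)
          ((kpart X A).mul_mem hgK' hgK)) ?_
        rw [e, Units.val_mul z, mul_assoc, E.commute_pr H ((kpart X A).mul_mem hgK' hgK).2.1, ← mul_assoc,
          ← mul_assoc, hz, mt_neg, neg_mul, E.A_mul_pr H]
        simp
      rw [this]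
      group
  have hsn : ∀ k ∈ kpart X A, (∀ g ∈ P0, k * g * k⁻¹ ∈ P0) → k ∈ P0 := fun k hk hk' => by
    by_contra hkP
    exact h ⟨k, hk, E.norma_of_conj H hMX hXG hk.2.1 hk', hkP⟩
  obtain ⟨l, Es, hl, hEK, ⟨e0, he0, he01⟩, hexp, hEmul, hinv⟩ :=
    odd_invariant (kpart X A) P0 z (fun g hg => hg.1) hzP hz2 hz1
      (fun g hg => by rw [hz, mul_neg, neg_mul, hg.2.1]) hP2 hab hsn hne
  have hinv' : ∀ γ, γ ∈ X → γ * A = A * γ → NormA S r a b A γ → ∀ e ∈ Es, γ * e * γ⁻¹ ∈ Es := by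
    intro γ hγX hγA hγn
    have hγQ : mt γ * pr (-A) = pr (-A) * mt γ := E.commute_pr H.neg (by rw [mul_neg, neg_mul, hγA])
    have hK : ∀ k ∈ kpart X A, γ * k * γ⁻¹ ∈ kpart X A := fun k hk => by
      refine ⟨X.mul_mem (X.mul_mem hγX hk.1) (X.inv_mem hγX),
        (((show Commute γ A from hγA).mul_left hk.2.1).mul_left (show Commute γ A from hγA).inv_left).eq, ?_⟩
      have hγQ' : mt γ⁻¹ * pr (-A) = pr (-A) * mt γ⁻¹ :=
        E.commute_pr H.neg ((show Commute γ (-A) by show γ * -A = -A * γ; rw [mul_neg, neg_mul, hγA]).inv_left).eq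
      rw [Units.val_mul, Units.val_mul, mul_assoc, hγQ', ← mul_assoc, mul_assoc (mt γ), hk.2.2, hγQ, mul_assoc,
        ← Units.val_mul, mul_inv_cancel, Units.val_one, mul_one]
    refine hinv γ (by rw [hz, mul_neg, neg_mul, hγA]) hK ?_
    rintro g ⟨hg, c, x, eg⟩
    obtain ⟨d, y, hd⟩ := hγn c
    refine ⟨hK g hg, d, x + y, ?_⟩
    rw [E.conjP H hMX hXG hγA eg, show γ * (sgn x * r (c : V)) * γ⁻¹ = (γ * sgn x) * (r (c : V) * γ⁻¹) by group,
      ← sgn_mul_comm, mul_assoc, ← mul_assoc γ, Units.val_mul, mul_assoc, hd, sgn_add, mul_assoc (sgn x : GL ι F),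
      ← mul_assoc, ← Units.val_mul]
  -- the action of the residual group
  have hwR : ∀ c : wsub S a b, r (c : V) ∈ X := fun c => hMX (E.R_le_M (E.r_mem_R _))
  have hwN : ∀ c : wsub S a b, NormA S r a b A (r (c : V)) := fun c d =>
    ⟨d, S.B (c : V) d, by rw [E.r_conj]⟩
  have hsqc : ∀ (c : wsub S a b) (e : GL ι F),
      r (c : V) * (r (c : V) * e * (r (c : V))⁻¹) * (r (c : V))⁻¹ = e := fun c e => by
    have h1 : r (c : V) * r (c : V) * e = e * (r (c : V) * r (c : V)) := by rw [E.r_sq, sgn_mul_comm]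
    calc r (c : V) * (r (c : V) * e * (r (c : V))⁻¹) * (r (c : V))⁻¹
        = (r (c : V) * r (c : V) * e) * (r (c : V) * r (c : V))⁻¹ := by group
      _ = _ := by rw [h1, mul_inv_cancel_right]
  have hpow : ∀ e ∈ Es, ∀ n : ℕ, e ^ (n + 1) ∈ Es := fun e he n => by
    induction n with
    | zero => simpa using he
    | succ n ih => rw [pow_succ]; exact (hEmul _ ih e he).1
  have hEinv : ∀ e ∈ Es, e⁻¹ ∈ Es := fun e he => by
    obtain ⟨j, hj⟩ := hl
    rcases Nat.eq_zero_or_pos j with rfl | hjp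
    · have := hexp e he
      rw [hj, mul_zero, zero_add, pow_one] at this
      rwa [this, inv_one, ← this]
    · have h1 : e⁻¹ = e ^ (2 * j - 1 + 1) := inv_eq_of_mul_eq_one_right (by
        rw [← pow_succ', show 2 * j - 1 + 1 + 1 = l by omega, hexp e he])
      rw [h1]; exact hpow e he _
  have hodd1 : ∀ e ∈ Es, e * e = 1 → e = 1 := fun e he h2 => by
    obtain ⟨j, hj⟩ := hl
    have := hexp e he
    rwa [hj, pow_succ, pow_mul, pow_two, h2, one_pow, one_mul] at this
  have hsign : ∀ (x : ZMod 2) (g u : GL ι F), (sgn x * g) * u * (sgn x * g)⁻¹ = g * u * g⁻¹ := fun x g u => by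
    calc (sgn x * g) * u * (sgn x * g)⁻¹ = sgn x * (g * u * g⁻¹) * (sgn x)⁻¹ := by group
      _ = _ := by rw [sgn_mul_comm, mul_inv_cancel_right]
  obtain ⟨e, he, he1, heig⟩ : ∃ e ∈ Es, e ≠ 1 ∧ ∀ c : wsub S a b,
      r (c : V) * e * (r (c : V))⁻¹ = e ∨ r (c : V) * e * (r (c : V))⁻¹ = e⁻¹ := by
    have : Finite (wsub S a b) := Module.finite_of_finite (ZMod 2)
    have := Fintype.ofFinite (wsub S a b)
    suffices Hs : ∀ s : Finset (wsub S a b), ∃ e ∈ Es, e ≠ 1 ∧ ∀ c ∈ s,
        r (c : V) * e * (r (c : V))⁻¹ = e ∨ r (c : V) * e * (r (c : V))⁻¹ = e⁻¹ by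
      obtain ⟨e, he, he1, hs⟩ := Hs Finset.univ
      exact ⟨e, he, he1, fun c => hs c (Finset.mem_univ c)⟩
    intro s
    induction s using Finset.induction_on with
    | empty => exact ⟨e0, he0, he01, by simp⟩
    | insert c s hcs ih =>
      obtain ⟨e, he, he1, hs⟩ := ih
      set e' := r (c : V) * e * (r (c : V))⁻¹ with he'
      have he'm : e' ∈ Es := hinv' _ (hwR c) (E.w_commute H c) (hwN c) e he
      by_cases hprod : e * e' = 1
      · refine ⟨e, he, he1, fun d hd => ?_⟩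
        rcases Finset.mem_insert.1 hd with rfl | hd
        · exact Or.inr (eq_inv_of_mul_eq_one_right hprod)
        · exact hs d hd
      · have hcomm := (hEmul e he e' he'm).2
        refine ⟨e * e', (hEmul e he e' he'm).1, hprod, fun d hd => ?_⟩
        rcases Finset.mem_insert.1 hd with rfl | hd
        · left
          rw [show r (d : V) * (e * e') * (r (d : V))⁻¹ =
            r (d : V) * e * (r (d : V))⁻¹ * (r (d : V) * e' * (r (d : V))⁻¹) by group, ← he', he', hsqc, ← he', hcomm]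
        · have hd2 : r (d : V) * e' * (r (d : V))⁻¹ =
              r (c : V) * (r (d : V) * e * (r (d : V))⁻¹) * (r (c : V))⁻¹ := by
            rw [he', show r (d : V) * (r (c : V) * e * (r (c : V))⁻¹) * (r (d : V))⁻¹ =
              (r (d : V) * r (c : V)) * e * (r (d : V) * r (c : V))⁻¹ by group, E.r_comm (d : V) (c : V), hsign]
            group
          rw [show r (d : V) * (e * e') * (r (d : V))⁻¹ =
            r (d : V) * e * (r (d : V))⁻¹ * (r (d : V) * e' * (r (d : V))⁻¹) by group, hd2]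
          rcases hs d hd with k | k <;> rw [k]
          · exact Or.inl rfl
          · right
            rw [hcomm, _root_.mul_inv_rev, he']
            group
  -- the character of the eigenelement
  have hne' : e ≠ e⁻¹ := fun k => he1 (hodd1 e he (mul_eq_one_iff_eq_inv.2 k))
  let φ : wsub S a b → ZMod 2 := fun c => if r (c : V) * e * (r (c : V))⁻¹ = e then 0 else 1
  have hφ0 : ∀ c : wsub S a b, φ c = 0 → r (c : V) * e * (r (c : V))⁻¹ = e := fun c k => by
    by_contra hc; simp [φ, hc] at k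
  have hφ1 : ∀ c : wsub S a b, φ c = 1 → r (c : V) * e * (r (c : V))⁻¹ = e⁻¹ := fun c k => by
    rcases heig c with h' | h'
    · simp [φ, h'] at k
    · exact h'
  have hφadd : ∀ c d, φ (c + d) = φ c + φ d := fun c d => by
    obtain ⟨t, ht⟩ := pm_iff.1 (E.r_add (c : V) d).symm
    have k : r ((c + d : wsub S a b) : V) * e * (r ((c + d : wsub S a b) : V))⁻¹ =
        r (c : V) * (r (d : V) * e * (r (d : V))⁻¹) * (r (c : V))⁻¹ := by
      rw [Submodule.coe_add, ht, hsign]
      group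
    have kinv : ∀ u : GL ι F, r (c : V) * u⁻¹ * (r (c : V))⁻¹ = (r (c : V) * u * (r (c : V))⁻¹)⁻¹ := fun u => by
      group
    rcases z2 (φ c) with kc | kc <;> rcases z2 (φ d) with kd | kd <;> rw [kc, kd] <;>
      first
      | (rw [hφ0 d kd, hφ0 c kc] at k)
      | (rw [hφ1 d kd, kinv, hφ0 c kc] at k)
      | (rw [hφ0 d kd, hφ1 c kc] at k)
      | (rw [hφ1 d kd, kinv, hφ1 c kc, inv_inv] at k)
    all_goals first
      | exact if_pos k
      | exact (if_neg fun k' => hne' (k'.symm.trans k)).trans (by decide)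
  obtain ⟨c0, hc0⟩ := (E.SW H).repr ⊤ (AddMonoidHom.toZModLinearMap 2
    (AddMonoidHom.mk' (fun x : (⊤ : Submodule (ZMod 2) (wsub S a b)) => φ x) fun c d => hφadd c d))
  have hB : ∀ c : wsub S a b, φ c = S.B (c : V) c0 := fun c => hc0 ⟨c, trivial⟩
  have hfix : ∀ c : wsub S a b, S.B (c : V) c0 = 0 → mt (r (c : V)) * mt e = mt e * mt (r (c : V)) := fun c k =>
    congrArg Units.val (mul_inv_eq_iff_eq_mul.1 (hφ0 c (by rw [hB, k])))
  have hscalar : ∀ e' ∈ Es, ∀ α : F, mt e' * pr A = α • pr A → e' = 1 := by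
    intro e' he' α hα
    obtain ⟨x, hx⟩ := E.eq_sgn_of_scalar H (E.gIso _ (hXG (hEK he').1)) hα
    rcases hsgnP e' (hEK he') x hx with h1 | h1
    · exact h1
    · exact absurd (hodd1 e' he' (by rw [h1]; exact hz2)) (fun k => hz1 (h1 ▸ k))
  have heA : e * A = A * e := (hEK he).2.1
  by_cases hc00 : c0 = 0
  · obtain ⟨α, hα⟩ := E.sc_pr H (congrArg Units.val heA) fun c => by
      rw [hfix c (by rw [hc00]; simp)]
    exact he1 (hscalar e he α hα)
  obtain ⟨d0, hd0⟩ := (E.SW H).exists_B_one hc00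
  rw [QS.restrict_B] at hd0
  set D := r (d0 : V) with hD
  set C0 := r (c0 : V) with hC0
  obtain ⟨s, hs⟩ : ∃ s, D * D = sgn s := ⟨_, E.r_sq _⟩
  have hDA : D * A = A * D := E.w_commute H d0
  -- the symmetric and the skew parts
  have hcomm_all : ∀ m : Matrix ι ι F, m * mt A = mt A * m →
      (∀ c : wsub S a b, S.B (c : V) c0 = 0 → mt (r (c : V)) * m = m * mt (r (c : V))) →
      mt D * m = m * mt D → ∃ α : F, m * pr A = α • pr A := fun m hmA hm hmD => by
    refine E.sc_pr H hmA fun c => ?_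
    obtain ⟨c', hc', hcc⟩ : ∃ c' : wsub S a b, S.B (c' : V) c0 = 0 ∧ (c = c' ∨ c = c' + d0) := by
      rcases z2 (S.B (c : V) c0) with k | k
      · exact ⟨c, k, Or.inl rfl⟩
      · refine ⟨c + d0, ?_, Or.inr (by rw [add_assoc, v_add_self, add_zero])⟩
        rw [Submodule.coe_add, map_add, LinearMap.add_apply, k, S.B_comm, hd0, CharTwo.add_self_eq_zero]
    rcases hcc with rfl | rfl
    · rw [hm c hc']
    · obtain ⟨t, ht⟩ := pm_iff.1 (E.r_add (c' : V) d0).symm
      rw [Submodule.coe_add, ht, Units.val_mul, Units.val_mul]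
      have hsm : m * mt (sgn t : GL ι F) = mt (sgn t : GL ι F) * m := by rcases z2 t with rfl | rfl <;> simp
      rw [← mul_assoc m, hsm, mul_assoc _ m, ← mul_assoc m, ← hm c' hc', mul_assoc _ m, ← hmD]
      simp only [mul_assoc, hD]
  set U := mt D * mt e * mt D⁻¹ with hU
  have hUA : U * mt A = mt A * U := by
    have h1 : (D * e * D⁻¹) * A = A * (D * e * D⁻¹) :=
      (((show Commute D A from hDA).mul_left heA).mul_left (show Commute D A from hDA).inv_left).eq
    simpa only [Units.val_mul] using congrArg Units.val h1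
  have hUc : ∀ c : wsub S a b, S.B (c : V) c0 = 0 → mt (r (c : V)) * U = U * mt (r (c : V)) := fun c k => by
    have h1 : r (c : V) * (D * e * D⁻¹) * (r (c : V))⁻¹ = D * e * D⁻¹ := by
      have h2 := hφ0 c (by rw [hB, k])
      calc r (c : V) * (D * e * D⁻¹) * (r (c : V))⁻¹
          = (r (c : V) * D) * e * (r (c : V) * D)⁻¹ := by group
        _ = (D * r (c : V)) * e * (D * r (c : V))⁻¹ := by rw [hD, E.r_comm (c : V) d0, hsign]
        _ = D * (r (c : V) * e * (r (c : V))⁻¹) * D⁻¹ := by group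
        _ = _ := by rw [h2]
    simpa only [Units.val_mul] using congrArg Units.val (mul_inv_eq_iff_eq_mul.1 h1)
  have hDU : mt D * U = mt e * mt D := by
    have h1 : D * (D * e * D⁻¹) = e * D := by
      rw [← mul_assoc, ← mul_assoc, hs, sgn_mul_comm, mul_assoc e, ← hs, mul_assoc, mul_inv_cancel, mul_one]
    simpa only [Units.val_mul] using congrArg Units.val h1
  have hUD : U * mt D = mt D * mt e := by
    rw [hU, mul_assoc _ (mt D⁻¹), ← Units.val_mul D⁻¹ D, inv_mul_cancel, Units.val_one, mul_one]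
  obtain ⟨α, hα⟩ := hcomm_all (mt e + U) (by rw [add_mul, mul_add, hUA, ← Units.val_mul, heA, Units.val_mul])
    (fun c k => by rw [mul_add, add_mul, hfix c k, hUc c k]) (by rw [mul_add, add_mul, hDU, hUD, add_comm])
  have hC0D : mt C0 * mt D = -(mt D * mt C0) := congrArg Units.val (E.r_comm1 hd0)
  obtain ⟨β, hβ⟩ := hcomm_all ((mt e - U) * mt C0)
    (by
      have : mt C0 * mt A = mt A * mt C0 := congrArg Units.val (E.w_commute H c0)
      rw [mul_assoc, this, ← mul_assoc, sub_mul (mt e), hUA, ← Units.val_mul e A, heA, Units.val_mul, ← mul_sub,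
        mul_assoc])
    (fun c k => by
      have h1 : mt (r (c : V)) * mt C0 = mt C0 * mt (r (c : V)) := congrArg Units.val (E.r_comm0 k)
      rw [← mul_assoc, mul_sub, hfix c k, hUc c k, ← sub_mul, mul_assoc, h1, ← mul_assoc])
    (by
      rw [← mul_assoc, mul_sub, hDU, ← hUD, ← sub_mul, mul_assoc _ _ (mt C0), show mt D * mt C0 = -(mt C0 * mt D) by
        rw [hC0D, neg_neg], mul_neg, ← mul_assoc, ← neg_mul, ← neg_mul, neg_sub])
  obtain ⟨α', β', hαβ⟩ : ∃ α' β' : F, mt e * pr A = α' • pr A + β' • (mt C0 * pr A) := by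
    have h1 : (2 : F) • (mt e * pr A) = α • pr A + β • (mt C0⁻¹ * pr A) := by
      have h2 : (mt e - U) * pr A = β • (mt C0⁻¹ * pr A) := by
        have hp : mt C0⁻¹ * pr A = pr A * mt C0⁻¹ :=
          E.commute_pr H ((show Commute C0 A from E.w_commute H c0).inv_left).eq
        calc (mt e - U) * pr A = ((mt e - U) * mt C0 * pr A) * mt C0⁻¹ := by
              rw [mul_assoc ((mt e - U) * mt C0), ← hp, ← mul_assoc, mul_assoc (mt e - U), ← Units.val_mul,
                mul_inv_cancel, Units.val_one, mul_one]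
          _ = _ := by rw [hβ, smul_mul_assoc, ← hp]
      rw [← hα, ← h2, ← add_mul, show mt e + U + (mt e - U) = (2 : F) • mt e by rw [two_smul]; abel, smul_mul_assoc]
    obtain ⟨t, ht⟩ := pm_iff.1 (E.r_inv (c0 : V))
    rw [ht, Units.val_mul] at h1
    refine ⟨(2 : F)⁻¹ * α, (2 : F)⁻¹ * (if t = 0 then β else -β), ?_⟩
    have h2 := congrArg ((2 : F)⁻¹ • ·) h1
    simp only [smul_smul, smul_add, inv_mul_cancel₀ E.two, one_smul] at h2
    rw [h2]
    rcases z2 t with rfl | rfl <;> simp [mul_assoc, hC0]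
  -- moving the eigenvector
  obtain ⟨c1, hQ1, hB1⟩ : ∃ c1 : wsub S a b, (E.SW H).Q c1 = (E.SW H).Q c0 ∧ (E.SW H).B c0 c1 = 1 := by
    rcases z2 ((E.SW H).Q d0 + (E.SW H).Q c0) with k | k
    · exact ⟨d0, by rwa [add_eq_zero_iff_eq_neg, CharTwo.neg_eq] at k, hd0⟩
    · obtain ⟨w, hw, hQw⟩ := (E.SW H).exists_Q_add_B (W := (E.SW H).lperp [c0]) ((E.SW H).ni_of_lt (by
        have := (E.SW H).finrank_lperp [c0]; have := E.six_le H
        simp only [List.length_cons, List.length_nil] at *; omega)) d0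
      refine ⟨d0 + w, ?_, ?_⟩
      · rw [(E.SW H).Q_add, add_assoc, hQw]
        rcases z2 ((E.SW H).Q d0) with k1 | k1 <;> rcases z2 ((E.SW H).Q c0) with k2 | k2 <;>
          simp only [k1, k2] at k ⊢ <;> revert k <;> decide
      · rw [map_add, QS.restrict_B, hd0, (E.SW H).mem_lperp.1 hw c0 (by simp), add_zero]
  let Phi : wsub S a b → Prop := fun x => ∃ e' ∈ Es, ∃ α' β' : F, β' ≠ 0 ∧
    mt e' * pr A = α' • pr A + β' • (mt (r (x : V)) * pr A)
  have hPhi0 : Phi c0 := by
    refine ⟨e, he, α', β', fun k => he1 (hscalar e he α' ?_), hαβ⟩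
    rw [hαβ, k, zero_smul, add_zero]
  have hPhi1 : Phi c1 := by
    refine (E.SW H).reach_small ⊥ (by rw [finrank_bot]; have := E.six_le H; omega) (v := c0) (v' := c1)
      (by simpa using hc00) (by simpa using fun k : c1 = 0 => by simp [k] at hB1) hQ1.symm
      (fun s hs => by simp [(Submodule.mem_bot _).1 hs]) Phi ?_ hPhi0
    rintro c d hc hd - - x ⟨e', he', α1, β1, hβ1, he'P⟩
    rw [QS.restrict_Q] at hc hd
    set g := gp (r (c : V)) (r (d : V)) with hg
    have hgA : g * A = A * g := E.gp_comm_A H hMX hXG hc hd (PM.refl _) (PM.refl _)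
    have hgn : NormA S r a b A g := fun w => by
      obtain ⟨y, hy⟩ := pm_iff.1 (E.gp_conj hc hd (PM.refl (r (c : V))) (PM.refl (r (d : V))) w)
      exact ⟨(E.SW H).pair c d w, y, by rw [hy, QS.restrict_pair]⟩
    refine ⟨g * e' * g⁻¹, hinv' g (hMX (E.gp_mem_M hc hd (PM.refl _) (PM.refl _))) hgA hgn e' he', ?_⟩
    obtain ⟨y, hy⟩ := pm_iff.1 (E.gp_conj hc hd (PM.refl (r (c : V))) (PM.refl (r (d : V))) x)
    refine ⟨α1, if y = 0 then β1 else -β1, by split_ifs <;> simpa using hβ1, ?_⟩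
    have hgP : mt g⁻¹ * pr A = pr A * mt g⁻¹ := E.commute_pr H ((show Commute g A from hgA).inv_left).eq
    have k : mt (g * e' * g⁻¹) * pr A = α1 • pr A + β1 • (mt (g * r (x : V) * g⁻¹) * pr A) := by
      rw [Units.val_mul, Units.val_mul, mul_assoc, hgP, ← mul_assoc, mul_assoc (mt g), he'P, mul_add, add_mul,
        mul_smul_comm, mul_smul_comm, smul_mul_assoc, smul_mul_assoc, mul_assoc (mt g) (pr A), ← hgP, ← mul_assoc,
        ← Units.val_mul, mul_inv_cancel, Units.val_one, one_mul]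
      congr 2
      simp only [Units.val_mul, mul_assoc, hgP]
    rw [k, hy, QS.restrict_pair]
    rcases z2 y with rfl | rfl <;> simp
  obtain ⟨e1, he1m, α1, β1, hβ1, he1P⟩ := hPhi1
  have hC1 : mt (r (c1 : V)) * pr A = pr A * mt (r (c1 : V)) := E.w_pr H c1
  have hC0' : mt C0 * pr A = pr A * mt C0 := E.w_pr H c0
  have hprod : mt e * mt e1 * pr A = mt e1 * mt e * pr A := by
    rw [← Units.val_mul, (hEmul e he e1 he1m).2, Units.val_mul]
  set C1 := mt (r (c1 : V)) with hC1def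
  have hanti : mt C0 * C1 = -(C1 * mt C0) := congrArg Units.val (E.r_comm1 hB1)
  have hAe : mt e * pr A = pr A * mt e := E.commute_pr H heA
  have hAe1 : mt e1 * pr A = pr A * mt e1 := E.commute_pr H (hEK he1m).2.1
  have l1 : mt e * mt e1 * pr A = (α' • (1 : Matrix ι ι F) + β' • mt C0) * ((α1 • 1 + β1 • C1) * pr A) := by
    rw [mul_assoc, he1P, mul_add, mul_smul_comm, mul_smul_comm, hC1, ← mul_assoc, hαβ]
    simp only [add_mul, mul_add, smul_mul_assoc, mul_smul_comm, one_mul, mul_assoc, ← hC1, smul_add, smul_smul]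
  have l2 : mt e1 * mt e * pr A = (α1 • (1 : Matrix ι ι F) + β1 • C1) * ((α' • 1 + β' • mt C0) * pr A) := by
    rw [mul_assoc, hαβ, mul_add, mul_smul_comm, mul_smul_comm, hC0', ← mul_assoc, he1P]
    simp only [add_mul, mul_add, smul_mul_assoc, mul_smul_comm, one_mul, mul_assoc, ← hC0', smul_add, smul_smul]
  rw [l1, l2] at hprod
  have h3 : (2 * (β' * β1)) • (mt C0 * C1 * pr A) = 0 := by
    have h4 := sub_eq_zero.2 hprod
    simp only [add_mul, mul_add, smul_mul_assoc, mul_smul_comm, one_mul, mul_one, ← mul_assoc,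
      show C1 * mt C0 = -(mt C0 * C1) by rw [hanti, neg_neg], smul_smul, neg_mul, smul_neg, smul_add] at h4
    refine Eq.trans ?_ h4
    module
  have hβ' : β' ≠ 0 := fun k => he1 (hscalar e he α' (by rw [hαβ, k, zero_smul, add_zero]))
  rcases smul_eq_zero.1 h3 with k | k
  · exact mul_ne_zero E.two (mul_ne_zero hβ' hβ1) k
  · refine E.pr_ne_zero H ((IsUnit.mul_right_eq_zero ?_).1 k)
    rw [hC1def, ← Units.val_mul]
    exact Units.isUnit _

end Ext

end CfsgLib.ExtraTypeMax
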