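import Cfsg.Agent.Lib.ExtraTypeMax.Imprim
import Cfsg.Agent.Lib.GeomClasses.OrthEich

/-!
Diagonal gates twisted by commuting square roots of minus one give elements with a rank-one deviation.
-/

set_option autoImplicit false
set_option linter.unusedSectionVars false

namespace CfsgLib.ExtraTypeMax

open Matrix Module CfsgLib.GeomClasses CfsgLib.GeomClasses.Frame CfsgLib.Orth

variable {ι : Type} [Fintype ι] [DecidableEq ι] {F : Type*} [Field F]
  {V : Type*} [AddCommGroup V] [Module (ZMod 2) V] [FiniteDimensional (ZMod 2) V]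
  {S : QS V} {f : (ι → F) → (ι → F) → F} {r : V → GL ι F} {G : Subgroup (GL ι F)}

/-- A commutator of two elements whose product difference annihilates both deviations. -/
theorem inX_commutator {X : Subgroup (GL ι F)} {a b : Matrix ι ι F} (ha : InX X (1 + a)) (hb : InX X (1 + b))
    (h1 : (a * b - b * a) * a = 0) (h2 : (a * b - b * a) * b = 0) : InX X (1 + (a * b - b * a)) := by
  obtain ⟨g, hg, hga⟩ := ha
  obtain ⟨g', hg', hgb⟩ := hb
  refine ⟨g * g' * (g' * g)⁻¹, X.mul_mem (X.mul_mem hg hg') (X.inv_mem (X.mul_mem hg' hg)), ?_⟩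
  have key : (1 + (a * b - b * a)) * mt (g' * g) = mt (g * g') := by
    rw [Units.val_mul, Units.val_mul, hga, hgb]
    calc (1 + (a * b - b * a)) * ((1 + b) * (1 + a))
        = (1 + b) * (1 + a) + (a * b - b * a) + (a * b - b * a) * a + (a * b - b * a) * b +
          (a * b - b * a) * b * a := by noncomm_ring
      _ = (1 + a) * (1 + b) := by rw [h1, h2, zero_mul]; noncomm_ring
  rw [Units.val_mul (g * g'), ← key, mul_assoc, ← Units.val_mul, mul_inv_cancel, Units.val_one, mul_one]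

/-- The product of two deviations of this shape. -/
theorem shape_mul (P Q R x y x' y' : Matrix ι ι F) (l m : F) (hxQ : Commute x Q) (hxP : Commute x P)
    (hxR : Commute x R) (hyP : Commute y P) (hyQ : Commute y Q) (hyR : Commute y R) (hPP : P * P = 0)
    (hPQ : P * Q = 0) (hPR : P * R = 0) (hQQ : Q * Q = 0) (hQR : Q * R = 0) (hRP : R * P = 0) (hRQ : R * Q = 0)
    (hRR : R * R = 0) :
    (l • (P * x) + l • (Q * y) + (l * l) • (R * y)) * (m • (P * x') + m • (Q * y') + (m * m) • (R * y')) =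
      (l * m) • (Q * P * (y * x')) := by
  have mv : ∀ {A B u v : Matrix ι ι F}, Commute u B → A * u * (B * v) = A * B * (u * v) := fun {A B u v} h => by
    rw [mul_assoc, ← mul_assoc u, h.eq, mul_assoc, ← mul_assoc]
  simp only [add_mul, mul_add, smul_mul_assoc, mul_smul_comm, smul_smul, mv hxP, mv hxQ, mv hxR, mv hyP, mv hyQ,
    mv hyR, hPP, hPQ, hPR, hQQ, hQR, hRP, hRQ, hRR, zero_mul, smul_zero, add_zero, zero_add]
  rw [mul_comm m l]

namespace Imp

variable (D : Imp S r)

/-- The twisted deviation. -/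
noncomputable def dev (v d : Fin D.n → F) (l : F) (T : Matrix ι ι F) : Matrix ι ι F :=
  l • (D.phi (vecMulVec v d) * (1 - T)) + l • (D.phi (vecMulVec d v) * (-1 - T)) +
    (l * l) • (D.phi (vecMulVec d d) * (-1 - T))

variable (E : Ext S f r G)
include E

theorem phi_vv (a b c e : Fin D.n → F) :
    D.phi (vecMulVec a b) * D.phi (vecMulVec c e) = (b ⬝ᵥ c) • D.phi (vecMulVec a e) := by
  rw [← D.phi_mul E, vecMulVec_mul_vecMulVec, vecMulVec_smul, D.phi_smul]

theorem phi_dd_sq {d : Fin D.n → F} (hdd : d ⬝ᵥ d = 0) :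
    D.phi (vecMulVec d d) * D.phi (vecMulVec d d) = 0 := by rw [D.phi_vv E, hdd, zero_smul]

/-- The commutator of two deviations. -/
theorem inX_dev_comm {X : Subgroup (GL ι F)} {v d : Fin D.n → F} (hvd : v ⬝ᵥ d = 0) (hdd : d ⬝ᵥ d = 0)
    (hvv : v ⬝ᵥ v = 1) {T T' : Matrix ι ι F} (hT : ∀ A, Commute T (D.phi A)) (hT' : ∀ A, Commute T' (D.phi A))
    {l : F} (h : InX X (1 + D.dev v d l T)) (h' : InX X (1 + D.dev v d 1 T')) :
    InX X (1 + l • (D.phi (vecMulVec d d) * ((-1 - T) * (1 - T') - (-1 - T') * (1 - T)))) := by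
  set R := D.phi (vecMulVec d d) with hR
  have c1 : ∀ {U : Matrix ι ι F}, (∀ A, Commute U (D.phi A)) → ∀ A, Commute (1 - U) (D.phi A) := fun hU A =>
    (Commute.one_left _).sub_left (hU A)
  have c2 : ∀ {U : Matrix ι ι F}, (∀ A, Commute U (D.phi A)) → ∀ A, Commute (-1 - U) (D.phi A) := fun hU A =>
    ((Commute.one_left _).neg_left).sub_left (hU A)
  have hdv : d ⬝ᵥ v = 0 := by rw [dotProduct_comm, hvd]
  have z : ∀ {a b c e : Fin D.n → F}, b ⬝ᵥ c = 0 → D.phi (vecMulVec a b) * D.phi (vecMulVec c e) = 0 :=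
    fun hbc => by rw [D.phi_vv E, hbc, zero_smul]
  have hQP : D.phi (vecMulVec d v) * D.phi (vecMulVec v d) = R := by rw [D.phi_vv E, hvv, one_smul]
  have key : ∀ {l m : F} {U U' : Matrix ι ι F}, (∀ A, Commute U (D.phi A)) →
      D.dev v d l U * D.dev v d m U' = (l * m) • (R * ((-1 - U) * (1 - U'))) := fun {l m U U'} hU => by
    rw [dev, dev, shape_mul _ _ _ _ _ _ _ l m (c1 hU _) (c1 hU _) (c1 hU _) (c2 hU _) (c2 hU _) (c2 hU _)
      (z hdv) (z hdd) (z hdd) (z hvd) (z hvd) (z hdv) (z hdd) (z hdd), hQP]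
  have hC : D.dev v d l T * D.dev v d 1 T' - D.dev v d 1 T' * D.dev v d l T =
      l • (R * ((-1 - T) * (1 - T') - (-1 - T') * (1 - T))) := by
    rw [key hT, key hT', mul_one l, one_mul l, ← smul_sub, ← mul_sub]
  have hkill : ∀ {U : Matrix ι ι F} (m : F), (∀ A, Commute U (D.phi A)) → R * D.dev v d m U = 0 := fun {U} m hU => by
    simp only [dev, mul_add, mul_smul_comm, ← mul_assoc, z hdv, z hdd, hR, zero_mul, smul_zero, add_zero]
  have hz : ∀ {U : Matrix ι ι F} (m : F), (∀ A, Commute U (D.phi A)) →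
      (D.dev v d l T * D.dev v d 1 T' - D.dev v d 1 T' * D.dev v d l T) * D.dev v d m U = 0 := fun {U} m hU => by
    rw [hC, smul_mul_assoc, (show Commute R ((-1 - T) * (1 - T') - (-1 - T') * (1 - T)) from
      ((((c2 hT _).mul_left (c1 hT' _)).sub_left ((c2 hT' _).mul_left (c1 hT _))).symm)).eq, mul_assoc,
      hkill m hU, mul_zero, smul_zero]
  have := inX_commutator h h' (hz l hT) (hz 1 hT')
  rwa [hC] at this

/-- The twisted deviations from diagonal gates and the orthogonal commutator group. -/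
theorem inX_dev [Fintype F] {X : Subgroup (GL ι F)} (hn : 7 ≤ D.n)
    (hΩ : commutator (O (sq0 F D.n)) ≤ X.comap (D.phiO E)) {dS : Fin D.n → F}
    (h01 : ∀ i, dS i * dS i = dS i) {v₀ : Fin D.n} (hv : dS v₀ = 1) {d : Fin D.n → F} (hd : ∀ i, dS i * d i = 0)
    (hdd : d ⬝ᵥ d = 0) {T : Matrix ι ι F} (hT2 : T * T = -1) (hT : ∀ A, Commute T (D.phi A))
    (g1 : InX X (1 + D.phi (diagonal dS) * (T - 1))) (g2 : InX X (1 + D.phi (diagonal dS) * (-T - 1))) (l : F) :
    InX X (1 + D.dev (Pi.single v₀ 1) d l T) := by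
  set v : Fin D.n → F := Pi.single v₀ 1 with hvdef
  have hdv0 : d v₀ = 0 := by have := hd v₀; rwa [hv, one_mul] at this
  set q := sq0 F D.n
  have hq := (frame0 (F := F) E.two D.n).nondeg
  have hqd : q d = 0 := by
    have h := CfsgLib.Orth.polar_self' (Q := q) d
    rw [polar_sq0, hdd, mul_zero, eq_comm] at h
    exact (mul_eq_zero.1 h).resolve_left E.two
  set μ : F := -l / 2 with hμ
  have hpol : QuadraticMap.polar q d (μ • v) = 0 := by
    rw [QuadraticMap.polar_smul_right, polar_sq0, hvdef, dotProduct_single, hdv0]; simp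
  set γ := eich q d (μ • v)
  have hγ : γ ∈ commutator (O q) := OrthEich.eich_mem hq (by rw [Fintype.card_fin]; exact hn) hqd hpol
  set Γ := mt (γ : GL (Fin D.n) F) with hΓdef
  have hΓ : InX X (D.phi Γ) := ⟨D.phiO E γ, hΩ hγ, D.mt_phiO E γ⟩
  have hΓo : Γᵀ * Γ = 1 := transpose_mul_self_O E.two γ
  have hΓ' : InX X (D.phi Γᵀ) := hΓ.inv (by rw [← D.phi_mul E, mul_eq_one_comm.1 hΓo, D.phi_one E])
  set Δ := diagonal dS with hΔ
  set W := vecMulVec v d + vecMulVec d v with hW
  have hΔΔ : Δ * Δ = Δ := by rw [hΔ, diagonal_mul_diagonal]; simp only [h01]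
  have hΔv : Δ *ᵥ v = v := by
    rw [hvdef]
    refine funext fun i => ?_
    rw [hΔ, mulVec_diagonal]
    rcases eq_or_ne i v₀ with rfl | h
    · simp [hv]
    · simp [Pi.single_eq_of_ne h]
  have hΔd : Δ *ᵥ d = 0 := funext fun i => by rw [hΔ, mulVec_diagonal, hd]; rfl
  have hΔt : Δᵀ = Δ := diagonal_transpose _
  have hvv : v ⬝ᵥ v = 1 := by simp [hvdef]
  have hΓΔ : Γ * Δ = Δ + l • vecMulVec d v := by
    refine Matrix.ext_of_mulVec_single fun j => ?_
    rw [← mulVec_mulVec, add_mulVec, smul_mulVec, vecMulVec_mulVec]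
    have e1 : Δ *ᵥ Pi.single j (1 : F) = dS j • Pi.single j (1 : F) := by
      refine funext fun i => ?_
      rw [hΔ, mulVec_diagonal]
      rcases eq_or_ne i j with rfl | h
      · simp
      · simp [Pi.single_eq_of_ne h]
    rw [e1, mulVec_smul, hΓdef, ← app_apply, app_eich hqd hpol, op_smul_eq_smul, polar_sq0,
      QuadraticMap.polar_smul_right, polar_sq0, QuadraticMap.map_smul, hvdef, sq0_single, single_dotProduct,
      one_mul, single_dotProduct, one_mul, single_dotProduct, one_mul]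
    have hdj : dS j * d j = 0 := hd j
    rcases eq_or_ne j v₀ with rfl | hj
    · simp only [Pi.single_eq_same, hdv0, hv, mul_zero, zero_smul, smul_eq_mul, mul_one, one_smul, add_zero,
        sub_zero, zero_mul, smul_smul, hμ]
      match_scalars <;> field_simp [E.two]
    · simp only [Pi.single_eq_of_ne hj, Pi.single_eq_of_ne (Ne.symm hj), mul_zero, zero_smul, smul_zero, sub_zero,
        smul_eq_mul]
      match_scalars
      · ring
      all_goals (rcases mul_eq_zero.1 hdj with e | e <;> simp [e])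
  have hWmat : Γ * Δ * Γᵀ = Δ + l • W + (l * l) • vecMulVec d d := by
    calc Γ * Δ * Γᵀ = (Γ * Δ) * (Γ * Δ)ᵀ := by
          rw [transpose_mul, hΔt, ← mul_assoc, mul_assoc Γ Δ Δ, hΔΔ]
      _ = _ := by
          rw [hΓΔ, transpose_add, hΔt, transpose_smul, transpose_vecMulVec, add_mul, mul_add, mul_add, hΔΔ,
            mul_smul_comm, mul_vecMulVec, hΔv, smul_mul_assoc, vecMulVec_mul, ← mulVec_transpose, hΔt, hΔv,
            smul_mul_smul_comm, vecMulVec_mul_vecMulVec, hvv, one_smul, hW, smul_add]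
          abel
  have hΔW : Δ * (Δ + l • W + (l * l) • vecMulVec d d) = Δ + l • vecMulVec v d := by
    rw [mul_add, mul_add, hΔΔ, mul_smul_comm, mul_smul_comm, hW, mul_add, mul_vecMulVec, mul_vecMulVec,
      mul_vecMulVec, hΔv, hΔd]
    simp
  have hconj : InX X (1 + D.phi (Δ + l • W + (l * l) • vecMulVec d d) * (-T - 1)) := by
    have h := (hΓ.mul g2).mul hΓ'
    have e : D.phi Γ * (1 + D.phi Δ * (-T - 1)) * D.phi Γᵀ =
        1 + D.phi (Γ * Δ * Γᵀ) * (-T - 1) := by
      rw [mul_add, mul_one, add_mul, ← D.phi_mul E Γ Γᵀ, mul_eq_one_comm.1 hΓo, D.phi_one E, ← mul_assoc, mul_assoc,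
        (show Commute (-T - 1) (D.phi Γᵀ) from ((hT _).neg_left).sub_left (Commute.one_left _)).eq, ← mul_assoc,
        ← D.phi_mul E, ← D.phi_mul E]
    rwa [e, hWmat] at h
  have h := g1.mul hconj
  have e : (1 + D.phi Δ * (T - 1)) * (1 + D.phi (Δ + l • W + (l * l) • vecMulVec d d) * (-T - 1)) =
      1 + D.dev v d l T := by
    set W' := Δ + l • W + (l * l) • vecMulVec d d with hW'
    have e2 : (T - 1) * (-T - 1) = (2 : F) • (1 : Matrix ι ι F) := by
      simp only [sub_mul, mul_sub, mul_neg, mul_one, one_mul, hT2, neg_neg, two_smul]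
      abel
    have e3 : D.phi Δ * (T - 1) * (D.phi W' * (-T - 1)) = (2 : F) • D.phi (Δ + l • vecMulVec v d) := by
      rw [mul_assoc, ← mul_assoc (T - 1), ((hT W').sub_left (Commute.one_left _)).eq, mul_assoc, e2,
        mul_smul_comm, mul_one, mul_smul_comm, ← D.phi_mul E, hΔW]
    rw [add_mul, one_mul, mul_add, mul_one, e3, hW', hW]
    simp only [dev, D.phi_add, D.phi_smul, smul_add, add_mul, mul_sub, mul_neg, mul_one, smul_sub,
      smul_mul_assoc, smul_neg]
    module
  rwa [e] at h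

end Imp

end CfsgLib.ExtraTypeMax
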