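import Cfsg.Agent.Lib.ExtraTypeMax.PlusPart
import Cfsg.Agent.Lib.ExtraTypeMax.SympGates
import Cfsg.Agent.Lib.ExtraTypeMax.GateOmega
import Cfsg.Agent.Lib.ExtraTypeMax.Centres

/-!
For minus type the gates give a transvection and then every transvection centre.
-/

set_option autoImplicit false
set_option linter.unusedSectionVars false

namespace CfsgLib.ExtraTypeMax

open Matrix Module CfsgLib.GeomClasses CfsgLib.GeomClasses.Frame CfsgLib.Orth

variable {ι : Type} [Fintype ι] [DecidableEq ι] {F : Type*} [Field F]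
  {V : Type*} [AddCommGroup V] [Module (ZMod 2) V] [FiniteDimensional (ZMod 2) V]
  {S : QS V} {f : (ι → F) → (ι → F) → F} {r : V → GL ι F} {G : Subgroup (GL ι F)}

theorem quat_sq {I J : Matrix ι ι F} (hI : I * I = -1) (hJ : J * J = -1) (hJI : J * I = -(I * J)) {a b : F}
    (hab : a * a + b * b = -1) :
    (a • I + b • J + I * J) * (a • I + b • J + I * J) = 0 := by
  have q1 : I * (I * J) = -J := by rw [← mul_assoc, hI, neg_one_mul]
  have q2 : I * J * I = J := by rw [mul_assoc, hJI, mul_neg, q1, neg_neg]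
  have q3 : J * (I * J) = I := by rw [← mul_assoc, hJI, neg_mul, mul_assoc, hJ, mul_neg, mul_one, neg_neg]
  have q4 : I * J * J = -I := by rw [mul_assoc, hJ, mul_neg, mul_one]
  have q5 : I * J * (I * J) = -1 := by rw [← mul_assoc, q2, hJ]
  simp only [add_mul, mul_add, smul_mul_assoc, mul_smul_comm, hI, hJ, hJI, q1, q2, q3, q4, q5]
  match_scalars <;> first | linear_combination hab | linear_combination -hab | ring

theorem quat_ne [Nonempty ι] (h2 : (2 : F) ≠ 0) {I J : Matrix ι ι F} (hI : I * I = -1) (hJ : J * J = -1)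
    (hJI : J * I = -(I * J)) {a b : F} (hab : a * a + b * b = -1) :
    a • I + b • J + I * J ≠ 0 := fun h => by
  have q1 : I * (I * J) = -J := by rw [← mul_assoc, hI, neg_one_mul]
  have q2 : I * J * I = J := by rw [mul_assoc, hJI, mul_neg, q1, neg_neg]
  have q3 : J * (I * J) = I := by rw [← mul_assoc, hJI, neg_mul, mul_assoc, hJ, mul_neg, mul_one, neg_neg]
  have q4 : I * J * J = -I := by rw [mul_assoc, hJ, mul_neg, mul_one]
  have e1 : I * (a • I + b • J + I * J) + (a • I + b • J + I * J) * I = (-(2 * a)) • (1 : Matrix ι ι F) := by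
    simp only [mul_add, add_mul, mul_smul_comm, smul_mul_assoc, hI, hJI, q1, q2]
    module
  have e2 : J * (a • I + b • J + I * J) + (a • I + b • J + I * J) * J = (-(2 * b)) • (1 : Matrix ι ι F) := by
    simp only [mul_add, add_mul, mul_smul_comm, smul_mul_assoc, hJ, hJI, q3, q4]
    module
  rw [h, mul_zero, zero_mul, add_zero, eq_comm] at e1 e2
  have ha : a = 0 := (mul_eq_zero.1 (neg_eq_zero.1 ((smul_eq_zero.1 e1).resolve_right one_ne_zero))).resolve_left h2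
  have hb : b = 0 := (mul_eq_zero.1 (neg_eq_zero.1 ((smul_eq_zero.1 e2).resolve_right one_ne_zero))).resolve_left h2
  rw [ha, hb] at hab
  exact one_ne_zero (α := F) (by linear_combination hab)

namespace Imp

variable (D : Imp S r) (E : Ext S f r G)
include E

theorem commute_of_perp {t : V} (hU : ∀ x ∈ D.U, S.B x t = 0) (hW : ∀ x ∈ D.W, S.B x t = 0) {T : GL ι F}
    (hT : PM T (r t)) : (∀ e, Commute (mt T) (mt (D.χ e))) ∧ ∀ x, Commute (mt T) (mt (D.τ x)) :=
  ⟨fun e => E.pm_commute (by rw [S.B_comm]; exact hU _ e.2) hT (D.χ_pm e),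
    fun x => E.pm_commute (by rw [S.B_comm]; exact hW _ x.2) hT (D.τ_pm x)⟩

theorem commute_P0 {g : Matrix ι ι F} (hχ : ∀ e, Commute g (mt (D.χ e))) : Commute g D.P0 :=
  (Commute.sum_right _ _ _ fun e _ => hχ e).smul_right _

theorem mem_L0_of_commute {g : Matrix ι ι F} (hχ : ∀ e, Commute g (mt (D.χ e))) {l : ι → F} (hl : l ∈ D.L0) :
    g *ᵥ l ∈ D.L0 := by
  rw [D.mem_L0 E, mulVec_mulVec, ← (D.commute_P0 E hχ).eq, ← mulVec_mulVec, (D.mem_L0 E).1 hl]

theorem L0_span (hf : Cfsg.Geo.IsSymplecticForm f) (h2L : finrank F D.L0 = 2) {l₀ m l : ι → F}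
    (hl₀ : l₀ ∈ D.L0) (hm : m ∈ D.L0) (h : f l₀ m ≠ 0) (hl : l ∈ D.L0) : ∃ s t : F, l = s • l₀ + t • m := by
  have hli : LinearIndependent F ![l₀, m] := by
    rw [LinearIndependent.pair_iff]
    intro s t hst
    have h1 := congrArg (f l₀) hst
    have h2 := congrArg (fun x => f x m) hst
    simp only [Symp.add_left hf, Symp.add_right hf, Symp.smul_left hf, Symp.smul_right hf, Symp.zero_left hf,
      Symp.zero_right hf, hf.alternating, mul_zero, zero_add, add_zero] at h1 h2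
    exact ⟨(mul_eq_zero.1 h2).resolve_right h, (mul_eq_zero.1 h1).resolve_right h⟩
  have hr := finrank_span_eq_card hli
  rw [Fintype.card_fin] at hr
  have hle : Submodule.span F (Set.range ![l₀, m]) ≤ D.L0 :=
    Submodule.span_le.2 (by rintro _ ⟨i, rfl⟩; fin_cases i <;> simp [hl₀, hm])
  rw [← Submodule.eq_of_le_of_finrank_eq hle (by rw [hr, h2L]), Matrix.range_cons, Matrix.range_cons,
    Matrix.range_empty, Set.union_empty, Set.singleton_union, Submodule.mem_span_pair] at hl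
  obtain ⟨s, t, hst⟩ := hl
  exact ⟨s, t, hst.symm⟩

variable [Fintype F] {X : Subgroup (GL ι F)} (hR : E.R ≤ X) (hXG : X ≤ G) (hG2 : Gate2 S r X)
  {u e : V} (hu : S.Q u = 1) (he : S.Q e = 1) (hue : S.B u e = 1)
  (hUu : ∀ x ∈ D.U, S.B x u = 0) (hUe : ∀ x ∈ D.U, S.B x e = 0)
  (hWu : ∀ x ∈ D.W, S.B x u = 0) (hWe : ∀ x ∈ D.W, S.B x e = 0)
  (hΩ : commutator (O (sq0 F D.n)) ≤ X.comap (D.phiO E)) (hn : 7 ≤ D.n) (hW3 : 3 ≤ finrank (ZMod 2) D.W)
  (hf : Cfsg.Geo.IsSymplecticForm f) (h2L : finrank F D.L0 = 2)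
include hR hXG hG2 hu he hue hUu hUe hWu hWe hΩ hn hW3 hf h2L

set_option maxHeartbeats 1000000 in
/-- A transvection centre of product shape. -/
theorem exists_centre (p : ℕ) [Fact p.Prime] [CharP F p] :
    ∃ (d : Fin D.n → F) (l₀ : ι → F), d ≠ 0 ∧ d ⬝ᵥ d = 0 ∧ l₀ ∈ D.L0 ∧ l₀ ≠ 0 ∧
      D.coord d l₀ ∈ Symp.centres f X := by
  classical
  have hne := E.nonempty
  obtain ⟨a', b', hab'⟩ := CharP.sq_add_sq F p (-1)
  obtain ⟨a, b, hab⟩ : ∃ a b : F, a * a + b * b = -1 := ⟨a', b', by push_cast at hab'; linear_combination hab'⟩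
  -- a hyperplane and three points outside
  obtain ⟨z, hz⟩ := exists_not_mem (U := (⊥ : Submodule (ZMod 2) D.W)) (by rw [finrank_bot]; omega)
  obtain ⟨μ, -, hμz⟩ := exists_dual hz
  have hker : 2 ≤ finrank (ZMod 2) (LinearMap.ker μ) := by
    have h1 := μ.finrank_range_add_finrank_ker
    have h2 := (LinearMap.range μ).finrank_le
    rw [Module.finrank_self] at h2
    omega
  obtain ⟨t₁, ht₁, ht₁0⟩ := Submodule.exists_mem_ne_zero_of_ne_bot (p := LinearMap.ker μ) fun e0 => by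
    rw [e0, finrank_bot] at hker; omega
  obtain ⟨t₂, ht₂, ht₂1⟩ : ∃ t₂ ∈ LinearMap.ker μ, t₂ ∉ Submodule.span (ZMod 2) {t₁} :=
    SetLike.not_le_iff_exists.1 fun hle => by
      have h1 := Submodule.finrank_mono hle
      rw [finrank_span_singleton ht₁0] at h1
      omega
  have hm1 : μ t₁ = 0 := LinearMap.mem_ker.1 ht₁
  have hm2 : μ t₂ = 0 := LinearMap.mem_ker.1 ht₂
  obtain ⟨x0, hx0⟩ : ∃ i, D.idx z = i := ⟨_, rfl⟩
  obtain ⟨x1, hx1⟩ : ∃ i, D.idx (z + t₁) = i := ⟨_, rfl⟩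
  obtain ⟨x2, hx2⟩ : ∃ i, D.idx (z + t₂) = i := ⟨_, rfl⟩
  have h01 : x0 ≠ x1 := fun h => ht₁0 (by
    have := D.idx.injective (hx0.trans (h.trans hx1.symm))
    rwa [left_eq_add] at this)
  have h02 : x0 ≠ x2 := fun h => ht₂1 (by
    have := D.idx.injective (hx0.trans (h.trans hx2.symm))
    rw [left_eq_add] at this
    rw [this]; exact zero_mem _)
  have h12 : x1 ≠ x2 := fun h => ht₂1 (by
    have := D.idx.injective (hx1.trans (h.trans hx2.symm))
    rw [add_right_inj] at this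
    rw [← this]; exact Submodule.mem_span_singleton_self _)
  obtain ⟨d, hd⟩ : ∃ d : Fin D.n → F, d = Pi.single x0 1 + a • Pi.single x1 1 + b • Pi.single x2 1 := ⟨_, rfl⟩
  have hd0 : d x0 = 1 := by
    rw [hd]; simp [Pi.single_eq_of_ne h01, Pi.single_eq_of_ne h02]
  have hdd : d ⬝ᵥ d = 0 := by
    rw [hd]
    simp only [dotProduct_add, add_dotProduct, smul_dotProduct, dotProduct_smul, dotProduct_single,
      Pi.single_eq_same, Pi.single_eq_of_ne h01, Pi.single_eq_of_ne h01.symm, Pi.single_eq_of_ne h02,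
      Pi.single_eq_of_ne h02.symm, Pi.single_eq_of_ne h12, Pi.single_eq_of_ne h12.symm, smul_eq_mul,
      Pi.add_apply, Pi.smul_apply]
    linear_combination hab
  let dS : Fin D.n → F := fun i => if μ (D.idx.symm i) = 0 then 1 else 0
  have hdS : ∀ i, dS i * d i = 0 := fun i => by
    by_cases hi : μ (D.idx.symm i) = 0
    · have e0 : i ≠ x0 := fun h => by simp [h, ← hx0, hμz] at hi
      have e1 : i ≠ x1 := fun h => by simp [h, ← hx1, hμz, hm1] at hi
      have e2 : i ≠ x2 := fun h => by simp [h, ← hx2, hμz, hm2] at hi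
      rw [hd]; simp [Pi.single_eq_of_ne e0, Pi.single_eq_of_ne e1, Pi.single_eq_of_ne e2]
    · simp [dS, hi]
  have h01S : ∀ i, dS i * dS i = dS i := fun i => by simp only [dS]; split_ifs <;> simp
  have hv0 : dS (D.idx 0) = 1 := by simp [dS]
  set v : Fin D.n → F := Pi.single (D.idx 0) 1 with hvdef
  have hvd : v ⬝ᵥ d = 0 := by
    have := hdS (D.idx 0)
    rw [hv0, one_mul] at this
    rw [hvdef, single_dotProduct, one_mul, this]
  have hvv : v ⬝ᵥ v = 1 := by rw [hvdef, single_dotProduct, one_mul, Pi.single_eq_same]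
  -- the square roots of minus one
  obtain ⟨e₁, he₁⟩ := D.exists_U_repr μ
  have hgate : ∀ {t : V} {T : GL ι F}, (∀ x ∈ D.U, S.B x t = 0) → (∀ x ∈ D.W, S.B x t = 0) → S.Q t = 1 →
      PM T (r t) → ∀ l, InX X (1 + D.dev v d l (mt T)) := by
    intro t T hUt hWt hQt hT l
    obtain ⟨c1, c2⟩ := D.commute_of_perp E hUt hWt hT
    have hg : ∀ {T' : GL ι F}, PM T' (r t) → InX X (1 + D.phi (diagonal dS) * (mt T' - 1)) := fun {T'} hT' => by
      have h := E.gate_any hR hG2 (D.tsU _ e₁.2) S.Q_zero (map_zero _) (hUt _ e₁.2)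
        (by rw [map_zero, LinearMap.zero_apply]) (D.sgn_χ_pm E e₁ 0) (A₂ := 1) (by rw [E.r_zero]; exact PM.refl 1) hT'
      have h1 : pr (1 : GL ι F) = 1 := by
        rw [pr, Units.val_one, ← two_smul F (1 : Matrix ι ι F), smul_smul, inv_mul_cancel₀ E.two, one_smul]
      rw [h1, mul_one, D.pr_χ E] at h
      simpa only [he₁] using h
    obtain ⟨hT2, -⟩ := E.lift_facts hQt hT
    refine D.inX_dev E hn hΩ h01S hv0 hdS hdd (congrArg Units.val hT2) (D.commute_phi E c1 c2) (hg hT) ?_ l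
    exact hg ((PM.neg_self T).trans hT)
  set I := r u with hI
  set J := r e with hJ
  have hK : PM (I * J) (r (u + e)) := E.r_add u e
  have hUK : ∀ x ∈ D.U, S.B x (u + e) = 0 := fun x hx => by rw [map_add, hUu x hx, hUe x hx, add_zero]
  have hWK : ∀ x ∈ D.W, S.B x (u + e) = 0 := fun x hx => by rw [map_add, hWu x hx, hWe x hx, add_zero]
  have hQK : S.Q (u + e) = 1 := by rw [S.Q_add, hu, he, hue]; decide
  set P := D.phi (vecMulVec d d) with hP
  have hPP : P * P = 0 := D.phi_dd_sq E hdd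
  obtain ⟨cI1, cI2⟩ := D.commute_of_perp E hUu hWu (PM.refl I)
  obtain ⟨cJ1, cJ2⟩ := D.commute_of_perp E hUe hWe (PM.refl J)
  obtain ⟨cK1, cK2⟩ := D.commute_of_perp E hUK hWK hK
  have hadd : ∀ {z z' : Matrix ι ι F}, Commute z P → InX X (1 + P * z) → InX X (1 + P * z') →
      InX X (1 + P * (z + z')) := fun {z z'} hz h h' => by
    have := h.mul h'
    rwa [add_mul, one_mul, mul_add, mul_one, mul_assoc P z, ← mul_assoc z, hz.eq, mul_assoc P z, ← mul_assoc P P,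
      hPP, zero_mul, add_zero, add_assoc, ← mul_add, add_comm z'] at this
  -- one axis
  have axis : ∀ {t t' : V} {T T' : GL ι F}, (∀ x ∈ D.U, S.B x t = 0) → (∀ x ∈ D.W, S.B x t = 0) → S.Q t = 1 →
      PM T (r t) → (∀ x ∈ D.U, S.B x t' = 0) → (∀ x ∈ D.W, S.B x t' = 0) → S.Q t' = 1 → PM T' (r t') →
      ∀ c : F, InX X (1 + P * (c • mt T')) := by
    intro t t' T T' a1 a2 a3 a4 b1 b2 b3 b4 c
    have cT := D.commute_phi E (D.commute_of_perp E a1 a2 a4).1 (D.commute_of_perp E a1 a2 a4).2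
    have cT' := D.commute_phi E (D.commute_of_perp E b1 b2 b4).1 (D.commute_of_perp E b1 b2 b4).2
    have hl := hgate a1 a2 a3 a4 (c / 4)
    have hl' := hgate a1 a2 a3 ((PM.neg_self T).trans a4) (c / 4)
    have h' := hgate b1 b2 b3 b4 1
    have g1 := D.inX_dev_comm E hvd hdd hvv cT cT' hl h'
    have g2 := D.inX_dev_comm E hvd hdd hvv (T := mt (-T)) (fun A => by rw [mt_neg]; exact (cT A).neg_left) cT' hl' h'
    rw [← hP, ← mul_smul_comm] at g1 g2
    have hz : ∀ {U : Matrix ι ι F}, (∀ A, Commute U (D.phi A)) →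
        Commute ((c / 4) • ((-1 - U) * (1 - mt T') - (-1 - mt T') * (1 - U))) P := fun {U} hU => by
      have x1 : Commute (-1 - U) P := ((Commute.one_left P).neg_left).sub_left (hU _)
      have x2 : Commute (1 - U) P := (Commute.one_left P).sub_left (hU _)
      have y1 : Commute (-1 - mt T') P := ((Commute.one_left P).neg_left).sub_left (cT' _)
      have y2 : Commute (1 - mt T') P := (Commute.one_left P).sub_left (cT' _)
      exact ((x1.mul_left y2).sub_left (y1.mul_left x2)).smul_left _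
    have g := hadd (hz cT) g1 g2
    convert g using 3
    rw [mt_neg, ← smul_add]
    have h4 : (4 : F) ≠ 0 := by
      rw [show (4 : F) = 2 * 2 by norm_num]; exact mul_ne_zero E.two E.two
    have e4 : (-1 - mt T) * (1 - mt T') - (-1 - mt T') * (1 - mt T) +
        ((-1 - -mt T) * (1 - mt T') - (-1 - mt T') * (1 - -mt T)) = (4 : F) • mt T' := by
      simp only [sub_mul, mul_sub, neg_mul, mul_neg, one_mul, mul_one]
      module
    rw [e4, smul_smul, div_mul_cancel₀ _ h4]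
  set z : Matrix ι ι F := a • mt I + b • mt J + mt I * mt J with hzdef
  have hzχ : ∀ x, Commute z (mt (D.χ x)) := fun x =>
    (((cI1 x).smul_left a).add_left ((cJ1 x).smul_left b)).add_left ((cI1 x).mul_left (cJ1 x))
  have hzτ : ∀ x, Commute z (mt (D.τ x)) := fun x =>
    (((cI2 x).smul_left a).add_left ((cJ2 x).smul_left b)).add_left ((cI2 x).mul_left (cJ2 x))
  have hzN : ∀ c : F, InX X (1 + P * (c • z)) := fun c => by
    have ca := D.commute_phi E cI1 cI2 (vecMulVec d d)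
    have cb := D.commute_phi E cJ1 cJ2 (vecMulVec d d)
    rw [hzdef, smul_add, smul_add, smul_smul, smul_smul, ← Units.val_mul]
    exact hadd (((ca.smul_left _).add_left (cb.smul_left _)))
      (hadd (ca.smul_left _) (axis hUe hWe he (PM.refl J) hUu hWu hu (PM.refl I) (c * a))
        (axis hUu hWu hu (PM.refl I) hUe hWe he (PM.refl J) (c * b)))
      (axis hUu hWu hu (PM.refl I) hUK hWK hQK hK c)
  have eI : mt I * mt I = -1 := congrArg Units.val (E.lift_facts hu (PM.refl I)).1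
  have eJ : mt J * mt J = -1 := congrArg Units.val (E.lift_facts he (PM.refl J)).1
  have eJI : mt J * mt I = -(mt I * mt J) :=
    congrArg Units.val (E.r_comm1 (show S.B e u = 1 by rw [S.B_comm, hue]))
  have hz2 : z * z = 0 := quat_sq eI eJ eJI hab
  obtain ⟨l, hl, hzl⟩ : ∃ l ∈ D.L0, z *ᵥ l ≠ 0 := by
    by_contra hc
    push Not at hc
    refine quat_ne E.two eI eJ eJI hab (Matrix.ext_of_mulVec_single fun i => ?_)
    show z *ᵥ _ = _
    rw [zero_mulVec, D.expand E (Pi.single i 1), mulVec_sum]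
    refine Finset.sum_eq_zero fun j _ => ?_
    rw [mulVec_mulVec, (hzτ _).eq, ← mulVec_mulVec, hc _ (D.P0_mem E _), mulVec_zero]
  set l₀ := z *ᵥ l with hl₀def
  have hl₀ : l₀ ∈ D.L0 := D.mem_L0_of_commute E hzχ hl
  obtain ⟨m, hm, hlm⟩ : ∃ m ∈ D.L0, f l₀ m ≠ 0 := by
    obtain ⟨y, hy⟩ := (hf.nondegenerate l₀ hzl).2
    refine ⟨D.P0 *ᵥ y, D.P0_mem E y, ?_⟩
    rwa [← D.adj_P0 E, (D.mem_L0 E).1 hl₀]
  have hzL : ∀ l' ∈ D.L0, ∃ s : F, z *ᵥ l' = s • l₀ := by
    intro l' hl'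
    obtain ⟨s, t, hst⟩ := D.L0_span E hf h2L hl₀ hm hlm (D.mem_L0_of_commute E hzχ hl')
    refine ⟨s, ?_⟩
    by_cases ht : t = 0
    · rw [hst, ht, zero_smul, add_zero]
    exfalso
    have hzl₀ : z *ᵥ l₀ = 0 := by rw [hl₀def, mulVec_mulVec, hz2, zero_mulVec]
    have h0 := congrArg (z *ᵥ ·) hst
    simp only [mulVec_mulVec, hz2, zero_mulVec, mulVec_add, mulVec_smul, hzl₀, smul_zero, zero_add] at h0
    obtain ⟨s', t', hl2⟩ := D.L0_span E hf h2L hl₀ hm hlm hl
    exact hzl (by rw [hl₀def, hl2, mulVec_add, mulVec_smul, mulVec_smul, hzl₀,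
      (smul_eq_zero.1 h0.symm).resolve_left ht, smul_zero, smul_zero, add_zero])
  -- the transvection
  set w := D.coord d l₀ with hw
  have hw0 : w ≠ 0 := fun e0 => by
    have h := D.form_coord E d (Pi.single x0 1) hl₀ hm
    rw [← hw, e0, dotProduct_single, hd0, one_mul, one_mul, Symp.zero_left hf] at h
    exact hlm h.symm
  have hdd_apply : ∀ x, P *ᵥ x = D.coord d (∑ i, d i • (D.P0 *ᵥ (mt (D.τ (D.idx.symm i)) *ᵥ x))) := fun x => by
    conv_lhs => rw [D.expand E x, mulVec_sum]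
    rw [hP]
    simp only [D.phi_τ_mulVec E _ _ (D.P0_mem E _)]
    simp only [coord, mulVec_sum, Finset.smul_sum, mulVec_smul, smul_smul]
    rw [Finset.sum_comm]
    refine Finset.sum_congr rfl fun i _ => Finset.sum_congr rfl fun j _ => ?_
    rw [Matrix.col, transpose_apply, vecMulVec_apply]
  have hN : ∀ x, ∃ s : F, (P * z) *ᵥ x = s • w := fun x => by
    obtain ⟨L, hL, hLe⟩ : ∃ L ∈ D.L0, P *ᵥ x = D.coord d L :=
      ⟨_, Submodule.sum_mem _ fun i _ => D.L0.smul_mem _ (D.P0_mem E _), hdd_apply x⟩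
    obtain ⟨s, hs⟩ := hzL L hL
    refine ⟨s, ?_⟩
    rw [← (D.commute_phi E hzχ hzτ (vecMulVec d d)).eq, ← mulVec_mulVec, ← hP, hLe, D.coord_commute hzτ, hs,
      D.coord_smul, hw]
  choose ℓ hℓ using hN
  set y0 := mt (D.τ (D.idx.symm x0)) *ᵥ l with hy0
  have hℓy : ℓ y0 = 1 := by
    have e1 : (P * z) *ᵥ y0 = w := by
      rw [hy0, ← mulVec_mulVec, mulVec_mulVec (M := z), (hzτ _).eq, ← mulVec_mulVec, hP,
        D.phi_τ_mulVec E _ _ hl₀, hw]
      congr 1
      funext i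
      rw [Matrix.col, transpose_apply, vecMulVec_apply, hd0, mul_one]
    rw [hℓ] at e1
    exact smul_left_injective F hw0 (e1.trans (one_smul F w).symm)
  obtain ⟨g, hgX, hg⟩ := hzN 1
  rw [one_smul] at hg
  have hfix : ∀ x, mt g *ᵥ x = x + ℓ x • w := fun x => by rw [hg, add_mulVec, one_mulVec, hℓ]
  have hiso : ∀ x y, ℓ x * f w y + ℓ y * f x w = 0 := fun x y => by
    have h := E.gIso g (hXG hgX) x y
    rw [hfix, hfix, Symp.add_left hf, Symp.add_right hf, Symp.add_right hf, Symp.smul_left hf, Symp.smul_right hf,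
      Symp.smul_left hf, Symp.smul_right hf, hf.alternating] at h
    linear_combination h
  have hwy : f w y0 ≠ 0 := fun e0 => by
    obtain ⟨x, hx⟩ := (hf.nondegenerate w hw0).1
    have h := hiso x y0
    rw [e0, hℓy, mul_zero, zero_add, one_mul] at h
    exact hx h
  refine ⟨d, l₀, fun e0 => by simp [e0] at hd0, hdd, hl₀, hzl, fun c => ?_⟩
  obtain ⟨gc, hgcX, hgc⟩ := hzN (-c * f w y0)
  convert hgcX using 1
  refine gl_ext fun x => ?_
  rw [Symp.formTv_mulVec hf, hgc, add_mulVec, one_mulVec, mul_smul_comm, smul_mulVec, hℓ, smul_smul]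
  congr 2
  have h := hiso x y0
  rw [hℓy, one_mul] at h
  linear_combination c * h

theorem centre_orbit {d : Fin D.n → F} {l : ι → F} (hd : d ≠ 0) (hdd : d ⬝ᵥ d = 0) (hl : l ∈ D.L0)
    (h : D.coord d l ∈ Symp.centres f X) {y : Fin D.n → F} (hy : y ≠ 0) (hyy : y ⬝ᵥ y = 0) :
    D.coord y l ∈ Symp.centres f X := by
  set q := sq0 F D.n
  have hq := (frame0 (F := F) E.two D.n).nondeg
  have hn' : 7 ≤ Fintype.card (Fin D.n) := by rw [Fintype.card_fin]; exact hn
  have hq0 : ∀ {c : Fin D.n → F}, c ⬝ᵥ c = 0 → q c = 0 := fun {c} hc => by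
    have h := CfsgLib.Orth.polar_self' (Q := q) c
    rw [polar_sq0, hc, mul_zero, eq_comm] at h
    exact (mul_eq_zero.1 h).resolve_left E.two
  obtain ⟨k, hk, hkd, hky⟩ := OrthEich.exists_link hq hn' (hq0 hdd) hd (hq0 hyy) hy
  rw [QuadraticMap.polar_comm] at hkd hky
  obtain ⟨h1, h2⟩ := OrthEich.app_eich_move hk
    (x := (QuadraticMap.polar q d k)⁻¹ • d) (y := (QuadraticMap.polar q y k)⁻¹ • y)
    (by rw [QuadraticMap.map_smul, hq0 hdd, smul_zero]) (by rw [QuadraticMap.map_smul, hq0 hyy, smul_zero])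
    (by rw [QuadraticMap.polar_smul_left, smul_eq_mul, inv_mul_cancel₀ hkd])
    (by rw [QuadraticMap.polar_smul_left, smul_eq_mul, inv_mul_cancel₀ hky])
  have hγ := OrthEich.eich_mem hq hn' hk h1
  set γ := eich q k ((QuadraticMap.polar q y k)⁻¹ • y - (QuadraticMap.polar q d k)⁻¹ • d)
  have h3 : mt (D.phiO E γ) *ᵥ D.coord ((QuadraticMap.polar q d k)⁻¹ • d) l =
      D.coord ((QuadraticMap.polar q y k)⁻¹ • y) l := by
    rw [D.mt_phiO E, D.phi_coord E _ _ hl, ← app_apply, h2]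
  have h4 : D.coord ((QuadraticMap.polar q d k)⁻¹ • d) l ∈ Symp.centres f X := by
    rw [D.smul_coord]; exact Symp.centres_smul hf h _
  have h5 := Symp.centres_invariant hf (hΩ hγ) (D.phiO_iso E γ) h4
  rw [h3, D.smul_coord] at h5
  have h6 := Symp.centres_smul hf h5 (QuadraticMap.polar q y k)
  rwa [smul_inv_smul₀ hky] at h6

set_option maxHeartbeats 1000000 in
/-- Every vector is a transvection centre. -/
theorem centres_all (p : ℕ) [Fact p.Prime] [CharP F p] (hgen : D.U ⊔ D.W ⊔ Submodule.span (ZMod 2) {u, e} = ⊤) :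
    ∀ v, v ∈ Symp.centres f X := by
  classical
  obtain ⟨d, l₀, hd, hdd, hl₀, hl₀0, hw⟩ :=
    D.exists_centre E hR hXG hG2 hu he hue hUu hUe hWu hWe hΩ hn hW3 hf h2L p
  have orb := fun {d' : Fin D.n → F} {l : ι → F} (a : d' ≠ 0) (b : d' ⬝ᵥ d' = 0) (c : l ∈ D.L0)
    (h : D.coord d' l ∈ Symp.centres f X) {y : Fin D.n → F} (a' : y ≠ 0) (b' : y ⬝ᵥ y = 0) =>
    D.centre_orbit E hR hXG hG2 hu he hue hUu hUe hWu hWe hΩ hn hW3 hf h2L a b c h a' b'
  obtain ⟨cI1, cI2⟩ := D.commute_of_perp E hUu hWu (PM.refl (r u))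
  obtain ⟨cJ1, cJ2⟩ := D.commute_of_perp E hUe hWe (PM.refl (r e))
  -- a second fixed vector
  obtain ⟨m, hm, hlm, hmc⟩ : ∃ m ∈ D.L0, f l₀ m ≠ 0 ∧ D.coord d m ∈ Symp.centres f X := by
    have key : ∀ (t : V) (c1 : ∀ x, Commute (mt (r t)) (mt (D.χ x))) (c2 : ∀ x, Commute (mt (r t)) (mt (D.τ x))),
        f l₀ (mt (r t) *ᵥ l₀) ≠ 0 → ∃ m ∈ D.L0, f l₀ m ≠ 0 ∧ D.coord d m ∈ Symp.centres f X := fun t c1 c2 h =>
      ⟨_, D.mem_L0_of_commute E c1 hl₀, h, by
        rw [← D.coord_commute c2]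
        exact Symp.centres_invariant hf (hR (E.r_mem_R t)) (E.r_iso t) hw⟩
    by_cases hI : f l₀ (mt (r u) *ᵥ l₀) = 0
    swap
    · exact key u cI1 cI2 hI
    by_cases hJ : f l₀ (mt (r e) *ᵥ l₀) = 0
    swap
    · exact key e cJ1 cJ2 hJ
    exfalso
    obtain ⟨y, hy⟩ := (hf.nondegenerate l₀ hl₀0).2
    have hy' : f l₀ (D.P0 *ᵥ y) ≠ 0 := by rwa [← D.adj_P0 E, (D.mem_L0 E).1 hl₀]
    have line : ∀ {m}, m ∈ D.L0 → f l₀ m = 0 → ∃ s : F, m = s • l₀ := fun {m} hm h0 => by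
      obtain ⟨s, t, hst⟩ := D.L0_span E hf h2L hl₀ (D.P0_mem E y) hy' hm
      rw [hst, Symp.add_right hf, Symp.smul_right hf, Symp.smul_right hf, hf.alternating, mul_zero, zero_add] at h0
      exact ⟨s, by rw [hst, (mul_eq_zero.1 h0).resolve_right hy', zero_smul, add_zero]⟩
    obtain ⟨s, hs⟩ := line (D.mem_L0_of_commute E cI1 hl₀) hI
    obtain ⟨t, ht⟩ := line (D.mem_L0_of_commute E cJ1 hl₀) hJ
    have h1 : (mt (r u) * mt (r e)) *ᵥ l₀ = -((mt (r e) * mt (r u)) *ᵥ l₀) := by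
      rw [← neg_mulVec]; exact congrArg (fun g => mt g *ᵥ l₀) (E.r_comm1 hue)
    rw [← mulVec_mulVec, ← mulVec_mulVec, ht, hs, mulVec_smul, mulVec_smul, hs, ht, smul_smul, smul_smul,
      mul_comm s t, eq_neg_iff_add_eq_zero, ← add_smul, ← two_mul, smul_eq_zero] at h1
    have hst := (mul_eq_zero.1 (h1.resolve_right hl₀0)).resolve_left E.two
    rcases mul_eq_zero.1 hst with rfl | rfl
    · rw [zero_smul] at ht
      exact hl₀0 (gl_mulVec_injective (r e) (by simp [ht]))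
    · rw [zero_smul] at hs
      exact hl₀0 (gl_mulVec_injective (r u) (by simp [hs]))
  have hml : f m l₀ ≠ 0 := Symp.ne_zero_comm hf hlm
  have hn' : 7 ≤ Fintype.card (Fin D.n) := by rw [Fintype.card_fin]; exact hn
  have hq := (frame0 (F := F) E.two D.n).nondeg
  have link : ∀ {c c' : Fin D.n → F}, c ≠ 0 → c ⬝ᵥ c = 0 → c' ≠ 0 → c' ⬝ᵥ c' = 0 →
      ∃ y, y ≠ 0 ∧ y ⬝ᵥ y = 0 ∧ c ⬝ᵥ y ≠ 0 ∧ c' ⬝ᵥ y ≠ 0 := by
    intro c c' hc hcc hc' hcc'
    have hq0 : ∀ {c : Fin D.n → F}, c ⬝ᵥ c = 0 → sq0 F D.n c = 0 := fun {c} hc => by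
      have h := CfsgLib.Orth.polar_self' (Q := sq0 F D.n) c
      rw [polar_sq0, hc, mul_zero, eq_comm] at h
      exact (mul_eq_zero.1 h).resolve_left E.two
    obtain ⟨y, hy, hy1, hy2⟩ := OrthEich.exists_link hq hn' (hq0 hcc) hc (hq0 hcc') hc'
    rw [polar_sq0, dotProduct_comm] at hy1 hy2
    have h := CfsgLib.Orth.polar_self' (Q := sq0 F D.n) y
    rw [polar_sq0, hy, mul_zero] at h
    exact ⟨y, fun e0 => hy1 (by rw [e0, dotProduct_zero, mul_zero]), (mul_eq_zero.1 h).resolve_left E.two,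
      right_ne_zero_of_mul hy1, right_ne_zero_of_mul hy2⟩
  set w := D.coord d l₀ with hwdef
  -- linked vectors of product shape
  have linked : ∀ {c : Fin D.n → F} {l : ι → F}, c ≠ 0 → c ⬝ᵥ c = 0 → l ∈ D.L0 → l ≠ 0 →
      Linked f X w (D.coord c l) := by
    intro c l hc hcc hl hl0
    by_cases hlm' : f l m = 0
    swap
    · obtain ⟨y, hy0, hyy, hy1, hy2⟩ := link hd hdd hc hcc
      refine ⟨_, orb hd hdd hm hmc hy0 hyy, ?_, ?_⟩
      · rw [hwdef, D.form_coord E _ _ hl₀ hm]; exact mul_ne_zero hy1 hlm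
      · rw [D.form_coord E _ _ hl hm]; exact mul_ne_zero hy2 hlm'
    have hll : f l l₀ ≠ 0 := by
      obtain ⟨s, t, hst⟩ := D.L0_span E hf h2L hl₀ hm hlm hl
      rw [hst, Symp.add_left hf, Symp.smul_left hf, Symp.smul_left hf, hf.alternating, mul_zero, add_zero] at hlm'
      have hs := (mul_eq_zero.1 hlm').resolve_right hlm
      rw [hs, zero_smul, zero_add] at hst
      rw [hst, Symp.smul_left hf]
      exact mul_ne_zero (fun t0 => hl0 (by rw [hst, t0, zero_smul])) hml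
    obtain ⟨y, hy0, hyy, hy1, -⟩ := link hc hcc hc hcc
    obtain ⟨y', hy0', hyy', hy1', hy2'⟩ := link hy0 hyy hd hdd
    obtain ⟨z, hz, h1, h2⟩ := linked_step hf E.two (a := D.coord c l) (c := w) (orb hd hdd hl₀ hw hy0 hyy)
      (by rw [D.form_coord E _ _ hl hl₀]; exact mul_ne_zero hy1 hll)
      ⟨_, orb hd hdd hm hmc hy0' hyy', by rw [D.form_coord E _ _ hl₀ hm]; exact mul_ne_zero hy1' hlm,
        by rw [hwdef, D.form_coord E _ _ hl₀ hm]; exact mul_ne_zero hy2' hlm⟩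
    exact ⟨z, hz, h2, h1⟩
  -- the shape is preserved
  let shape : (ι → F) → Prop := fun x => ∃ (c : Fin D.n → F) (l : ι → F),
    c ≠ 0 ∧ c ⬝ᵥ c = 0 ∧ l ∈ D.L0 ∧ l ≠ 0 ∧ x = D.coord c l
  have hmon : ∀ {g : GL ι F} {A : Matrix (Fin D.n) (Fin D.n) F}, Symp.IsIsometry f g → mt g = D.phi A →
      ∀ x, shape x → shape (mt g *ᵥ x) := by
    rintro g A hg hA x ⟨c, l, hc, hcc, hl, hl0, rfl⟩
    obtain ⟨γ, hγA, -⟩ := D.exists_phiO E hg hA
    have hAA : Aᵀ * A = 1 := hγA ▸ transpose_mul_self_O E.two γ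
    refine ⟨A *ᵥ c, l, fun e0 => hc ?_, ?_, hl, hl0, by rw [hA, D.phi_coord E _ _ hl]⟩
    · rw [← one_mulVec c, ← hAA, ← mulVec_mulVec, e0, mulVec_zero]
    · rw [dotProduct_mulVec, ← mulVec_transpose, mulVec_mulVec, hAA, one_mulVec, hcc]
  have hquat : ∀ (t : V), (∀ x, Commute (mt (r t)) (mt (D.χ x))) → (∀ x, Commute (mt (r t)) (mt (D.τ x))) →
      ∀ x, shape x → shape (mt (r t) *ᵥ x) := by
    rintro t c1 c2 x ⟨c, l, hc, hcc, hl, hl0, rfl⟩
    exact ⟨c, mt (r t) *ᵥ l, hc, hcc, D.mem_L0_of_commute E c1 hl,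
      fun e0 => hl0 (gl_mulVec_injective (r t) (by simp [e0])), D.coord_commute c2 c l⟩
  have hneg : ∀ {g h : GL ι F}, PM g h → (∀ x, shape x → shape (mt h *ᵥ x)) → ∀ x, shape x → shape (mt g *ᵥ x) := by
    rintro g h (rfl | rfl) hh x hx
    · exact hh x hx
    · obtain ⟨c, l, hc, hcc, hl, hl0, e0⟩ := hh x hx
      exact ⟨c, -l, hc, hcc, D.L0.neg_mem hl, neg_ne_zero.2 hl0, by
        rw [mt_neg, neg_mulVec, e0, ← neg_one_smul F l, D.coord_smul, neg_one_smul]⟩
  let Y : Submodule (ZMod 2) V :=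
    { carrier := {v | ∀ x, shape x → shape (mt (r v) *ᵥ x)}
      add_mem' := fun {a b} ha hb => hneg (E.r_add a b).symm fun x hx => by
        rw [Units.val_mul, ← mulVec_mulVec]; exact ha _ (hb x hx)
      zero_mem' := fun x hx => by rwa [E.r_zero, Units.val_one, one_mulVec]
      smul_mem' := fun s a ha => by
        rcases z2 s with rfl | rfl
        · rw [zero_smul]; exact fun x hx => by rwa [E.r_zero, Units.val_one, one_mulVec]
        · rwa [one_smul] }
  have hY : ∀ v, v ∈ Y := by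
    intro v
    have hv : v ∈ D.U ⊔ D.W ⊔ Submodule.span (ZMod 2) {u, e} := by rw [hgen]; trivial
    refine (sup_le (sup_le (fun x hx => ?_) fun x hx => ?_) (Submodule.span_le.2 ?_) :
      D.U ⊔ D.W ⊔ Submodule.span (ZMod 2) {u, e} ≤ Y) hv
    · refine hneg (D.χ_pm ⟨x, hx⟩).symm (hmon ?_ (D.phi_χ E ⟨x, hx⟩).symm)
      exact E.gIso _ (hXG (hR ⟨x, D.χ_pm ⟨x, hx⟩⟩))
    · refine hneg (D.τ_pm ⟨x, hx⟩).symm (hmon ?_ (D.phi_τ E ⟨x, hx⟩).symm)
      exact E.gIso _ (hXG (hR ⟨x, D.τ_pm ⟨x, hx⟩⟩))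
    · rintro x (rfl | rfl)
      · exact hquat _ cI1 cI2
      · exact hquat _ cJ1 cJ2
  have hwshape : shape w := ⟨d, l₀, hd, hdd, hl₀, hl₀0, rfl⟩
  have hlinked : ∀ {x}, shape x → Linked f X w x := by
    rintro x ⟨c, l, hc, hcc, hl, hl0, rfl⟩
    exact linked hc hcc hl hl0
  refine centres_top hf E.two (Set.range r) (fun g hg => ?_) (fun g hg => ?_)
    (fun W hW => E.irred W fun a x hx => hW _ ⟨a, rfl⟩ x hx) hw (fun e0 => ?_) (hlinked hwshape) fun g hg => ?_
  · obtain ⟨a, rfl⟩ := hg; exact hR (E.r_mem_R a)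
  · obtain ⟨a, rfl⟩ := hg; exact E.r_iso a
  · obtain ⟨z, -, hz, -⟩ := hlinked hwshape
    rw [e0, Symp.zero_left hf] at hz
    exact hz rfl
  · obtain ⟨a, rfl⟩ := hg
    exact hlinked (hY a w hwshape)

end Imp

end CfsgLib.ExtraTypeMax
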