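import Cfsg.Agent.Lib.ExtraTypeMax.Build
import Cfsg.Agent.Lib.ExtraTypeMax.Dichotomy
import Cfsg.Agent.Lib.ExtraTypeMax.SympCentres

/-!
The normalizer of an extraspecial group of minus type is maximal in the symplectic group.
-/

set_option autoImplicit false
set_option linter.unusedSectionVars false

namespace CfsgLib.ExtraTypeMax

open Matrix Module CfsgLib.GeomClasses

variable {F : Type*} [Field F] [Fintype F] {V : Type*} [AddCommGroup V] [Module (ZMod 2) V]
  [FiniteDimensional (ZMod 2) V]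

theorem QS.span_pair_disjoint (S : QS V) {u e : V} (hue : S.B u e = 1) :
    S.lperp [u, e] ⊓ Submodule.span (ZMod 2) ({u, e} : Set V) = ⊥ := by
  refine (Submodule.eq_bot_iff _).2 fun x hx => ?_
  obtain ⟨hxW, hxs⟩ := hx
  obtain ⟨s, t, rfl⟩ := Submodule.mem_span_pair.1 hxs
  have a1 := S.mem_lperp.1 hxW u (by simp)
  have a2 := S.mem_lperp.1 hxW e (by simp)
  simp [S.B_self, hue, S.B_comm e u] at a1 a2
  simp [a1, a2]

theorem maximal_minus {m : ℕ} (hm : 7 ≤ m) (p k : ℕ) (hp : p.Prime) (hpo : Odd p) (hF : Fintype.card F = p)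
    {R : Subgroup (GL (Fin m ⊕ Fin m) F)} (hR : Cfsg.Geo.IsSymplecticTypeGroup 2 R)
    (hirr : Cfsg.Geo.ActsAbsolutelyIrreducibly (Cfsg.Geo.matrixSet R)) (hRD : R ≤ Cfsg.spGL m F)
    (hcard : Nat.card R = 2 ^ (1 + 2 * k)) (hZ : Nat.card (Subgroup.center R) = 2)
    (hminus : Cfsg.Geo.IsOfMinusType k R) :
    Cfsg.Geo.IsMaximalIn (Cfsg.spGL m F) (Cfsg.Geo.subgroupNormalizer R ⊓ Cfsg.spGL m F) := by
  classical
  have : Fact p.Prime := ⟨hp⟩
  have : CharP F p := by
    obtain ⟨c, hc⟩ := CharP.exists F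
    obtain ⟨e, hc', he⟩ := FiniteField.card F c
    rw [hF] at he
    have h0 : p ∣ c ^ (e : ℕ) := he ▸ dvd_refl p
    rw [((Nat.dvd_prime hc').1 (hp.dvd_of_dvd_pow h0)).resolve_left hp.ne_one]
    exact hc
  have hcardF : Nat.card F = p := by rw [Nat.card_eq_fintype_card, hF]
  have h2 : (2 : F) ≠ 0 := fun h => by
    have h' : ((2 : ℕ) : F) = 0 := by exact_mod_cast h
    rw [CharP.cast_eq_zero_iff F p, Nat.prime_dvd_prime_iff_eq hp Nat.prime_two] at h'
    subst h'
    exact absurd hpo (by decide)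
  set f := Cfsg.sympForm m F with hfdef
  have hf : Cfsg.Geo.IsSymplecticForm f := Symp.isSymplecticForm_sympForm m
  have hι' : Fintype.card (Fin m ⊕ Fin m) = 2 * m := by rw [Fintype.card_sum, Fintype.card_fin]; ring
  obtain ⟨S, r, E, hER, hι⟩ := build h2 (by omega) (by omega) hR hirr hcard hZ f hf.bilinear hf.nondegenerate
    (fun g hg => Symp.mem_spGL.1 (hRD hg)) (G := Cfsg.spGL m F) (fun g hg => Symp.mem_spGL.1 hg)
    (fun g hg => Symp.mem_spGL.2 (Symp.isometry_mul hg hg))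
  subst hER
  have hk : 4 ≤ k := by
    by_contra h
    push Not at h
    have : 2 ^ k ≤ 2 ^ 3 := Nat.pow_le_pow_right two_pos (by omega)
    omega
  have hV : finrank (ZMod 2) (Fin (2 * k) → ZMod 2) = 2 * k := Module.finrank_fin_fun _
  refine ⟨lt_of_le_of_ne inf_le_right fun he => ?_, fun X hle hXG => ?_⟩
  · have hG : Cfsg.spGL m F ≤ Subgroup.normalizer (E.R : Set (GL (Fin m ⊕ Fin m) F)) := he.symm.le.trans inf_le_left
    set v : Fin m ⊕ Fin m → F := Pi.single (Sum.inl ⟨0, by omega⟩) 1 with hv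
    have hv0 : v ≠ 0 := fun e0 => by
      have := congrFun e0 (Sum.inl ⟨0, by omega⟩)
      rw [hv, Pi.single_eq_same] at this
      exact one_ne_zero this
    obtain ⟨y, hy⟩ := (hf.nondegenerate v hv0).1
    refine E.not_normal (γ := formTv f v 1) (Symp.formTv_mem_spGL m v 1) (fun e0 => ?_)
      (Symp.perp hf (Submodule.span F {v})) (fun x hx => ?_) ?_ hG
    · have h := Symp.formTv_mulVec hf v 1 y
      rw [e0, Units.val_one, one_mulVec, left_eq_add, smul_eq_zero, one_mul] at h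
      exact (h.resolve_right hv0 |> hy)
    · rw [Symp.formTv_mulVec hf, (Symp.mem_perp' hf).1 hx v (Submodule.mem_span_singleton_self v)]
      simp
    · have h1 := Symp.finrank_perp hf (Submodule.span F {v})
      rw [finrank_span_singleton hv0] at h1
      omega
  by_cases hXM : X ≤ E.M
  · exact Or.inl (le_antisymm hXM hle)
  right
  have hMX : E.M ≤ X := hle
  have hG2 := E.gate2_of_not_le hMX hXG hXM
  have hno : ∀ U : Submodule (ZMod 2) (Fin (2 * k) → ZMod 2), S.TS U → finrank (ZMod 2) U < k := fun U hU => by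
    obtain ⟨A, hA, hsq, hAc⟩ := E.exists_elementary hU
    have := hminus A hA hsq
    rw [hAc, Nat.pow_lt_pow_iff_right (by norm_num)] at this
    omega
  obtain ⟨u, e, U, W, hu, he, hue, hU, hW, hUd, hWd, hUp, hWp, hdis⟩ := S.exists_minus hV (by omega) hno
  have perpu : ∀ {Y : Submodule (ZMod 2) (Fin (2 * k) → ZMod 2)}, Y ≤ S.lperp [u, e] →
      (∀ x ∈ Y, S.B x u = 0) ∧ ∀ x ∈ Y, S.B x e = 0 := fun h =>
    ⟨fun x hx => by rw [S.B_comm]; exact S.mem_lperp.1 (h hx) u (by simp),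
      fun x hx => by rw [S.B_comm]; exact S.mem_lperp.1 (h hx) e (by simp)⟩
  have hgen : U ⊔ W ⊔ Submodule.span (ZMod 2) ({u, e} : Set (Fin (2 * k) → ZMod 2)) = ⊤ := by
    refine Submodule.eq_top_of_finrank_eq (le_antisymm (Submodule.finrank_le _) ?_)
    have h1 := Submodule.finrank_sup_add_finrank_inf_eq U W
    rw [hdis, finrank_bot] at h1
    have h3 := Submodule.finrank_sup_add_finrank_inf_eq (U ⊔ W)
      (Submodule.span (ZMod 2) ({u, e} : Set (Fin (2 * k) → ZMod 2)))
    have h4 : (U ⊔ W) ⊓ Submodule.span (ZMod 2) ({u, e} : Set (Fin (2 * k) → ZMod 2)) = ⊥ :=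
      le_bot_iff.1 ((inf_le_inf_right _ (sup_le hUp hWp)).trans (le_of_eq (S.span_pair_disjoint hue)))
    rw [h4, finrank_bot] at h3
    have h5 : finrank (ZMod 2) (Submodule.span (ZMod 2) ({u, e} : Set (Fin (2 * k) → ZMod 2))) = 2 := by
      have hli : LinearIndependent (ZMod 2) ![u, e] := by
        rw [LinearIndependent.pair_iff]
        intro s t hst
        have a1 := congrArg (S.B u) hst
        have a2 := congrArg (S.B e) hst
        simp [S.B_self, hue, S.B_comm e u] at a1 a2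
        exact ⟨a2, a1⟩
      have := finrank_span_eq_card hli
      rw [Matrix.range_cons, Matrix.range_cons, Matrix.range_empty, Set.union_empty, Set.singleton_union,
        Fintype.card_fin] at this
      exact this
    omega
  obtain ⟨D, hDU, hDW⟩ := exists_imp E hU hW (hUd.trans hWd.symm) fun x hx hx' => S.nondeg x fun z => by
    have hz : z ∈ U ⊔ W ⊔ Submodule.span (ZMod 2) ({u, e} : Set (Fin (2 * k) → ZMod 2)) := by rw [hgen]; trivial
    have key : U ⊔ W ⊔ Submodule.span (ZMod 2) ({u, e} : Set (Fin (2 * k) → ZMod 2)) ≤ LinearMap.ker (S.B x) :=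
      sup_le (sup_le (fun y hy => LinearMap.mem_ker.2 (by rw [S.B_comm]; exact hx' y hy))
        fun y hy => LinearMap.mem_ker.2 (hW.B_eq hx hy)) (Submodule.span_le.2 (by
          rintro y (rfl | rfl)
          · exact LinearMap.mem_ker.2 ((perpu hWp).1 x hx)
          · exact LinearMap.mem_ker.2 ((perpu hWp).2 x hx)))
    exact LinearMap.mem_ker.1 (key hz)
  have hn : D.n = 2 ^ (k - 1) := by rw [D.n_eq, hDW, hWd]
  have hn7 : 7 ≤ D.n := by
    have : 2 ^ 3 ≤ 2 ^ (k - 1) := Nat.pow_le_pow_right two_pos (by omega)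
    omega
  have h2L : finrank F D.L0 = 2 := by
    have h := D.card_eq E
    have hpk : 2 ^ k = 2 ^ (k - 1) * 2 := by rw [← pow_succ]; congr 1; omega
    rw [hι, hn, hpk] at h
    exact (Nat.eq_of_mul_eq_mul_left (by positivity) h).symm
  have hR' : E.R ≤ X := E.R_le_M.trans hMX
  have hW3 : 3 ≤ finrank (ZMod 2) D.W := by rw [hDW, hWd]; omega
  have hΩ := D.omega_le E hR' hXG hG2 p hcardF hW3
  refine Symp.eq_spGL_of_centres hXG (D.centres_all E hR' hXG hG2 hu he hue ?_ ?_ ?_ ?_ hΩ hn7 hW3 hf h2L p ?_)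
  · rw [hDU]; exact (perpu hUp).1
  · rw [hDU]; exact (perpu hUp).2
  · rw [hDW]; exact (perpu hWp).1
  · rw [hDW]; exact (perpu hWp).2
  · rw [hDU, hDW]; exact hgen

end CfsgLib.ExtraTypeMax
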