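import Cfsg.Agent.Lib.ExtraTypeMax.Setting
import Cfsg.Agent.Lib.ExtraTypeMax.Block
import Cfsg.Prelude.Def_GeometricClasses

/-!
Totally singular subspaces of the quadratic space, their commuting lifts, and the two types.
-/

set_option autoImplicit false
set_option linter.unusedSectionVars false

namespace CfsgLib.ExtraTypeMax

open Matrix Module CfsgLib.GeomClasses

variable {V : Type*} [AddCommGroup V] [Module (ZMod 2) V]

namespace QS

variable (S : QS V)

/-- A totally singular subspace. -/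
def TS (U : Submodule (ZMod 2) V) : Prop := ∀ x ∈ U, S.Q x = 0

variable {S}

theorem TS.B_eq {U : Submodule (ZMod 2) V} (h : S.TS U) {x y : V} (hx : x ∈ U) (hy : y ∈ U) : S.B x y = 0 := by
  have := S.Q_add x y
  rwa [h x hx, h y hy, h _ (U.add_mem hx hy), zero_add, zero_add, eq_comm] at this

theorem TS.le_perp {U : Submodule (ZMod 2) V} (h : S.TS U) : U ≤ S.perp U := fun _ hx _ hy => h.B_eq hy hx

theorem TS.sup_span {U : Submodule (ZMod 2) V} (h : S.TS U) {v : V} (hv : S.Q v = 0) (hB : v ∈ S.perp U) :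
    S.TS (U ⊔ Submodule.span (ZMod 2) {v}) := by
  intro x hx
  obtain ⟨a, ha, b, hb, rfl⟩ := Submodule.mem_sup.1 hx
  obtain ⟨s, rfl⟩ := Submodule.mem_span_singleton.1 hb
  rw [S.Q_add, h a ha, S.Q_smul, hv, map_smul, hB a ha, mul_zero, smul_zero, zero_add, add_zero]

theorem perp_sup (U W : Submodule (ZMod 2) V) : S.perp (U ⊔ W) = S.perp U ⊓ S.perp W := by
  refine le_antisymm (fun x hx => ⟨fun y hy => hx y (Submodule.mem_sup_left hy),
    fun y hy => hx y (Submodule.mem_sup_right hy)⟩) fun x hx y hy => ?_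
  obtain ⟨a, ha, b, hb, rfl⟩ := Submodule.mem_sup.1 hy
  show S.B (a + b) x = 0
  rw [map_add, LinearMap.add_apply, show S.B a x = 0 from hx.1 a ha, show S.B b x = 0 from hx.2 b hb, add_zero]

variable [FiniteDimensional (ZMod 2) V]

theorem TS.finrank_le {U : Submodule (ZMod 2) V} (h : S.TS U) :
    2 * finrank (ZMod 2) U ≤ finrank (ZMod 2) V := by
  have h1 := Submodule.finrank_mono h.le_perp
  have h2 := S.finrank_perp U
  omega

theorem TS.perp_eq {U : Submodule (ZMod 2) V} (h : S.TS U)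
    (hd : 2 * finrank (ZMod 2) U = finrank (ZMod 2) V) : S.perp U = U :=
  (Submodule.eq_of_le_of_finrank_eq h.le_perp (by have := S.finrank_perp U; omega)).symm

theorem finrank_sup_singleton {U : Submodule (ZMod 2) V} {v : V} (hv : v ∉ U) :
    finrank (ZMod 2) ↥(U ⊔ Submodule.span (ZMod 2) {v}) = finrank (ZMod 2) U + 1 := by
  have hv0 : v ≠ 0 := fun e => hv (e ▸ U.zero_mem)
  have h1 := Submodule.finrank_sup_add_finrank_inf_eq U (Submodule.span (ZMod 2) {v})
  have h2 : U ⊓ Submodule.span (ZMod 2) {v} = ⊥ := (Submodule.eq_bot_iff _).2 fun x hx => by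
    obtain ⟨hxU, hxs⟩ := hx
    obtain ⟨s, rfl⟩ := Submodule.mem_span_singleton.1 hxs
    rcases z2 s with rfl | rfl
    · simp
    · exact absurd (by simpa using hxU) hv
  rw [h2, finrank_bot, finrank_span_singleton hv0] at h1
  omega

/-- A complement of a maximal totally singular subspace. -/
theorem exists_compl {E : Submodule (ZMod 2) V} (hE : S.TS E)
    (hd : 2 * finrank (ZMod 2) E = finrank (ZMod 2) V) :
    ∃ T : Submodule (ZMod 2) V, S.TS T ∧ finrank (ZMod 2) T = finrank (ZMod 2) E ∧ E ⊓ T = ⊥ := by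
  suffices H : ∀ j, j ≤ finrank (ZMod 2) E → ∃ T : Submodule (ZMod 2) V, S.TS T ∧ finrank (ZMod 2) T = j ∧ E ⊓ T = ⊥
    from H _ le_rfl
  intro j
  induction j with
  | zero => exact fun _ => ⟨⊥, fun x hx => by rw [(Submodule.mem_bot _).1 hx, S.Q_zero], finrank_bot _ _, inf_bot_eq E⟩
  | succ j ih =>
    intro hj
    obtain ⟨T, hT, hTj, hdis⟩ := ih (by omega)
    have hET : finrank (ZMod 2) ↥(E ⊔ T) = finrank (ZMod 2) E + j := by
      have := Submodule.finrank_sup_add_finrank_inf_eq E T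
      rw [hdis, finrank_bot] at this
      omega
    obtain ⟨v, hv, hvET⟩ : ∃ v ∈ S.perp T, v ∉ E ⊔ T := SetLike.not_le_iff_exists.1 fun hle => by
      have h1 : S.perp (E ⊔ T) ≤ T := fun x hx => by
        rw [← S.perp_perp T]
        exact fun y hy => hx y (hle hy)
      have h2 : S.perp (E ⊔ T) = ⊥ := (Submodule.eq_bot_iff _).2 fun x hx => by
        refine (Submodule.eq_bot_iff _).1 hdis x ⟨?_, h1 hx⟩
        rw [← hE.perp_eq hd]
        exact fun y hy => hx y (Submodule.mem_sup_left hy)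
      have h3 := S.finrank_perp (E ⊔ T)
      rw [h2, finrank_bot] at h3
      omega
    obtain ⟨w, hw, hwET, hQ⟩ : ∃ w ∈ S.perp T, w ∉ E ⊔ T ∧ S.Q w = 0 := by
      rcases z2 (S.Q v) with h | h
      · exact ⟨v, hv, hvET, h⟩
      obtain ⟨e, ⟨heE, heT⟩, hve⟩ : ∃ e ∈ E ⊓ S.perp T, S.B e v = 1 := by
        by_contra hc
        push Not at hc
        have hv' : v ∈ S.perp (E ⊓ S.perp T) := fun y hy => z2_ne_one.1 (hc y hy)
        rw [show E ⊓ S.perp T = S.perp (E ⊔ T) by rw [perp_sup, hE.perp_eq hd], S.perp_perp] at hv'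
        exact hvET hv'
      refine ⟨v + e, (S.perp T).add_mem hv heT, fun hm => hvET ?_, ?_⟩
      · have := (E ⊔ T).add_mem hm (Submodule.mem_sup_left (T := T) heE)
        rwa [add_assoc, v_add_self, add_zero] at this
      · rw [S.Q_add, h, hE e heE, S.B_comm, hve, add_zero, CharTwo.add_self_eq_zero]
    refine ⟨T ⊔ Submodule.span (ZMod 2) {w}, hT.sup_span hQ hw, ?_, ?_⟩
    · rw [finrank_sup_singleton fun h => hwET (Submodule.mem_sup_right h), hTj]
    · refine (Submodule.eq_bot_iff _).2 fun x hx => ?_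
      obtain ⟨hxE, hxT⟩ := hx
      obtain ⟨a, ha, b, hb, rfl⟩ := Submodule.mem_sup.1 hxT
      obtain ⟨s, rfl⟩ := Submodule.mem_span_singleton.1 hb
      rcases z2 s with rfl | rfl
      · rw [zero_smul, add_zero] at hxE ⊢
        exact (Submodule.eq_bot_iff _).1 hdis a ⟨hxE, ha⟩
      · refine absurd ?_ hwET
        have := (E ⊔ T).add_mem (Submodule.mem_sup_left (T := T) hxE) (Submodule.mem_sup_right (S := E) ha)
        rwa [one_smul, add_right_comm, v_add_self, zero_add] at this

/-- A totally singular subspace missing at most one dimension of half the space. -/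
theorem exists_ts_large (S : QS V) :
    ∃ U : Submodule (ZMod 2) V, S.TS U ∧ finrank (ZMod 2) V ≤ 2 * finrank (ZMod 2) U + 2 := by
  suffices H : ∀ j, 2 * j ≤ finrank (ZMod 2) V → 2 * j + 2 ≤ finrank (ZMod 2) V + 1 →
      ∃ U : Submodule (ZMod 2) V, S.TS U ∧ (finrank (ZMod 2) V ≤ 2 * finrank (ZMod 2) U + 2 ∨
        finrank (ZMod 2) U = j) by
    obtain ⟨m, hm⟩ := S.even_finrank
    rcases Nat.eq_zero_or_pos m with rfl | hm0
    · exact ⟨⊥, fun x hx => by rw [(Submodule.mem_bot _).1 hx, S.Q_zero], by omega⟩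
    · obtain ⟨U, hU, h⟩ := H (m - 1) (by omega) (by omega)
      exact ⟨U, hU, by omega⟩
  intro j
  induction j with
  | zero => exact fun _ _ => ⟨⊥, fun x hx => by rw [(Submodule.mem_bot _).1 hx, S.Q_zero], Or.inr (finrank_bot _ _)⟩
  | succ j ih =>
    intro h1 h2
    obtain ⟨U, hU, hle | hj⟩ := ih (by omega) (by omega)
    · exact ⟨U, hU, Or.inl hle⟩
    have hp := S.finrank_perp U
    obtain ⟨a, ha, haU⟩ : ∃ a ∈ S.perp U, a ∉ U := SetLike.not_le_iff_exists.1 fun hle => by
      have := Submodule.finrank_mono hle; omega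
    have hUa := finrank_sup_singleton haU
    obtain ⟨b, hb, hbU⟩ : ∃ b ∈ S.perp U, b ∉ U ⊔ Submodule.span (ZMod 2) {a} :=
      SetLike.not_le_iff_exists.1 fun hle => by have := Submodule.finrank_mono hle; omega
    have hUb := finrank_sup_singleton hbU
    obtain ⟨c, hc, hcU⟩ : ∃ c ∈ S.perp U,
        c ∉ U ⊔ Submodule.span (ZMod 2) {a} ⊔ Submodule.span (ZMod 2) {b} :=
      SetLike.not_le_iff_exists.1 fun hle => by have := Submodule.finrank_mono hle; omega
    have haU' : a ∈ U ⊔ Submodule.span (ZMod 2) {a} :=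
      Submodule.mem_sup_right (Submodule.mem_span_singleton_self a)
    have hbU' : b ∈ U ⊔ Submodule.span (ZMod 2) {a} ⊔ Submodule.span (ZMod 2) {b} :=
      Submodule.mem_sup_right (Submodule.mem_span_singleton_self b)
    have haU'' : a ∈ U ⊔ Submodule.span (ZMod 2) {a} ⊔ Submodule.span (ZMod 2) {b} := Submodule.mem_sup_left haU'
    obtain ⟨v, hv, hvU, hQ⟩ : ∃ v ∈ S.perp U, v ∉ U ∧ S.Q v = 0 := by
      rcases z2 (S.Q a) with qa | qa
      · exact ⟨a, ha, haU, qa⟩
      rcases z2 (S.Q b) with qb | qb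
      · exact ⟨b, hb, fun h => hbU (Submodule.mem_sup_left h), qb⟩
      rcases z2 (S.Q c) with qc | qc
      · exact ⟨c, hc, fun h => hcU (Submodule.mem_sup_left (Submodule.mem_sup_left h)), qc⟩
      have hab : a + b ∉ U := fun h => hbU (by
        have := Submodule.add_mem _ haU' (Submodule.mem_sup_left (T := Submodule.span (ZMod 2) {a}) h)
        rwa [v_add_add_cancel] at this)
      have hac : a + c ∉ U := fun h => hcU (by
        have := Submodule.add_mem _ haU'' (Submodule.mem_sup_left (T := Submodule.span (ZMod 2) {b})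
          (Submodule.mem_sup_left (T := Submodule.span (ZMod 2) {a}) h))
        rwa [v_add_add_cancel] at this)
      have hbc : b + c ∉ U := fun h => hcU (by
        have := Submodule.add_mem _ hbU' (Submodule.mem_sup_left (T := Submodule.span (ZMod 2) {b})
          (Submodule.mem_sup_left (T := Submodule.span (ZMod 2) {a}) h))
        rwa [v_add_add_cancel] at this)
      have habc : a + b + c ∉ U := fun h => hcU (by
        have := Submodule.add_mem _ (Submodule.add_mem _ haU'' hbU') (Submodule.mem_sup_left (T := Submodule.span (ZMod 2) {b})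
          (Submodule.mem_sup_left (T := Submodule.span (ZMod 2) {a}) h))
        rwa [v_add_add_cancel] at this)
      rcases z2 (S.B a b) with x | x
      · exact ⟨a + b, add_mem ha hb, hab, by rw [S.Q_add, qa, qb, x]; decide⟩
      rcases z2 (S.B a c) with y | y
      · exact ⟨a + c, add_mem ha hc, hac, by rw [S.Q_add, qa, qc, y]; decide⟩
      rcases z2 (S.B b c) with z | z
      · exact ⟨b + c, add_mem hb hc, hbc, by rw [S.Q_add, qb, qc, z]; decide⟩
      exact ⟨a + b + c, add_mem (add_mem ha hb) hc, habc, by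
        rw [S.Q_add, S.Q_add, qa, qb, qc, map_add, LinearMap.add_apply, x, y, z]; decide⟩
    exact ⟨_, hU.sup_span hQ hv, Or.inr (by rw [finrank_sup_singleton hvU, hj])⟩

/-- A totally singular subspace pair in the complement of an anisotropic plane. -/
theorem exists_minus (S : QS V) {k : ℕ} (hV : finrank (ZMod 2) V = 2 * k) (hk : 1 ≤ k)
    (hno : ∀ U : Submodule (ZMod 2) V, S.TS U → finrank (ZMod 2) U < k) :
    ∃ u e, ∃ E T : Submodule (ZMod 2) V, S.Q u = 1 ∧ S.Q e = 1 ∧ S.B u e = 1 ∧ S.TS E ∧ S.TS T ∧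
      finrank (ZMod 2) E = k - 1 ∧ finrank (ZMod 2) T = k - 1 ∧ E ≤ S.lperp [u, e] ∧ T ≤ S.lperp [u, e] ∧
      E ⊓ T = ⊥ := by
  obtain ⟨U, hU, hUd⟩ := S.exists_ts_large
  have hUk := hno U hU
  have hp := S.finrank_perp U
  obtain ⟨u, hu, huU⟩ : ∃ u ∈ S.perp U, u ∉ U := SetLike.not_le_iff_exists.1 fun hle => by
    have := Submodule.finrank_mono hle; omega
  have hUu := finrank_sup_singleton huU
  obtain ⟨e, he, heU⟩ : ∃ e ∈ S.perp U, e ∉ U ⊔ Submodule.span (ZMod 2) {u} :=
    SetLike.not_le_iff_exists.1 fun hle => by have := Submodule.finrank_mono hle; omega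
  have one : ∀ v ∈ S.perp U, v ∉ U → S.Q v = 1 := fun v hv hvU => z2_ne_zero.1 fun h => by
    have := hno _ (hU.sup_span h hv)
    rw [finrank_sup_singleton hvU] at this
    omega
  have hQu := one u hu huU
  have hQe := one e he fun h => heU (Submodule.mem_sup_left h)
  have hQue := one (u + e) (add_mem hu he) fun h => heU (by
    have := Submodule.add_mem _ (Submodule.mem_sup_right (S := U) (Submodule.mem_span_singleton_self u))
      (Submodule.mem_sup_left (T := Submodule.span (ZMod 2) {u}) h)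
    rwa [v_add_add_cancel] at this)
  have hue : S.B u e = 1 := by
    have := S.Q_add u e
    rw [hQue, hQu, hQe, CharTwo.add_self_eq_zero, zero_add] at this
    exact this.symm
  set W := S.lperp [u, e] with hWdef
  have hUW : U ≤ W := fun x hx => S.mem_lperp.2 fun y hy => by
    simp only [List.mem_cons, List.not_mem_nil, or_false] at hy
    rcases hy with hy | hy <;> rw [hy, S.B_comm]
    · exact hu x hx
    · exact he x hx
  have hWnd : ∀ x ∈ W, (∀ y ∈ W, S.B x y = 0) → x = 0 := fun x hx hx' => S.nondeg x fun z => by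
    have h1 := S.mem_lperp.1 hx u (by simp)
    have h2 := S.mem_lperp.1 hx e (by simp)
    have hw : z + (S.B z e • u + S.B z u • e) ∈ W := S.mem_lperp.2 fun y hy => by
      simp only [List.mem_cons, List.not_mem_nil, or_false] at hy
      rcases hy with hy | hy <;> rw [hy] <;>
        simp [S.B_self, hue, S.B_comm e, S.B_comm u z, CharTwo.add_self_eq_zero]
    have := hx' _ hw
    simpa [S.B_comm x u, S.B_comm x e, h1, h2] using this
  have hWd : finrank (ZMod 2) W + 2 = 2 * k := by
    have h := S.finrank_lperp [u, e]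
    simp only [List.length_cons, List.length_nil] at h
    have hle : Submodule.span (ZMod 2) {x | x ∈ [u, e]} ⊓ W = ⊥ := (Submodule.eq_bot_iff _).2 fun x hx => by
      obtain ⟨hxs, hxW⟩ := hx
      rw [show {x | x ∈ [u, e]} = ({u, e} : Set V) by ext; simp, SetLike.mem_coe,
        Submodule.mem_span_pair] at hxs
      obtain ⟨s, t, rfl⟩ := hxs
      have a1 := S.mem_lperp.1 hxW u (by simp)
      have a2 := S.mem_lperp.1 hxW e (by simp)
      simp [S.B_self, hue, S.B_comm e u] at a1 a2
      simp [a1, a2]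
    have h3 := Submodule.finrank_sup_add_finrank_inf_eq (Submodule.span (ZMod 2) {x | x ∈ [u, e]}) W
    rw [hle, finrank_bot] at h3
    have h4 := Submodule.finrank_le (Submodule.span (ZMod 2) {x | x ∈ [u, e]} ⊔ W)
    have h5 : finrank (ZMod 2) (Submodule.span (ZMod 2) {x | x ∈ [u, e]}) + finrank (ZMod 2) W =
        finrank (ZMod 2) V := by
      rw [hWdef, QS.lperp, add_comm]; exact S.finrank_perp _
    have h6 : 2 ≤ finrank (ZMod 2) (Submodule.span (ZMod 2) {x | x ∈ [u, e]}) := by
      have hlt : Submodule.span (ZMod 2) {u} < Submodule.span (ZMod 2) {x | x ∈ [u, e]} :=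
        lt_of_le_of_ne (Submodule.span_mono (by simp)) fun h0 => heU (Submodule.mem_sup_right (by
          rw [h0]; exact Submodule.subset_span (by simp)))
      have := Submodule.finrank_lt_finrank_of_lt hlt
      rw [finrank_span_singleton (fun e0 : u = 0 => huU (by rw [e0]; exact zero_mem _))] at this
      omega
    have h8 : finrank (ZMod 2) (Submodule.span (ZMod 2) {x | x ∈ [u, e]}) ≤ 2 := by
      rw [show {x | x ∈ [u, e]} = ({u, e} : Set V) by ext; simp]
      have := QS.finrank_sup_pair_le (⊥ : Submodule (ZMod 2) V) u e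
      rwa [bot_sup_eq, finrank_bot] at this
    omega
  set U' := U.comap W.subtype with hU'
  have hU'd : finrank (ZMod 2) U' = finrank (ZMod 2) U := (Submodule.comapSubtypeEquivOfLe hUW).finrank_eq
  obtain ⟨T, hT, hTd, hdis⟩ := QS.exists_compl (S := S.restrict W hWnd) (E := U')
    (fun x hx => by rw [QS.restrict_Q]; exact hU _ hx) (by omega)
  refine ⟨u, e, U, T.map W.subtype, hQu, hQe, hue, hU, ?_, by omega, ?_, hUW, Submodule.map_subtype_le W T, ?_⟩
  · rintro x ⟨y, hy, rfl⟩; exact hT y hy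
  · rw [Submodule.finrank_map_subtype_eq, hTd, hU'd]; omega
  · refine (Submodule.eq_bot_iff _).2 ?_
    rintro x ⟨hxU, y, hy, rfl⟩
    rw [(Submodule.eq_bot_iff _).1 hdis y ⟨hxU, hy⟩]; rfl

end QS

variable {ι : Type} [Fintype ι] [DecidableEq ι] {F : Type*} [Field F]

namespace Ext

variable [FiniteDimensional (ZMod 2) V] {S : QS V} {f : (ι → F) → (ι → F) → F} {r : V → GL ι F}
  {G : Subgroup (GL ι F)} (E : Ext S f r G)
include E

/-- Commuting lifts of a totally singular subspace. -/
theorem exists_lift {U : Submodule (ZMod 2) V} (hU : S.TS U) :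
    ∃ χ : U → GL ι F, (∀ a b, χ (a + b) = χ a * χ b) ∧ ∀ a, PM (χ a) (r (a : V)) := by
  let A : Subgroup (GL ι F) :=
    { carrier := {g | ∃ a ∈ U, PM g (r a)}
      mul_mem' := fun ⟨a, ha, ea⟩ ⟨b, hb, eb⟩ => ⟨a + b, U.add_mem ha hb, (ea.mul eb).trans (E.r_add a b)⟩
      one_mem' := ⟨0, U.zero_mem, by rw [E.r_zero]; exact PM.refl 1⟩
      inv_mem' := fun ⟨a, ha, ea⟩ => ⟨a, ha, ea.inv.trans (E.r_inv a)⟩ }
  have hsq : ∀ g : A, g * g = 1 := fun ⟨g, a, ha, ea⟩ => Subtype.ext (by
    show g * g = 1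
    rcases ea with rfl | rfl <;> simp [E.r_sq, hU a ha])
  let _ : CommGroup A :=
    { (inferInstance : Group A) with
      mul_comm := fun a b => by
        have hinv : ∀ g : A, g⁻¹ = g := fun g => inv_eq_of_mul_eq_one_right (hsq g)
        conv_lhs => rw [← hinv (a * b), _root_.mul_inv_rev, hinv, hinv] }
  let _ : Module (ZMod 2) (Additive A) := AddCommGroup.zmodModule fun g => by
    rw [two_nsmul]; exact hsq g.toMul
  let b := Module.finBasis (ZMod 2) U
  let L := b.constr (ZMod 2) fun i => Additive.ofMul (⟨r (b i : V), _, (b i).2, PM.refl _⟩ : A)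
  refine ⟨fun a => (((L a).toMul : A) : GL ι F), fun a c => by simp only [map_add, toMul_add, Subgroup.coe_mul],
    fun a => ?_⟩
  have ha : a ∈ Submodule.span (ZMod 2) (Set.range b) := by rw [b.span_eq]; trivial
  induction ha using Submodule.span_induction with
  | mem x hx =>
    obtain ⟨i, rfl⟩ := hx
    show PM (((L (b i)).toMul : A) : GL ι F) _
    rw [show L (b i) = _ from b.constr_basis (ZMod 2) _ i]
    exact PM.refl _
  | zero => simp [E.r_zero, PM.refl]
  | add x y _ _ hx hy =>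
    show PM _ (r ((x : V) + y))
    simp only [map_add, toMul_add, Subgroup.coe_mul]
    exact (hx.mul hy).trans (E.r_add _ _)
  | smul s x _ hx =>
    rcases z2 s with rfl | rfl
    · simp [E.r_zero, PM.refl]
    · rwa [one_smul]

/-- The subgroup of the lifts of a totally singular subspace. -/
theorem exists_elementary {U : Submodule (ZMod 2) V} (hU : S.TS U) :
    ∃ A : Subgroup E.R, IsMulCommutative A ∧ (∀ x ∈ A, x * x = 1) ∧
      Nat.card A = 2 ^ (finrank (ZMod 2) U + 1) := by
  let A : Subgroup E.R :=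
    { carrier := {g | ∃ a ∈ U, PM (g : GL ι F) (r a)}
      mul_mem' := fun ⟨a, ha, ea⟩ ⟨b, hb, eb⟩ => ⟨a + b, U.add_mem ha hb, (ea.mul eb).trans (E.r_add a b)⟩
      one_mem' := ⟨0, U.zero_mem, by rw [E.r_zero]; exact PM.refl 1⟩
      inv_mem' := fun ⟨a, ha, ea⟩ => ⟨a, ha, ea.inv.trans (E.r_inv a)⟩ }
  have hsq : ∀ x ∈ A, x * x = 1 := fun x ⟨a, ha, ea⟩ => Subtype.ext (by
    show (x : GL ι F) * x = 1
    rcases ea with e | e <;> rw [e] <;> simp [E.r_sq, hU a ha])
  refine ⟨A, ⟨⟨fun a b => ?_⟩⟩, hsq, ?_⟩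
  · have hinv : ∀ g : A, g⁻¹ = g := fun g => inv_eq_of_mul_eq_one_right (Subtype.ext (hsq g g.2))
    conv_lhs => rw [← hinv (a * b), _root_.mul_inv_rev, hinv, hinv]
  have e : U × ZMod 2 ≃ A := by
    refine Equiv.ofBijective (fun p => ⟨⟨sgn p.2 * r (p.1 : V), p.1, pm_iff.2 ⟨p.2, rfl⟩⟩, p.1, p.1.2,
      pm_iff.2 ⟨p.2, rfl⟩⟩) ⟨fun p q h => ?_, fun g => ?_⟩
    · have h' : sgn p.2 * r (p.1 : V) = sgn q.2 * r (q.1 : V) :=
        congrArg (fun x : A => ((x : E.R) : GL ι F)) h
      have h1 : (p.1 : V) = q.1 := E.r_inj ((show PM (r (p.1 : V)) (sgn p.2 * r (p.1 : V)) from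
        (pm_iff.2 ⟨p.2, rfl⟩ : PM (sgn p.2 * r (p.1 : V)) _).symm).trans
        (h' ▸ pm_iff.2 ⟨q.2, rfl⟩))
      rw [h1] at h'
      exact Prod.ext (Subtype.ext h1) (E.sgn_inj (mul_right_cancel h'))
    · obtain ⟨a, ha, ea⟩ := g.2
      obtain ⟨x, hx⟩ := pm_iff.1 ea
      exact ⟨(⟨a, ha⟩, x), Subtype.ext (Subtype.ext hx.symm)⟩
  rw [← Nat.card_congr e, Nat.card_prod, Module.natCard_eq_pow_finrank (K := ZMod 2) (V := U), Nat.card_zmod,
    pow_succ]

/-- An elementary abelian subgroup gives a totally singular subspace. -/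
theorem exists_ts_of_elementary {A : Subgroup E.R} (hc : IsMulCommutative A) (hsq : ∀ x ∈ A, x * x = 1) {j : ℕ}
    (hA : Nat.card A = 2 ^ (j + 1)) : ∃ U : Submodule (ZMod 2) V, S.TS U ∧ j ≤ finrank (ZMod 2) U := by
  let U : Submodule (ZMod 2) V :=
    { carrier := {a | ∃ g ∈ A, PM (g : GL ι F) (r a)}
      add_mem' := fun {a b} ⟨g, hg, eg⟩ ⟨h, hh, eh⟩ => ⟨g * h, A.mul_mem hg hh, (eg.mul eh).trans (E.r_add a b)⟩
      zero_mem' := ⟨1, A.one_mem, by rw [E.r_zero]; exact PM.refl 1⟩
      smul_mem' := fun s a h => by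
        rcases z2 s with rfl | rfl
        · exact ⟨1, A.one_mem, by rw [zero_smul, E.r_zero]; exact PM.refl 1⟩
        · rwa [one_smul] }
  refine ⟨U, fun a ⟨g, hg, eg⟩ => ?_, ?_⟩
  · have h1 := congrArg Subtype.val (hsq g hg)
    rw [Subgroup.coe_mul, Subgroup.coe_one] at h1
    rcases eg with e | e <;> rw [e] at h1 <;> simp [E.r_sq] at h1 <;>
      exact E.sgn_inj (by rw [h1, sgn_zero])
  · have : Finite V := Module.finite_of_finite (ZMod 2)
    choose vec hvec using fun g : A => E.mem_R.1 (g : E.R).2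
    have hex : ∀ g : A, ∃ p : U × ZMod 2, ((g : E.R) : GL ι F) = sgn p.2 * r (p.1 : V) := fun g => by
      obtain ⟨x, hx⟩ := pm_iff.1 (hvec g)
      exact ⟨(⟨vec g, g, g.2, hvec g⟩, x), hx⟩
    choose p hp using hex
    have hinj : Function.Injective p := fun g g' h => Subtype.ext (Subtype.ext (by rw [hp, hp, h]))
    have := Nat.card_le_card_of_injective p hinj
    rw [hA, Nat.card_prod, Module.natCard_eq_pow_finrank (K := ZMod 2) (V := U), Nat.card_zmod,
      ← pow_succ, Nat.pow_le_pow_iff_right (by norm_num)] at this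
    omega

end Ext

end CfsgLib.ExtraTypeMax
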